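import Groth.Agent.Et18.H0Lift.SetGerms
import Groth.Agent.Et18.Subterminal

/-!
# The sheaf represented by an etale scheme and its germs
-/

set_option autoImplicit false
set_option backward.isDefEq.respectTransparency.types false
set_option backward.isDefEq.respectTransparency false

universe u

open CategoryTheory CategoryTheory.Limits AlgebraicGeometry Opposite
open Groth.Agent.Et18 Groth.Agent.Et18.H0Lift

namespace Groth.Agent.FlatMor12.EtBridge

variable {X : Scheme.{u}}

/-- Families of morphisms of etale schemes glue uniquely. -/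
theorem isSheaf_repPre (A : X.Etale) :
    Presieve.IsSheaf X.smallEtaleTopology (yoneda.obj A ⋙ uliftFunctor.{u + 1}) := by
  intro U S hS x hx
  haveI : Scheme.etaleTopology.{u}.Subcanonical :=
    .of_le (Scheme.etaleTopology_le_proetaleTopology.trans Scheme.proetaleTopology_le_fpqcTopology)
  obtain ⟨𝒰, h𝒰, hp, hle⟩ := (Scheme.mem_smallGrothendieckTopology _ _).1 hS
  let Z : 𝒰.I₀ → X.Etale := fun j => MorphismProperty.Over.mk _ (𝒰.X j ↘ X) (hp j)
  let z : ∀ j, Z j ⟶ U := fun j => MorphismProperty.Over.homMk (𝒰.f j) (comp_over (𝒰.f j) X)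
  have hz : ∀ j, S (z j) := fun j => hle _ _ ⟨j⟩
  have hcov : Sieve.generate (Presieve.ofArrows 𝒰.X 𝒰.f) ∈ Scheme.etaleTopology U.left :=
    Precoverage.generate_mem_toGrothendieck 𝒰.mem₀
  have hA := GrothendieckTopology.Subcanonical.isSheaf_of_isRepresentable
    (J := Scheme.etaleTopology.{u}) (yoneda.obj A.left)
  have hA' : Presieve.IsSheafFor (yoneda.obj A.left) (Presieve.ofArrows 𝒰.X 𝒰.f) := by
    rw [Presieve.isSheafFor_iff_generate]; exact hA _ hcov
  let xx : ∀ j, 𝒰.X j ⟶ A.left := fun j => (x (z j) (hz j)).down.left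
  have hxx : ∀ i j (W : Scheme.{u}) (gi : W ⟶ 𝒰.X i) (gj : W ⟶ 𝒰.X j), gi ≫ 𝒰.f i = gj ≫ 𝒰.f j →
      gi ≫ xx i = gj ≫ xx j := by
    intro i j W gi gj h
    haveI := hp i
    haveI := hp j
    haveI : Etale (𝒰.f i) := 𝒰.map_prop i
    haveI : Etale (𝒰.f j) := 𝒰.map_prop j
    let P : X.Etale := MorphismProperty.Over.mk _ (pullback.fst (𝒰.f i) (𝒰.f j) ≫ (𝒰.X i ↘ X)) (by
      show Etale _
      infer_instance)
    let a : P ⟶ Z i := MorphismProperty.Over.homMk (pullback.fst (𝒰.f i) (𝒰.f j)) rfl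
    let b : P ⟶ Z j := MorphismProperty.Over.homMk (pullback.snd (𝒰.f i) (𝒰.f j)) (by
      show pullback.snd (𝒰.f i) (𝒰.f j) ≫ (𝒰.X j ↘ X) = pullback.fst (𝒰.f i) (𝒰.f j) ≫ (𝒰.X i ↘ X)
      rw [← comp_over (𝒰.f j) X, ← comp_over (𝒰.f i) X, reassoc_of% pullback.condition])
    have hab : a ≫ z i = b ≫ z j := (Scheme.Etale.forget X).map_injective
      (Over.OverMorphism.ext pullback.condition)
    have e := congrArg (fun t : ULift.{u + 1} (P ⟶ A) => t.down.left) (hx a b (hz i) (hz j) hab)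
    change (pullback.fst (𝒰.f i) (𝒰.f j)) ≫ xx i = (pullback.snd (𝒰.f i) (𝒰.f j)) ≫ xx j at e
    calc gi ≫ xx i = pullback.lift gi gj h ≫ pullback.fst (𝒰.f i) (𝒰.f j) ≫ xx i := by
          rw [pullback.lift_fst_assoc]
      _ = pullback.lift gi gj h ≫ pullback.snd (𝒰.f i) (𝒰.f j) ≫ xx j := by rw [e]
      _ = gj ≫ xx j := by rw [pullback.lift_snd_assoc]
  obtain ⟨t, ht, htu⟩ := (Presieve.isSheafFor_arrows_iff _ _).1 hA' xx hxx
  have hext : ∀ (a b : U.left ⟶ X), (∀ j, 𝒰.f j ≫ a = 𝒰.f j ≫ b) → a = b := fun a b h => by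
    have hX : Presieve.IsSheafFor (yoneda.obj X) (Presieve.ofArrows 𝒰.X 𝒰.f) := by
      rw [Presieve.isSheafFor_iff_generate]
      exact GrothendieckTopology.Subcanonical.isSheaf_of_isRepresentable (J := Scheme.etaleTopology.{u})
        (yoneda.obj X) _ hcov
    obtain ⟨c, -, hc⟩ := (Presieve.isSheafFor_arrows_iff _ _).1 hX (fun j => 𝒰.f j ≫ a)
      (fun i j W gi gj e => by
        show gi ≫ 𝒰.f i ≫ a = gj ≫ 𝒰.f j ≫ a
        rw [reassoc_of% e])
    exact (hc a fun j => rfl).trans (hc b fun j => (h j).symm).symm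
  have hw : t ≫ A.hom = U.hom := hext _ _ fun j => by
    have hj : 𝒰.f j ≫ t = xx j := ht j
    rw [reassoc_of% hj]
    exact (Over.w (x (z j) (hz j)).down.hom).trans (comp_over (𝒰.f j) X).symm
  refine ⟨⟨MorphismProperty.Over.homMk t hw⟩, fun V g hg => ?_, fun y hy => ?_⟩
  · refine ULift.ext _ _ ((Scheme.Etale.forget X).map_injective (Over.OverMorphism.ext ?_))
    show g.left ≫ t = (x g hg).down.left
    haveI : Etale V.hom := V.prop
    haveI : ∀ j, Etale (𝒰.f j) := fun j => 𝒰.map_prop j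
    have hcov' : Sieve.generate (Presieve.ofArrows _ fun j => pullback.fst g.left (𝒰.f j)) ∈
        Scheme.etaleTopology V.left := Precoverage.generate_mem_toGrothendieck
      ((Scheme.ofArrows_mem_precoverage_iff (P := @Etale)).2 ⟨fun v => by
        obtain ⟨j, q, hq⟩ := 𝒰.exists_eq (g.left v)
        obtain ⟨p, hp1, -⟩ := Scheme.Pullback.exists_preimage_pullback (f := g.left) (g := 𝒰.f j) v q hq.symm
        exact ⟨j, p, hp1⟩, fun j => inferInstance⟩)
    have hV : Presieve.IsSheafFor (yoneda.obj A.left) (Presieve.ofArrows _ fun j => pullback.fst g.left (𝒰.f j)) := by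
      rw [Presieve.isSheafFor_iff_generate]; exact hA _ hcov'
    refine hV.isSeparatedFor.ext ?_
    rintro W f ⟨j⟩
    show pullback.fst g.left (𝒰.f j) ≫ g.left ≫ t = pullback.fst g.left (𝒰.f j) ≫ (x g hg).down.left
    have hj : 𝒰.f j ≫ t = xx j := ht j
    rw [pullback.condition_assoc, hj]
    let P : X.Etale := MorphismProperty.Over.mk _ (pullback.fst g.left (𝒰.f j) ≫ V.hom) (by
      show Etale _
      infer_instance)
    let a : P ⟶ V := MorphismProperty.Over.homMk (pullback.fst g.left (𝒰.f j)) rfl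
    let b : P ⟶ Z j := MorphismProperty.Over.homMk (pullback.snd g.left (𝒰.f j)) (by
      show pullback.snd g.left (𝒰.f j) ≫ (𝒰.X j ↘ X) = pullback.fst g.left (𝒰.f j) ≫ V.hom
      have hgw : g.left ≫ U.hom = V.hom := Over.w g.hom
      rw [← comp_over (𝒰.f j) X, ← hgw, ← reassoc_of% pullback.condition]
      rfl)
    have hab : a ≫ g = b ≫ z j := (Scheme.Etale.forget X).map_injective
      (Over.OverMorphism.ext pullback.condition)
    exact (congrArg (fun t : ULift.{u + 1} (P ⟶ A) => t.down.left) (hx a b hg (hz j) hab)).symm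
  · refine ULift.ext _ _ ((Scheme.Etale.forget X).map_injective (Over.OverMorphism.ext ?_))
    exact htu y.down.left fun j => congrArg (fun t : ULift.{u + 1} (Z j ⟶ A) => t.down.left) (hy (z j) (hz j))

/-- The sheaf represented by an etale scheme. -/
noncomputable def repS (A : X.Etale) : EtDesc.Sh X :=
  ⟨yoneda.obj A ⋙ uliftFunctor.{u + 1}, (isSheaf_iff_isSheaf_of_type _ _).2 (isSheaf_repPre A)⟩

/-- The tautological section. -/
def univ (A : X.Etale) : EtDesc.sect (repS A) A := ⟨𝟙 A⟩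

theorem map_univ {A U : X.Etale} (k : U ⟶ A) : (repS A).obj.map k.op (univ A) = ⟨k⟩ :=
  ULift.ext _ _ (Category.comp_id k)

/-- The morphism out of a represented sheaf given by a section. -/
def ofSect {A : X.Etale} {F : EtDesc.Sh X} (s : EtDesc.sect F A) : repS A ⟶ F :=
  ⟨{ app := fun U => ↾fun k => F.obj.map k.down.op s
     naturality := fun U U' a => by
       ext k
       exact Functor.map_comp_apply F.obj k.down.op a s }⟩

theorem ofSect_univ {A : X.Etale} {F : EtDesc.Sh X} (s : EtDesc.sect F A) :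
    (ofSect s).hom.app (op A) (univ A) = s :=
  Functor.map_id_apply F.obj (op A) s

variable {Ω : Type u} [Field Ω] [IsSepClosed Ω] (ξ : Spec (CommRingCat.of Ω) ⟶ X) (A : X.Etale)

/-- The germ given by a geometric point. -/
noncomputable def pt (d : (Scheme.pointSmallEtale ξ).fiber.obj A) : (stalkSh ξ).obj (repS A) :=
  gmS (repS A) ξ A d (univ A)

theorem gmS_rep (U : X.Etale) (v : (Scheme.pointSmallEtale ξ).fiber.obj U) (k : U ⟶ A) :
    gmS (repS A) ξ U v ⟨k⟩ = pt ξ A ((Scheme.pointSmallEtale ξ).fiber.map k v) := by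
  rw [← map_univ k, gmS_map]; rfl

theorem surjective_pt : Function.Surjective (pt ξ A) := fun e => by
  obtain ⟨U, v, s, rfl⟩ := (Scheme.pointSmallEtale ξ).toPresheafFiber_jointly_surjective (P := (repS A).obj) e
  exact ⟨_, (gmS_rep ξ A U v s.down).symm⟩

theorem injective_pt : Function.Injective (pt ξ A) := by
  classical
  intro d d' h
  let Φ := Scheme.pointSmallEtale ξ
  let G : X.Etale := A
  obtain ⟨U, g₁, g₂, w, hw₁, hw₂⟩ : ∃ (U : X.Etale) (g₁ g₂ : U ⟶ A) (w : Φ.fiber.obj U),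
      Φ.fiber.map g₁ w = d ∧ Φ.fiber.map g₂ w = d' := by
    haveI : Etale A.hom := A.prop
    let P : X.Etale := MorphismProperty.Over.mk _ (pullback.fst A.hom A.hom ≫ A.hom) (by
      show Etale _
      infer_instance)
    let dl : Spec (CommRingCat.of Ω) ⟶ A.left := d.left
    let dl' : Spec (CommRingCat.of Ω) ⟶ A.left := d'.left
    refine ⟨P, MorphismProperty.Over.homMk (pullback.fst A.hom A.hom) rfl,
      MorphismProperty.Over.homMk (pullback.snd A.hom A.hom) pullback.condition.symm,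
      Over.homMk (pullback.lift dl dl' ((Over.w d).trans (Over.w d').symm)) ?_, ?_, ?_⟩
    · show pullback.lift dl dl' _ ≫ pullback.fst A.hom A.hom ≫ A.hom = ξ
      rw [pullback.lift_fst_assoc]; exact Over.w d
    · exact Over.OverMorphism.ext (pullback.lift_fst _ _ _)
    · exact Over.OverMorphism.ext (pullback.lift_snd _ _ _)
  subst hw₁ hw₂
  rw [← gmS_rep, ← gmS_rep] at h
  obtain ⟨W, f, y, hy, e⟩ := (Φ.toPresheafFiber_eq_iff' (P := (repS A).obj) U w ⟨g₁⟩ ⟨g₂⟩).1 h
  have e' : f ≫ g₁ = f ≫ g₂ := congrArg (fun t : ULift.{u + 1} (W ⟶ A) => t.down) e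
  rw [← hy, ← ConcreteCategory.comp_apply, ← Functor.map_comp, e', Functor.map_comp,
    ConcreteCategory.comp_apply]

theorem bijective_pt : Function.Bijective (pt ξ A) := ⟨injective_pt ξ A, surjective_pt ξ A⟩

end Groth.Agent.FlatMor12.EtBridge
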