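import Groth.Agent.FlatMor12.EtBridge.Sec

/-!
# Descent data as actions
-/

set_option autoImplicit false
set_option backward.isDefEq.respectTransparency false
set_option backward.isDefEq.respectTransparency.types false

universe u

open CategoryTheory CategoryTheory.Limits AlgebraicGeometry

namespace Groth.Agent.FlatMor12.EtBridge

variable {S T E : Scheme.{u}} (g : T ⟶ S) (π : E ⟶ T)

/-- The unit of an action. -/
noncomputable def unitMap : E ⟶ pullback (π ≫ g) g :=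
  pullback.lift (𝟙 E) π (Category.id_comp _)

/-- Two points over a point. -/
noncomputable def sndMap : pullback (pullback.snd (π ≫ g) g ≫ g) g ⟶ pullback (π ≫ g) g :=
  pullback.lift (pullback.fst _ _ ≫ pullback.fst _ _) (pullback.snd _ _)
    (by rw [Category.assoc, pullback.condition, pullback.condition])

/-- The action on the first point. -/
noncomputable def actMap (Θ : pullback (π ≫ g) g ⟶ E) (h : Θ ≫ π = pullback.snd _ _) :
    pullback (pullback.snd (π ≫ g) g ≫ g) g ⟶ pullback (π ≫ g) g :=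
  pullback.lift (pullback.fst _ _ ≫ Θ) (pullback.snd _ _)
    (by rw [Category.assoc, reassoc_of% h, pullback.condition])

/-- An action of the kernel pair of `g`. -/
structure IsAct (Θ : pullback (π ≫ g) g ⟶ E) : Prop where
  over : Θ ≫ π = pullback.snd _ _
  unit : unitMap g π ≫ Θ = 𝟙 E
  assoc : actMap g π Θ over ≫ Θ = sndMap g π ≫ Θ

variable {g π} {Θ : pullback (π ≫ g) g ⟶ E}

theorem IsAct.self (hΘ : IsAct g π Θ) {Z : Scheme.{u}} (v : Z ⟶ E) (x : Z ⟶ T) (e : v ≫ π = x)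
    (w : v ≫ π ≫ g = x ≫ g) : pullback.lift v x w ≫ Θ = v := by
  subst e
  have : pullback.lift v (v ≫ π) w = v ≫ unitMap g π := by
    apply pullback.hom_ext <;> simp [unitMap]
  rw [this, Category.assoc, hΘ.unit, Category.comp_id]

theorem IsAct.comp (hΘ : IsAct g π Θ) {Z : Scheme.{u}} (v : Z ⟶ E) (x₁ x₂ : Z ⟶ T)
    (w₁ : v ≫ π ≫ g = x₁ ≫ g) (w₂ : (pullback.lift v x₁ w₁ ≫ Θ) ≫ π ≫ g = x₂ ≫ g)
    (w₃ : v ≫ π ≫ g = x₂ ≫ g) :
    pullback.lift (pullback.lift v x₁ w₁ ≫ Θ) x₂ w₂ ≫ Θ = pullback.lift v x₂ w₃ ≫ Θ := by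
  let L : Z ⟶ pullback (pullback.snd (π ≫ g) g ≫ g) g :=
    pullback.lift (pullback.lift v x₁ w₁) x₂ (by rw [pullback.lift_snd_assoc, ← w₁, w₃])
  have e₁ : pullback.lift (pullback.lift v x₁ w₁ ≫ Θ) x₂ w₂ = L ≫ actMap g π Θ hΘ.over := by
    apply pullback.hom_ext <;> simp [L, actMap]
  have e₂ : pullback.lift v x₂ w₃ = L ≫ sndMap g π := by
    apply pullback.hom_ext <;> simp [L, sndMap]
  rw [e₁, e₂, Category.assoc, Category.assoc, hΘ.assoc]

theorem act_cond {Z : Scheme.{u}} {x₀ x₁ : Z ⟶ T} (h : x₀ ≫ g = x₁ ≫ g)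
    (v : Desc.Lifts (Over.mk π) x₀) : v.1 ≫ π ≫ g = x₁ ≫ g := by
  rw [← h, ← Category.assoc]
  exact congrArg (· ≫ g) v.2

/-- The datum of an action. -/
noncomputable def ofAct (hΘ : IsAct g π Θ) : Desc.SchDD g where
  obj := Over.mk π
  φ Z x₀ x₁ h :=
    { toFun := fun v => ⟨pullback.lift v.1 x₁ (act_cond h v) ≫ Θ, by
        show (_ ≫ Θ) ≫ π = x₁
        rw [Category.assoc, hΘ.over, pullback.lift_snd]⟩
      invFun := fun v => ⟨pullback.lift v.1 x₀ (act_cond h.symm v) ≫ Θ, by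
        show (_ ≫ Θ) ≫ π = x₀
        rw [Category.assoc, hΘ.over, pullback.lift_snd]⟩
      left_inv := fun v => Subtype.ext ((hΘ.comp v.1 x₁ x₀ _ _ (act_cond rfl v)).trans (hΘ.self v.1 x₀ v.2 _))
      right_inv := fun v => Subtype.ext ((hΘ.comp v.1 x₀ x₁ _ _ (act_cond rfl v)).trans (hΘ.self v.1 x₁ v.2 _)) }
  φ_natural Z Z' l x₀ x₁ h h' v v' hv := by
    show pullback.lift v'.1 (l ≫ x₁) _ ≫ Θ = l ≫ pullback.lift v.1 x₁ _ ≫ Θ
    rw [← Category.assoc l]
    refine congrArg (· ≫ Θ) ?_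
    apply pullback.hom_ext <;> simp [hv]
  φ_self Z x v := Subtype.ext (hΘ.self v.1 x v.2 _)
  φ_comp Z x₀ x₁ x₂ h₀₁ h₁₂ v := Subtype.ext (hΘ.comp v.1 x₁ x₂ _ _ _)

/-- The action of a datum. -/
noncomputable def actOf (D : Desc.SchDD g) : pullback (D.obj.hom ≫ g) g ⟶ D.obj.left :=
  (D.φ (pullback.fst (D.obj.hom ≫ g) g ≫ D.obj.hom) (pullback.snd _ _)
    (by rw [Category.assoc, pullback.condition]) ⟨pullback.fst _ _, rfl⟩).1

theorem φ_eq_actOf (D : Desc.SchDD g) {Z : Scheme.{u}} {x₀ x₁ : Z ⟶ T} (h : x₀ ≫ g = x₁ ≫ g)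
    (v : Desc.Lifts D.obj x₀) (w : v.1 ≫ D.obj.hom ≫ g = x₁ ≫ g) :
    (D.φ x₀ x₁ h v).1 = pullback.lift v.1 x₁ w ≫ actOf D :=
  φ_natural' D (pullback.lift v.1 x₁ w) (by rw [Category.assoc, pullback.condition])
    (by rw [pullback.lift_fst_assoc]; exact v.2) (pullback.lift_snd _ _ _) h _ v
    (pullback.lift_fst _ _ _).symm

theorem isAct_actOf (D : Desc.SchDD g) : IsAct g D.obj.hom (actOf D) := by
  have ho : actOf D ≫ D.obj.hom = pullback.snd _ _ :=
    (D.φ (pullback.fst (D.obj.hom ≫ g) g ≫ D.obj.hom) (pullback.snd _ _) _ ⟨pullback.fst _ _, rfl⟩).2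
  refine ⟨ho, ?_, ?_⟩
  · rw [unitMap, ← φ_eq_actOf D (x₀ := D.obj.hom) rfl ⟨𝟙 _, Category.id_comp _⟩, D.φ_self]
  · let P := pullback (pullback.snd (D.obj.hom ≫ g) g ≫ g) g
    let x₀ : P ⟶ T := (pullback.fst _ _ ≫ pullback.fst _ _) ≫ D.obj.hom
    let x₁ : P ⟶ T := pullback.fst _ _ ≫ pullback.snd _ _
    let v : Desc.Lifts D.obj x₀ := ⟨pullback.fst _ _ ≫ pullback.fst _ _, rfl⟩
    have h₀₁ : x₀ ≫ g = x₁ ≫ g := by simp only [x₀, x₁, Category.assoc, pullback.condition]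
    have h₁₂ : x₁ ≫ g = pullback.snd _ _ ≫ g := by simp only [x₁, Category.assoc, pullback.condition]
    have e : (D.φ x₀ x₁ h₀₁ v).1 = pullback.fst _ _ ≫ actOf D :=
      φ_natural' D (pullback.fst _ _) (by rw [Category.assoc, pullback.condition])
        (Category.assoc _ _ _).symm rfl h₀₁ _ v rfl
    have e₂ := φ_eq_actOf D (h₀₁.trans h₁₂) v (by simp [v, pullback.condition])
    rw [← D.φ_comp x₀ x₁ _ h₀₁ h₁₂ v,
      φ_eq_actOf D h₁₂ _ (by rw [← h₁₂, ← Category.assoc]; exact congrArg (· ≫ g) (D.φ x₀ x₁ h₀₁ v).2)] at e₂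
    simpa only [e, actMap, sndMap, v] using e₂

section Nat

variable {S T E T' E' : Scheme.{u}} {g : T ⟶ S} {π : E ⟶ T} {g' : T' ⟶ S} {π' : E' ⟶ T'}
  (m : E' ⟶ E) (b : T' ⟶ T) (hm : m ≫ π = π' ≫ b) (hb : b ≫ g = g')

/-- The induced map of pairs. -/
noncomputable def map₁ : pullback (π' ≫ g') g' ⟶ pullback (π ≫ g) g :=
  pullback.lift (pullback.fst _ _ ≫ m) (pullback.snd _ _ ≫ b) (by
    simp only [Category.assoc, reassoc_of% hm, hb, pullback.condition])

/-- The induced map of triples. -/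
noncomputable def map₂ : pullback (pullback.snd (π' ≫ g') g' ≫ g') g' ⟶
    pullback (pullback.snd (π ≫ g) g ≫ g) g :=
  pullback.lift (pullback.fst _ _ ≫ map₁ m b hm hb) (pullback.snd _ _ ≫ b) (by
    simp only [map₁, Category.assoc, pullback.lift_snd_assoc, hb, pullback.condition])

theorem unit_nat : unitMap g' π' ≫ map₁ m b hm hb = m ≫ unitMap g π := by
  apply pullback.hom_ext
  · simp only [unitMap, map₁, Category.assoc, pullback.lift_fst, pullback.lift_fst_assoc]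
    exact (Category.id_comp m).trans (Category.comp_id m).symm
  · simp [unitMap, map₁, hm]

theorem snd_nat : sndMap g' π' ≫ map₁ m b hm hb = map₂ m b hm hb ≫ sndMap g π := by
  apply pullback.hom_ext <;> simp [sndMap, map₁, map₂]

theorem act_nat {Θ : pullback (π ≫ g) g ⟶ E} {Θ' : pullback (π' ≫ g') g' ⟶ E'}
    (h : Θ ≫ π = pullback.snd _ _) (h' : Θ' ≫ π' = pullback.snd _ _) (e : Θ' ≫ m = map₁ m b hm hb ≫ Θ) :
    actMap g' π' Θ' h' ≫ map₁ m b hm hb = map₂ m b hm hb ≫ actMap g π Θ h := by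
  apply pullback.hom_ext
  · simp only [actMap, map₂, Category.assoc, pullback.lift_fst, pullback.lift_fst_assoc]
    rw [← e]
    simp [map₁]
  · simp [actMap, map₁, map₂]

end Nat

end Groth.Agent.FlatMor12.EtBridge
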