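import Mathlib.AlgebraicGeometry.Morphisms.Affine
import Mathlib.CategoryTheory.Filtered.Basic
import Mathlib.AlgebraicGeometry.Pullbacks

/-!
# Products over a base of systems of schemes
-/

set_option autoImplicit false
set_option backward.isDefEq.respectTransparency false
set_option backward.isDefEq.respectTransparency.types false

universe u

open CategoryTheory CategoryTheory.Limits AlgebraicGeometry

namespace Groth.Agent.FlatMor12.EtBridge

variable {J : Type u} [SmallCategory J] {S : Scheme.{u}} {A B : J ⥤ Scheme.{u}}
  (a : A ⟶ (Functor.const J).obj S) (b : B ⟶ (Functor.const J).obj S)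

theorem map_app {i j : J} (f : i ⟶ j) : A.map f ≫ a.app j = a.app i := by simp [a.naturality f]

/-- The product over `S` of two systems. -/
noncomputable def prodDia : J ⥤ Scheme.{u} where
  obj j := pullback (a.app j) (b.app j)
  map f := pullback.map _ _ _ _ (A.map f) (B.map f) (𝟙 S)
    ((Category.comp_id _).trans (map_app a f).symm) ((Category.comp_id _).trans (map_app b f).symm)
  map_id j := by apply pullback.hom_ext <;> simp
  map_comp f g := by apply pullback.hom_ext <;> simp

theorem prodDia_map_fst {i j : J} (f : i ⟶ j) :
    (prodDia a b).map f ≫ pullback.fst _ _ = pullback.fst _ _ ≫ A.map f :=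
  pullback.lift_fst _ _ _

theorem prodDia_map_snd {i j : J} (f : i ⟶ j) :
    (prodDia a b).map f ≫ pullback.snd _ _ = pullback.snd _ _ ≫ B.map f :=
  pullback.lift_snd _ _ _

theorem isAffineHom_prodDia_map [∀ {i j} (f : i ⟶ j), IsAffineHom (A.map f)]
    [∀ {i j} (f : i ⟶ j), IsAffineHom (B.map f)] {i j : J} (f : i ⟶ j) :
    IsAffineHom ((prodDia a b).map f) :=
  MorphismProperty.pullbackMap (P := @IsAffineHom) inferInstance inferInstance
    (map_app a f).symm (map_app b f).symm

variable {a b} {cA : Cone A} {cB : Cone B} {P : Scheme.{u}} {pa : P ⟶ cA.pt} {pb : P ⟶ cB.pt}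
  {sa : cA.pt ⟶ S} {sb : cB.pt ⟶ S} (ha : ∀ j, cA.π.app j ≫ a.app j = sa)
  (hb : ∀ j, cB.π.app j ≫ b.app j = sb)

/-- The product cone. -/
noncomputable def prodCone (sq : IsPullback pa pb sa sb) : Cone (prodDia a b) where
  pt := P
  π :=
    { app := fun j => pullback.lift (pa ≫ cA.π.app j) (pb ≫ cB.π.app j)
        (by rw [Category.assoc, Category.assoc, ha, hb, sq.w])
      naturality := fun i j f => by
        apply pullback.hom_ext
        · simp [prodDia_map_fst]
        · simp [prodDia_map_snd] }

theorem prodCone_fst (sq : IsPullback pa pb sa sb) (j : J) :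
    (prodCone ha hb sq).π.app j ≫ pullback.fst _ _ = pa ≫ cA.π.app j :=
  pullback.lift_fst _ _ _

theorem prodCone_snd (sq : IsPullback pa pb sa sb) (j : J) :
    (prodCone ha hb sq).π.app j ≫ pullback.snd _ _ = pb ≫ cB.π.app j :=
  pullback.lift_snd _ _ _

/-- Products over the base commute with limits. -/
noncomputable def isLimitProdCone [IsCofiltered J] (hA : IsLimit cA) (hB : IsLimit cB)
    (sq : IsPullback pa pb sa sb) : IsLimit (prodCone ha hb sq) :=
  let sA : Cone (prodDia a b) → Cone A := fun s =>
    { pt := s.pt
      π := { app := fun j => s.π.app j ≫ pullback.fst _ _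
             naturality := fun i j f => by simp [← prodDia_map_fst a b f] } }
  let sB : Cone (prodDia a b) → Cone B := fun s =>
    { pt := s.pt
      π := { app := fun j => s.π.app j ≫ pullback.snd _ _
             naturality := fun i j f => by simp [← prodDia_map_snd a b f] } }
  { lift := fun s => sq.lift (hA.lift (sA s)) (hB.lift (sB s)) (by
      obtain ⟨j⟩ := (IsCofiltered.nonempty : Nonempty J)
      rw [← ha j, ← hb j, hA.fac_assoc, hB.fac_assoc]
      simp [sA, sB, pullback.condition])
    fac := fun s j => by
      apply pullback.hom_ext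
      · rw [Category.assoc, prodCone_fst, sq.lift_fst_assoc, hA.fac]
      · rw [Category.assoc, prodCone_snd, sq.lift_snd_assoc, hB.fac]
    uniq := fun s m hm => by
      apply sq.hom_ext
      · rw [sq.lift_fst]
        refine hA.hom_ext fun j => ?_
        rw [hA.fac, Category.assoc, ← prodCone_fst ha hb sq, ← Category.assoc, hm]
      · rw [sq.lift_snd]
        refine hB.hom_ext fun j => ?_
        rw [hB.fac, Category.assoc, ← prodCone_snd ha hb sq, ← Category.assoc, hm] }

end Groth.Agent.FlatMor12.EtBridge
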