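import Groth.Agent.FlatMor12.EtBridge.Act
import Groth.Agent.FlatMor12.EtBridge.ProdLimit
import Groth.Agent.LimSmooth.Scheme
import Groth.Agent.H8Lim.SchemeDescent
import Groth.Agent.H8Lim.SeparatedLimit

/-!
# Etale descent data descend to a stage of an affine limit
-/

set_option autoImplicit false
set_option backward.isDefEq.respectTransparency false
set_option backward.isDefEq.respectTransparency.types false
set_option maxHeartbeats 1000000

universe u

open CategoryTheory CategoryTheory.Limits AlgebraicGeometry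

namespace Groth.Agent.FlatMor12.EtBridge

variable {J : Type u} [SmallCategory J] [IsCofiltered J] {F : J ⥤ Scheme.{u}}

/-- The constant system. -/
noncomputable def constMap {S X : Scheme.{u}} (f : X ⟶ S) :
    (Functor.const J).obj X ⟶ (Functor.const J).obj S := (Functor.const J).map f

/-- The constant cone is a limit. -/
noncomputable def constCone (X : Scheme.{u}) : Cone ((Functor.const J).obj X) := ⟨X, 𝟙 _⟩

noncomputable def isLimitConstCone (X : Scheme.{u}) : IsLimit (constCone (J := J) X) :=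
  letI : IsConnected J := IsCofiltered.isConnected J
  { lift := fun s => s.π.app IsCofiltered.nonempty.some
    fac := fun s j => (Category.comp_id _).trans
      (constant_of_preserves_morphisms (α := s.pt ⟶ X) (fun k => s.π.app k)
        (fun i k f => (Category.comp_id _).symm.trans (s.w f)) _ _)
    uniq := fun s m hm => (Category.comp_id m).symm.trans (hm _) }

section

variable [∀ j, IsAffine (F.obj j)] {c : Cone F} (hc : IsLimit c) [IsAffine c.pt]

include hc in
/-- A separated etale quasi-compact scheme over the limit comes from a stage. -/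
theorem exists_stage_etale {E' : Scheme.{u}} (π' : E' ⟶ c.pt) [Etale π'] [IsSeparated π'] [QuasiCompact π'] :
    ∃ (i : J) (E₀ : Scheme.{u}) (π₀ : E₀ ⟶ F.obj i) (q : E' ⟶ E₀),
      Etale π₀ ∧ IsSeparated π₀ ∧ QuasiCompact π₀ ∧ IsPullback q π' π₀ (c.π.app i) := by
  haveI : ∀ {i j : J} (f : i ⟶ j), IsAffineHom (F.map f) := fun f => inferInstance
  obtain ⟨i, X, h, q, hl, hqc, hqs, sq⟩ := H8Lim.exists_stage_scheme hc π'
  haveI := hl
  haveI := hqc
  haveI : CompactSpace X := QuasiCompact.compactSpace_of_compactSpace h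
  obtain ⟨j, φ, Xj, Yj, fj, gj, pY, pX, hY, hX, hj⟩ :=
    LimSmooth.exists_stage hc (g₀ := 𝟙 (F.obj i)) (f₀ := h) (f := π') (g := 𝟙 c.pt) (qY := c.π.app i)
      IsPullback.of_id_snd sq LimSmooth.affineSpreads_etale (fun _ _ ↦ inferInstance) ‹Etale π'›
  haveI : IsIso gj := hY.isIso_snd_of_isIso
  haveI := hj
  haveI hE : Etale (pullback.snd h (F.map φ)) :=
    H8Lim.prop_snd_of_isPullback (by simpa using hX.paste_vert hY) (inferInstance : Etale (fj ≫ gj))
  let π := pullback.snd h (F.map φ)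
  haveI : QuasiCompact π := MorphismProperty.pullback_snd (P := @QuasiCompact) _ _ hqc
  haveI : QuasiSeparated π := MorphismProperty.pullback_snd (P := @QuasiSeparated) _ _ hqs
  have ej : q ≫ h = (π' ≫ c.π.app j) ≫ F.map φ := by rw [Category.assoc, c.w, sq.w]
  let qj := pullback.lift q (π' ≫ c.π.app j) ej
  have sqj : IsPullback qj π' π (c.π.app j) := H8Lim.isPullback_later sq φ ej
  -- separatedness
  let tA : Over.forget j ⋙ F ⟶ (Functor.const (Over j)).obj (F.obj j) :=
    { app := fun k => F.map k.hom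
      naturality := fun k l f => by
        simp only [Functor.comp_map, Functor.const_obj_map, Category.comp_id, ← F.map_comp]
        exact congrArg F.map (Over.w f) }
  let cA := c.whisker (Over.forget j)
  have hcA : IsLimit cA := (Functor.Initial.isLimitWhiskerEquiv (Over.forget j) c).symm hc
  let K := prodDia (constMap (J := Over j) π) tA
  let cK : Cone K := prodCone (cA := constCone _) (cB := cA) (fun _ => Category.id_comp _) (fun k => c.w k.hom) sqj
  have hcK : IsLimit cK := isLimitProdCone _ _ (isLimitConstCone _) hcA sqj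
  let tK : K ⟶ (Functor.const (Over j)).obj (F.obj j) :=
    { app := fun k => pullback.snd _ _ ≫ tA.app k
      naturality := fun k l f => by
        rw [← Category.assoc, prodDia_map_snd, Category.assoc, map_app tA f]
        simp }
  haveI : ∀ {k l : Over j} (f : k ⟶ l), IsAffineHom ((Over.forget j ⋙ F).map f) := fun f =>
    inferInstanceAs (IsAffineHom (F.map f.left))
  haveI : ∀ {k l : Over j} (f : k ⟶ l), IsAffineHom (((Functor.const (Over j)).obj (pullback h (F.map φ))).map f) :=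
    fun f => inferInstanceAs (IsAffineHom (𝟙 _))
  haveI : ∀ {k l : Over j} (f : k ⟶ l), IsAffineHom (K.map f) := fun f => isAffineHom_prodDia_map _ _ f
  haveI : ∀ k, CompactSpace (K.obj k) := fun k =>
    haveI : QuasiCompact (pullback.snd π (F.map k.hom)) := inferInstance
    QuasiCompact.compactSpace_of_compactSpace (pullback.snd π (F.map k.hom))
  haveI : ∀ k, QuasiSeparatedSpace (K.obj k) := fun k =>
    haveI : QuasiSeparated (pullback.snd π (F.map k.hom)) := inferInstance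
    quasiSeparatedSpace_of_quasiSeparated (pullback.snd π (F.map k.hom))
  haveI : IsSeparated (π' ≫ c.π.app j) := inferInstance
  obtain ⟨k, hk⟩ := H8Lim.exists_forall_isSeparated (t := tK) (c := cK) (s := π' ≫ c.π.app j) (fun k => by
    show cK.π.app k ≫ pullback.snd _ _ ≫ tA.app k = _
    rw [← Category.assoc, prodCone_snd, Category.assoc]
    exact congrArg (π' ≫ ·) (c.w k.hom)) hcK
  haveI : IsSeparated (pullback.snd π (F.map k.hom) ≫ F.map k.hom) := hk k (𝟙 k)
  refine ⟨k.left, pullback π (F.map k.hom), pullback.snd π (F.map k.hom), _,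
    MorphismProperty.pullback_snd (P := @Etale) _ _ hE, IsSeparated.of_comp _ (F.map k.hom), inferInstance,
    H8Lim.isPullback_later sqj k.hom
      (sqj.w.trans ((congrArg (π' ≫ ·) (c.w k.hom).symm).trans (Category.assoc _ _ _).symm))⟩

variable {S : Scheme.{u}} [IsAffine S] (t : F ⟶ (Functor.const J).obj S) {gc : c.pt ⟶ S}
  (hgc : ∀ j, c.π.app j ≫ t.app j = gc)

include hc hgc in
/-- A datum with separated etale quasi-compact scheme over the limit comes from a stage. -/
theorem exists_stage_datum (D : Desc.SchDD gc) [Etale D.obj.hom] [IsSeparated D.obj.hom]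
    [QuasiCompact D.obj.hom] :
    ∃ (i : J) (D₁ : Desc.SchDD (t.app i)) (q : D.obj.left ⟶ D₁.obj.left),
      Etale D₁.obj.hom ∧ IsSeparated D₁.obj.hom ∧ QuasiCompact D₁.obj.hom ∧
      IsPullback q D.obj.hom D₁.obj.hom (c.π.app i) ∧
      ∀ ⦃Z : Scheme.{u}⦄ (x₀ x₁ : Z ⟶ c.pt) (h : x₀ ≫ gc = x₁ ≫ gc) (v : Desc.Lifts D.obj x₀)
        (h' : (x₀ ≫ c.π.app i) ≫ t.app i = (x₁ ≫ c.π.app i) ≫ t.app i)
        (v' : Desc.Lifts D₁.obj (x₀ ≫ c.π.app i)), v'.1 = v.1 ≫ q →
        (D.φ x₀ x₁ h v).1 ≫ q = (D₁.φ (x₀ ≫ c.π.app i) (x₁ ≫ c.π.app i) h' v').1 := by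
  obtain ⟨i, E₀, π₀, q₀, hE, hSep, hQc, sq⟩ := exists_stage_etale hc D.obj.hom
  haveI := hE
  haveI := hSep
  haveI := hQc
  let π' := D.obj.hom
  let Θ' := actOf D
  have hΘ' : IsAct gc π' Θ' := isAct_actOf D
  let A := Over.forget i ⋙ F
  let cA := c.whisker (Over.forget i)
  have hcA : IsLimit cA := (Functor.Initial.isLimitWhiskerEquiv (Over.forget i) c).symm hc
  let tA : A ⟶ (Functor.const (Over i)).obj (F.obj i) :=
    { app := fun k => F.map k.hom
      naturality := fun k l f => by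
        simp only [A, Functor.comp_map, Functor.const_obj_map, Category.comp_id, ← F.map_comp]
        exact congrArg F.map (Over.w f) }
  let tS : A ⟶ (Functor.const (Over i)).obj S :=
    { app := fun k => t.app k.left
      naturality := fun k l f => t.naturality f.left }
  have hcS : ∀ k, cA.π.app k ≫ tS.app k = gc := fun k => hgc k.left
  -- the three systems
  let K := prodDia (constMap (J := Over i) π₀) tA
  let cK : Cone K := prodCone (cA := constCone _) (cB := cA) (fun _ => Category.id_comp _) (fun k => c.w k.hom) sq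
  have hcK : IsLimit cK := isLimitProdCone _ _ (isLimitConstCone _) hcA sq
  let q : ∀ k : Over i, D.obj.left ⟶ pullback π₀ (F.map k.hom) := fun k => cK.π.app k
  have hq_snd : ∀ k, q k ≫ pullback.snd π₀ (F.map k.hom) = π' ≫ c.π.app k.left := fun k => prodCone_snd _ _ sq k
  have hq_fst : ∀ k, q k ≫ pullback.fst π₀ (F.map k.hom) = q₀ := fun k =>
    (prodCone_fst (cA := constCone _) (cB := cA) _ _ sq k).trans (Category.comp_id _)
  let m : ∀ {k l : Over i} (_ : k ⟶ l), pullback π₀ (F.map k.hom) ⟶ pullback π₀ (F.map l.hom) :=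
    fun ψ => K.map ψ
  have hm_fst : ∀ {k l : Over i} (ψ : k ⟶ l), m ψ ≫ pullback.fst π₀ (F.map l.hom) = pullback.fst π₀ (F.map k.hom) :=
    fun {k l} ψ => (prodDia_map_fst (constMap (J := Over i) π₀) tA ψ).trans (Category.comp_id _)
  have hm_snd : ∀ {k l : Over i} (ψ : k ⟶ l),
      m ψ ≫ pullback.snd π₀ (F.map l.hom) = pullback.snd π₀ (F.map k.hom) ≫ F.map ψ.left :=
    fun {k l} ψ => prodDia_map_snd (constMap (J := Over i) π₀) tA ψ
  let e : K ⟶ (Functor.const (Over i)).obj S :=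
    { app := fun k => pullback.snd _ _ ≫ tS.app k
      naturality := fun k l f => by
        rw [← Category.assoc, prodDia_map_snd, Category.assoc, map_app tS f]
        simp }
  have hce : ∀ k, cK.π.app k ≫ e.app k = π' ≫ gc := fun k =>
    ((Category.assoc (q k) (pullback.snd π₀ (F.map k.hom)) (t.app k.left)).symm.trans
      (congrArg (· ≫ t.app k.left) (hq_snd k))).trans
      ((Category.assoc π' (c.π.app k.left) (t.app k.left)).trans (congrArg (π' ≫ ·) (hgc k.left)))
  let P₁ := prodDia e tS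
  let c₁ : Cone P₁ := prodCone hce hcS (IsPullback.of_hasPullback (π' ≫ gc) gc)
  have hc₁ : IsLimit c₁ := isLimitProdCone _ _ hcK hcA _
  let e₁ : P₁ ⟶ (Functor.const (Over i)).obj S :=
    { app := fun k => pullback.snd _ _ ≫ tS.app k
      naturality := fun k l f => by
        rw [← Category.assoc, prodDia_map_snd, Category.assoc, map_app tS f]
        simp }
  have hce₁ : ∀ k, c₁.π.app k ≫ e₁.app k = pullback.snd (π' ≫ gc) gc ≫ gc := fun k => by
    show c₁.π.app k ≫ pullback.snd _ _ ≫ tS.app k = _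
    rw [← Category.assoc, prodCone_snd, Category.assoc, hcS]
  let P₂ := prodDia e₁ tS
  let c₂ : Cone P₂ := prodCone hce₁ hcS (IsPullback.of_hasPullback (pullback.snd (π' ≫ gc) gc ≫ gc) gc)
  have hc₂ : IsLimit c₂ := isLimitProdCone _ _ hc₁ hcA _
  -- finiteness
  haveI : ∀ {k l : Over i} (f : k ⟶ l), IsAffineHom (A.map f) := fun f =>
    inferInstanceAs (IsAffineHom (F.map f.left))
  haveI : ∀ {k l : Over i} (f : k ⟶ l), IsAffineHom (((Functor.const (Over i)).obj E₀).map f) :=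
    fun f => inferInstanceAs (IsAffineHom (𝟙 _))
  haveI : ∀ {k l : Over i} (f : k ⟶ l), IsAffineHom (K.map f) := fun f => isAffineHom_prodDia_map _ _ f
  haveI : ∀ {k l : Over i} (f : k ⟶ l), IsAffineHom (P₁.map f) := fun f => isAffineHom_prodDia_map _ _ f
  haveI : ∀ {k l : Over i} (f : k ⟶ l), IsAffineHom (P₂.map f) := fun f => isAffineHom_prodDia_map _ _ f
  haveI : ∀ k, IsAffine (A.obj k) := fun k => inferInstanceAs (IsAffine (F.obj k.left))
  haveI : ∀ k, IsAffineHom (tS.app k) := fun k =>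
    @isAffineHom_of_isAffine _ _ (tS.app k) (inferInstanceAs (IsAffine (A.obj k))) ‹IsAffine S›
  haveI : ∀ k, CompactSpace (K.obj k) := fun k =>
    QuasiCompact.compactSpace_of_compactSpace (pullback.snd π₀ (F.map k.hom))
  haveI : ∀ k, QuasiSeparatedSpace (K.obj k) := fun k =>
    quasiSeparatedSpace_of_quasiSeparated (pullback.snd π₀ (F.map k.hom))
  haveI : ∀ k, CompactSpace (P₁.obj k) := fun k =>
    QuasiCompact.compactSpace_of_compactSpace (pullback.fst (e.app k) (tS.app k))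
  haveI : ∀ k, QuasiSeparatedSpace (P₁.obj k) := fun k =>
    quasiSeparatedSpace_of_quasiSeparated (pullback.fst (e.app k) (tS.app k))
  haveI : ∀ k, CompactSpace (P₂.obj k) := fun k =>
    QuasiCompact.compactSpace_of_compactSpace (pullback.fst (e₁.app k) (tS.app k))
  haveI : ∀ k, QuasiSeparatedSpace (P₂.obj k) := fun k =>
    quasiSeparatedSpace_of_quasiSeparated (pullback.fst (e₁.app k) (tS.app k))
  -- over the base stage
  let tK : K ⟶ (Functor.const (Over i)).obj (F.obj i) :=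
    { app := fun k => pullback.snd _ _ ≫ tA.app k
      naturality := fun k l f => by
        rw [← Category.assoc, prodDia_map_snd, Category.assoc, map_app tA f]
        simp }
  let t₁ : P₁ ⟶ (Functor.const (Over i)).obj (F.obj i) :=
    { app := fun k => pullback.snd _ _ ≫ tA.app k
      naturality := fun k l f => by
        rw [← Category.assoc, prodDia_map_snd, Category.assoc, map_app tA f]
        simp }
  let t₂ : P₂ ⟶ (Functor.const (Over i)).obj (F.obj i) :=
    { app := fun k => pullback.snd _ _ ≫ tA.app k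
      naturality := fun k l f => by
        rw [← Category.assoc, prodDia_map_snd, Category.assoc, map_app tA f]
        simp }
  -- the action descends
  obtain ⟨k₁, θ, hθ, hθπ⟩ := Scheme.exists_π_app_comp_eq_of_locallyOfFinitePresentation P₁ t₁ π₀ c₁ hc₁
    (Θ' ≫ q₀) (by
      ext k : 2
      show c₁.π.app k ≫ pullback.snd _ _ ≫ F.map k.hom = (Θ' ≫ q₀) ≫ π₀
      rw [← Category.assoc, prodCone_snd, Category.assoc, Category.assoc, sq.w, ← Category.assoc Θ',
        hΘ'.over]
      exact congrArg (pullback.snd (π' ≫ gc) gc ≫ ·) (c.w k.hom))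
  let π_ : ∀ k : Over i, pullback π₀ (F.map k.hom) ⟶ F.obj k.left := fun k => pullback.snd π₀ (F.map k.hom)
  let g_ : ∀ k : Over i, F.obj k.left ⟶ S := fun k => t.app k.left
  let θ₁ : pullback (π_ k₁ ≫ g_ k₁) (g_ k₁) ⟶ E₀ := θ
  have hθπ' : θ₁ ≫ π₀ = pullback.snd (π_ k₁ ≫ g_ k₁) (g_ k₁) ≫ F.map k₁.hom := hθπ
  have hg_ : ∀ {k l : Over i} (ψ : k ⟶ l), F.map ψ.left ≫ g_ l = g_ k := fun ψ => map_app tS ψ
  let n₁ : ∀ {k l : Over i} (_ : k ⟶ l), pullback (π_ k ≫ g_ k) (g_ k) ⟶ pullback (π_ l ≫ g_ l) (g_ l) :=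
    fun ψ => map₁ (m ψ) (F.map ψ.left) (hm_snd ψ) (hg_ ψ)
  let l₁ : ∀ k : Over i, pullback (π' ≫ gc) gc ⟶ pullback (π_ k ≫ g_ k) (g_ k) :=
    fun k => map₁ (q k) (c.π.app k.left) (hq_snd k) (hgc k.left)
  have hn₁ : ∀ {k l : Over i} (ψ : k ⟶ l), P₁.map ψ = n₁ ψ := fun ψ => rfl
  have hl₁ : ∀ k, c₁.π.app k = l₁ k := fun k => rfl
  have hlθ : l₁ k₁ ≫ θ₁ = Θ' ≫ q₀ := hθ
  have hlim : ∀ {k l : Over i} (ψ : k ⟶ l), l₁ k ≫ n₁ ψ = l₁ l := fun ψ => c₁.w ψ
  have hfst_map : ∀ {k l : Over i} (ψ : k ⟶ l), F.map ψ.left ≫ F.map l.hom = F.map k.hom := fun ψ => map_app tA ψ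
  have n₁_snd : ∀ {k l : Over i} (ψ : k ⟶ l), n₁ ψ ≫ pullback.snd (π_ l ≫ g_ l) (g_ l) =
      pullback.snd (π_ k ≫ g_ k) (g_ k) ≫ F.map ψ.left := fun ψ => pullback.lift_snd _ _ _
  let act : ∀ {k : Over i} (_ : k ⟶ k₁), pullback (π_ k ≫ g_ k) (g_ k) ⟶ pullback π₀ (F.map k.hom) := fun {k} ψ =>
    pullback.lift (n₁ ψ ≫ θ₁) (pullback.snd _ _) (by
      rw [Category.assoc, hθπ', ← Category.assoc, n₁_snd, Category.assoc, hfst_map])
  have act_over : ∀ {k : Over i} (ψ : k ⟶ k₁), act ψ ≫ π_ k = pullback.snd _ _ :=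
    fun ψ => pullback.lift_snd _ _ _
  have act_fst : ∀ {k : Over i} (ψ : k ⟶ k₁), act ψ ≫ pullback.fst π₀ (F.map k.hom) = n₁ ψ ≫ θ₁ :=
    fun ψ => pullback.lift_fst _ _ _
  have act_limit : ∀ {k : Over i} (ψ : k ⟶ k₁), Θ' ≫ q k = l₁ k ≫ act ψ := fun {k} ψ => by
    apply pullback.hom_ext
    · rw [Category.assoc, Category.assoc, hq_fst, act_fst, reassoc_of% hlim, hlθ]
    · rw [Category.assoc, Category.assoc, hq_snd, act_over, reassoc_of% hΘ'.over]
      exact (pullback.lift_snd _ _ _).symm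
  have act_map : ∀ {k : Over i} (ψ : k ⟶ k₁), act ψ ≫ m ψ = n₁ ψ ≫ act (𝟙 k₁) := fun {k} ψ => by
    apply pullback.hom_ext
    · rw [Category.assoc, Category.assoc, hm_fst, act_fst, act_fst, ← Category.assoc (n₁ ψ) (n₁ (𝟙 k₁))]
      refine congrArg (· ≫ θ₁) ?_
      rw [← hn₁, ← hn₁ (𝟙 k₁), P₁.map_id]
      exact (Category.comp_id _).symm
    · rw [Category.assoc, Category.assoc, hm_snd, act_over, ← Category.assoc, act_over, n₁_snd]
  -- the identities
  have hu : (unitMap (g_ k₁) (π_ k₁) ≫ θ₁) ≫ π₀ = π_ k₁ ≫ F.map k₁.hom := by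
    rw [Category.assoc, hθπ', ← Category.assoc]
    exact congrArg (· ≫ F.map k₁.hom) (pullback.lift_snd _ _ _)
  obtain ⟨k₂, ψ₂, h₂⟩ := Scheme.exists_hom_comp_eq_comp_of_locallyOfFiniteType K tK π₀ cK hcK
    (i := k₁) (unitMap (g_ k₁) (π_ k₁) ≫ θ₁) (pullback.fst π₀ (F.map k₁.hom))
    hu.symm pullback.condition.symm
    (by
      show q k₁ ≫ unitMap (g_ k₁) (π_ k₁) ≫ θ₁ = q k₁ ≫ pullback.fst π₀ (F.map k₁.hom)
      rw [hq_fst, ← Category.assoc, ← unit_nat (q k₁) (c.π.app k₁.left) (hq_snd k₁) (hgc k₁.left), Category.assoc]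
      rw [hlθ, reassoc_of% hΘ'.unit])
  let a₁ := actMap (g_ k₁) (π_ k₁) (act (𝟙 k₁)) (act_over _)
  let b₁ := sndMap (g_ k₁) (π_ k₁)
  have ha₁ : (a₁ ≫ θ₁) ≫ π₀ = pullback.snd (pullback.snd (π_ k₁ ≫ g_ k₁) (g_ k₁) ≫ g_ k₁) (g_ k₁) ≫ F.map k₁.hom := by
    rw [Category.assoc, hθπ', ← Category.assoc a₁]
    exact congrArg (· ≫ F.map k₁.hom) (pullback.lift_snd _ _ _)
  have hb₁ : (b₁ ≫ θ₁) ≫ π₀ = pullback.snd (pullback.snd (π_ k₁ ≫ g_ k₁) (g_ k₁) ≫ g_ k₁) (g_ k₁) ≫ F.map k₁.hom := by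
    rw [Category.assoc, hθπ', ← Category.assoc b₁]
    exact congrArg (· ≫ F.map k₁.hom) (pullback.lift_snd _ _ _)
  let l₂ := map₂ (q k₁) (c.π.app k₁.left) (hq_snd k₁) (hgc k₁.left)
  obtain ⟨k₃, ψ₃, h₃⟩ := Scheme.exists_hom_comp_eq_comp_of_locallyOfFiniteType P₂ t₂ π₀ c₂ hc₂
    (i := k₁) (a₁ ≫ θ₁) (b₁ ≫ θ₁) ha₁.symm hb₁.symm
    (by
      show l₂ ≫ a₁ ≫ θ₁ = l₂ ≫ b₁ ≫ θ₁
      rw [← Category.assoc, ← act_nat (q k₁) (c.π.app k₁.left) (hq_snd k₁) (hgc k₁.left) (act_over _) hΘ'.over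
          (act_limit (𝟙 k₁)), Category.assoc, ← Category.assoc l₂,
        ← snd_nat (q k₁) (c.π.app k₁.left) (hq_snd k₁) (hgc k₁.left), Category.assoc, hlθ, reassoc_of% hΘ'.assoc])
  obtain ⟨k, α, β, hαβ⟩ := IsCofiltered.cospan ψ₂ ψ₃
  let ψ := α ≫ ψ₂
  have hψ : ψ = β ≫ ψ₃ := hαβ
  have g₂ : m ψ ≫ unitMap (g_ k₁) (π_ k₁) ≫ θ₁ = m ψ ≫ pullback.fst π₀ (F.map k₁.hom) := by
    show K.map ψ ≫ _ = K.map ψ ≫ _
    rw [show ψ = α ≫ ψ₂ from rfl, K.map_comp, Category.assoc, Category.assoc]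
    exact congrArg (K.map α ≫ ·) h₂
  let n₂ := map₂ (m ψ) (F.map ψ.left) (hm_snd ψ) (hg_ ψ)
  have g₃ : n₂ ≫ a₁ ≫ θ₁ = n₂ ≫ b₁ ≫ θ₁ := by
    show P₂.map ψ ≫ _ = P₂.map ψ ≫ _
    rw [hψ, P₂.map_comp, Category.assoc, Category.assoc]
    exact congrArg (P₂.map β ≫ ·) h₃
  have hact : IsAct (g_ k) (π_ k) (act ψ) := by
    refine ⟨act_over ψ, ?_, ?_⟩
    · apply pullback.hom_ext
      · rw [Category.assoc, act_fst, ← Category.assoc, unit_nat, Category.assoc, g₂, hm_fst, Category.id_comp]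
      · rw [Category.assoc, act_over, Category.id_comp]
        exact pullback.lift_snd _ _ _
    · apply pullback.hom_ext
      · rw [Category.assoc, Category.assoc, act_fst, ← Category.assoc, ← Category.assoc,
          act_nat (m ψ) (F.map ψ.left) (hm_snd ψ) (hg_ ψ) (act_over (𝟙 k₁)) (act_over ψ) (act_map ψ),
          snd_nat, Category.assoc, Category.assoc]
        exact g₃
      · rw [Category.assoc, Category.assoc, act_over]
        exact (pullback.lift_snd _ _ _).trans (pullback.lift_snd _ _ _).symm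
  have sqk : IsPullback (q k) π' (π_ k) (c.π.app k.left) := by
    have := H8Lim.isPullback_later sq k.hom (by rw [Category.assoc, c.w, sq.w])
    convert this using 1
    apply pullback.hom_ext
    · rw [hq_fst, pullback.lift_fst]
    · rw [hq_snd, pullback.lift_snd]
  refine ⟨k.left, ofAct hact, q k, MorphismProperty.pullback_snd (P := @Etale) _ _ hE,
    MorphismProperty.pullback_snd (P := @IsSeparated) _ _ hSep,
    MorphismProperty.pullback_snd (P := @QuasiCompact) _ _ hQc, sqk, ?_⟩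
  intro Z x₀ x₁ h v h' v' hv
  have w : v.1 ≫ π' ≫ gc = x₁ ≫ gc := by
    rw [← h, ← Category.assoc]
    exact congrArg (· ≫ gc) v.2
  rw [φ_eq_actOf D h v w]
  show (pullback.lift v.1 x₁ w ≫ Θ') ≫ q k = pullback.lift v'.1 (x₁ ≫ c.π.app k.left) _ ≫ act ψ
  rw [Category.assoc, act_limit ψ, ← Category.assoc]
  refine congrArg (· ≫ act ψ) ?_
  apply pullback.hom_ext
  · simp [l₁, map₁, hv]
  · simp [l₁, map₁]

end

end Groth.Agent.FlatMor12.EtBridge
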