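import Groth.Agent.FlatMor12.EtBridge.EtaleProper
import Groth.Agent.FlatMor12.SubtrRefine
import Groth.Agent.SubtrLib.Noetherian

/-!
# Effective descent of separated etale schemes along universally subtrusive morphisms of finite presentation
-/

set_option autoImplicit false
set_option backward.isDefEq.respectTransparency false
set_option backward.isDefEq.respectTransparency.types false

universe u

open CategoryTheory CategoryTheory.Limits AlgebraicGeometry

namespace Groth.Agent.FlatMor12.EtBridge

theorem univSubmersive_comp {X Y Z : Scheme.{u}} {f : X ⟶ Y} {g : Y ⟶ Z} (hf : SGA1.UnivSubmersive f)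
    (hg : SGA1.UnivSubmersive g) : SGA1.UnivSubmersive (f ≫ g) := by
  intro X' Z' a b k sq
  let l : X' ⟶ pullback g b := pullback.lift (a ≫ f) k (by rw [Category.assoc]; exact sq.w.symm)
  have h1 : Topology.IsQuotientMap (pullback.snd g b).base := hg _ _ _ (IsPullback.of_hasPullback g b).flip
  have h2 : Topology.IsQuotientMap l.base := hf a (pullback.fst g b) l
    (IsPullback.of_bot (h₁₁ := a) (v₁₁ := l) (by simpa [l] using sq.flip) (pullback.lift_fst _ _ _).symm
      (IsPullback.of_hasPullback g b)).flip
  have h3 := h1.comp h2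
  have e : k = l ≫ pullback.snd g b := (pullback.lift_snd _ _ _).symm
  show Topology.IsQuotientMap k.base
  rw [e]
  exact h3

theorem univSSubtrusive_of_universallyClosed {X Y : Scheme.{u}} (f : X ⟶ Y) [hc : UniversallyClosed f]
    [hs : Surjective f] : Subtr.UnivSSubtrusive f := by
  intro X' Y' a b k sq
  have : UniversallyClosed k := MorphismProperty.of_isPullback sq.flip hc
  have : Surjective k := MorphismProperty.of_isPullback sq.flip hs
  intro y y' h
  obtain ⟨x', hx'⟩ := k.surjective y'
  subst hx'
  obtain ⟨x, hx, hxy⟩ := k.isClosedMap.specializingMap h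
  exact ⟨x, x', hx, hxy, rfl⟩

variable {S T : Scheme.{u}} {g : T ⟶ S}

/-- Local sections exist along universally subtrusive morphisms of finite presentation. -/
theorem hasSecs_of_univSSubtrusive [LocallyOfFinitePresentation g] [QuasiCompact g]
    (hg : Subtr.UnivSSubtrusive g) (D : Desc.SchDD g) [Etale D.obj.hom] [IsSeparated D.obj.hom] :
    HasSecs D := by
  intro d
  obtain ⟨W, hW, hdW, -⟩ := exists_isAffineOpen_mem_and_subset (U := ⊤) (x := g (D.obj.hom d)) trivial
  have sq := IsPullback.of_hasPullback g W.ι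
  let gW := pullback.snd g W.ι
  let D₁ : Desc.SchDD gW := pullDD D (pullback.fst g W.ι) W.ι sq.w
  refine hasSecs_of_open sq (by rw [Scheme.Opens.range_ι]; exact hdW) ?_
  haveI : IsAffine (W : Scheme.{u}) := hW
  have hgW : Subtr.UnivSSubtrusive gW := MorphismProperty.of_isPullback (P := Subtr.UnivSSubtrusive.{u}) sq hg
  obtain ⟨X', Y', h, p, q, hpq, hps, hpc, -, -, -, hloc, hq, hqs, -⟩ :=
    SubtrRefine.exists_refinement gW (Or.inl ‹_›) hgW
  haveI : Etale p := by
    choose O hxO hO using hloc
    refine IsZariskiLocalAtSource.of_openCover (P := @Etale) (X'.openCoverOfIsOpenCover O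
      (eq_top_iff.2 fun x _ => TopologicalSpace.Opens.mem_iSup.2 ⟨x, hxO x⟩)) fun x => ?_
    haveI : IsOpenImmersion ((O x).ι ≫ p) := hO x
    exact (inferInstance : Etale ((O x).ι ≫ p))
  haveI := hps
  haveI := hpc
  haveI := hq
  haveI := hqs
  have hw : h ≫ gW = (p ≫ q) ≫ 𝟙 _ := hpq.trans (Category.comp_id _).symm
  refine hasSecs_of_pull (D := D₁) (w := hw) ?_ (hasSecs_of_etale_proper (pullDD D₁ h (𝟙 _) hw))
  exact univSubmersive_comp (FEtFF.PurityDescent.univSubmersive_of_flat p) (FEtQuot.univSubmersive_of_isProper q)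

/-- Effectivity along universally subtrusive morphisms of finite presentation. -/
theorem effective_of_univSSubtrusive [LocallyOfFinitePresentation g] [QuasiCompact g]
    (hg : Subtr.UnivSSubtrusive g) (D : Desc.SchDD g) [IsSeparated D.obj.hom] [Etale D.obj.hom] :
    ∃ U : Over S, IsSeparated U.hom ∧ Etale U.hom ∧ Nonempty ((Desc.toDD g).obj U ≅ D) := by
  have hs := SubtrLib.univSubmersive_of_univSSubtrusive g hg
  haveI := FEtDesc.surjective_of_univSubmersive hs
  refine effective_of_hasSecs D (fun U _ => ?_) (hasSecs_of_univSSubtrusive hg D)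
  exact FEtDesc.isQuotientMap_of_univSubmersive (MorphismProperty.pullback_snd (P := SGA1.UnivSubmersive.{u}) g U.hom hs)

/-- The quasi-compact version. -/
theorem effective_qc_of_univSSubtrusive [LocallyOfFinitePresentation g] [QuasiCompact g]
    (hg : Subtr.UnivSSubtrusive g) (D : Desc.SchDD g) [QuasiCompact D.obj.hom] [IsSeparated D.obj.hom]
    [Etale D.obj.hom] :
    ∃ U : Over S, QuasiCompact U.hom ∧ IsSeparated U.hom ∧ Etale U.hom ∧ Nonempty ((Desc.toDD g).obj U ≅ D) := by
  haveI := FEtDesc.surjective_of_univSubmersive (SubtrLib.univSubmersive_of_univSSubtrusive g hg)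
  obtain ⟨U, hs, he, hi⟩ := effective_of_univSSubtrusive hg D
  exact ⟨U, quasiCompact_of_iso D hi, hs, he, hi⟩

end Groth.Agent.FlatMor12.EtBridge
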