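import Groth.Agent.FlatMor12.EtBridge.Approx
import Groth.Agent.FlatMor12.EtBridge.Subtrusive
import Groth.Agent.H8Lim.ApproxFP
import Groth.Agent.Et18.ExtZeroGeneral
import Groth.Agent.MorProj.OpenMap

/-!
# Local sections of etale descent data along universally subtrusive quasi-compact and universally open morphisms
-/

set_option autoImplicit false
set_option backward.isDefEq.respectTransparency false
set_option backward.isDefEq.respectTransparency.types false

universe u

open CategoryTheory CategoryTheory.Limits AlgebraicGeometry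

namespace Groth.Agent.FlatMor12.EtBridge

theorem isSSubtrusive_comp {X Y Z : Scheme.{u}} {f : X ⟶ Y} {g : Y ⟶ Z} (hf : Subtr.IsSSubtrusive f)
    (hg : Subtr.IsSSubtrusive g) : Subtr.IsSSubtrusive (f ≫ g) := by
  intro z z' h
  obtain ⟨y, y', hy, hgy, hgy'⟩ := hg h
  obtain ⟨x, x', hx, hfx, hfx'⟩ := hf hy
  exact ⟨x, x', hx, (congrArg g hfx).trans hgy, (congrArg g hfx').trans hgy'⟩

theorem univSSubtrusive_comp {X Y Z : Scheme.{u}} {f : X ⟶ Y} {g : Y ⟶ Z} (hf : Subtr.UnivSSubtrusive f)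
    (hg : Subtr.UnivSSubtrusive g) : Subtr.UnivSSubtrusive (f ≫ g) := by
  intro X' Z' a b k sq
  let l : X' ⟶ pullback g b := pullback.lift (a ≫ f) k (by rw [Category.assoc]; exact sq.w.symm)
  have h1 : Subtr.IsSSubtrusive (pullback.snd g b) := hg _ _ _ (IsPullback.of_hasPullback g b).flip
  have h2 : Subtr.IsSSubtrusive l := hf a (pullback.fst g b) l
    (IsPullback.of_bot (h₁₁ := a) (v₁₁ := l) (by simpa [l] using sq.flip) (pullback.lift_fst _ _ _).symm
      (IsPullback.of_hasPullback g b)).flip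
  have e : k = l ≫ pullback.snd g b := (pullback.lift_snd _ _ _).symm
  show Subtr.IsSSubtrusive k
  rw [e]
  exact isSSubtrusive_comp h2 h1

theorem univSSubtrusive_of_comp {X Y Z : Scheme.{u}} {f : X ⟶ Y} {g : Y ⟶ Z}
    (hfg : Subtr.UnivSSubtrusive (f ≫ g)) : Subtr.UnivSSubtrusive g := by
  intro Y' Z' a b k sq z z' h
  obtain ⟨x, x', hx, e, e'⟩ := hfg (pullback.fst (f ≫ g) b) b (pullback.snd (f ≫ g) b)
    (IsPullback.of_hasPullback (f ≫ g) b).flip h
  let l : pullback (f ≫ g) b ⟶ Y' := sq.lift (pullback.snd (f ≫ g) b) (pullback.fst (f ≫ g) b ≫ f) (by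
    rw [Category.assoc, pullback.condition])
  have hl : l ≫ k = pullback.snd (f ≫ g) b := sq.lift_fst _ _ _
  exact ⟨l x, l x', hx.map l.continuous, (congrArg (fun m => m x) hl).trans e,
    (congrArg (fun m => m x') hl).trans e'⟩

theorem univSSubtrusive_of_universallyOpen {X Y : Scheme.{u}} (f : X ⟶ Y) [ho : UniversallyOpen f]
    [hs : Surjective f] : Subtr.UnivSSubtrusive f := by
  intro X' Y' a b k sq
  haveI : UniversallyOpen k := MorphismProperty.of_isPullback sq.flip ho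
  haveI : Surjective k := MorphismProperty.of_isPullback sq.flip hs
  exact SubtrLib.isSSubtrusive_of_generalizing k k.surjective
    (MorProj.generalizingMap_of_isOpenMap k k.isOpenMap)

variable {S T : Scheme.{u}} {g : T ⟶ S}

instance quasiCompact_pullDD {S' T' : Scheme.{u}} {g' : T' ⟶ S'} {D : Desc.SchDD g} {a : T' ⟶ T} {j : S' ⟶ S}
    {w : a ≫ g = g' ≫ j} [h : QuasiCompact D.obj.hom] : QuasiCompact (pullDD D a j w).obj.hom :=
  MorphismProperty.pullback_snd (P := @QuasiCompact) _ _ h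

/-- Local sections pass from a stage to the limit. -/
theorem hasSecs_of_stage {T₁ : Scheme.{u}} {g₁ : T₁ ⟶ S} (π : T ⟶ T₁) (hπ : π ≫ g₁ = g)
    (D : Desc.SchDD g) (D₁ : Desc.SchDD g₁) (q : D.obj.left ⟶ D₁.obj.left)
    (sq : IsPullback q D.obj.hom D₁.obj.hom π)
    (hφ : ∀ ⦃Z : Scheme.{u}⦄ (x₀ x₁ : Z ⟶ T) (h : x₀ ≫ g = x₁ ≫ g) (v : Desc.Lifts D.obj x₀)
      (h' : (x₀ ≫ π) ≫ g₁ = (x₁ ≫ π) ≫ g₁) (v' : Desc.Lifts D₁.obj (x₀ ≫ π)), v'.1 = v.1 ≫ q →
      (D.φ x₀ x₁ h v).1 ≫ q = (D₁.φ (x₀ ≫ π) (x₁ ≫ π) h' v').1)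
    (h : HasSecs D₁) : HasSecs D := by
  intro d
  obtain ⟨s, z, hz⟩ := h (q d)
  let m : pullback g s.q ⟶ pullback g₁ s.q := pullback.lift (pullback.fst g s.q ≫ π) (pullback.snd g s.q)
    (by rw [Category.assoc, hπ, pullback.condition])
  have sqm : IsPullback m (pullback.fst g s.q) (pullback.fst g₁ s.q) π :=
    IsPullback.of_right (h₁₂ := pullback.snd g₁ s.q) (h₂₂ := g₁)
      (by rw [pullback.lift_snd, hπ]; exact (IsPullback.of_hasPullback g s.q).flip)
      (pullback.lift_fst _ _ _) (IsPullback.of_hasPullback g₁ s.q).flip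
  have hw : (m ≫ s.k) ≫ D₁.obj.hom = pullback.fst g s.q ≫ π := by
    rw [Category.assoc, s.w, sqm.w]
  let k : pullback g s.q ⟶ D.obj.left := sq.lift (m ≫ s.k) (pullback.fst g s.q) hw
  have hkq : k ≫ q = m ≫ s.k := sq.lift_fst _ _ _
  have hkπ : k ≫ D.obj.hom = pullback.fst g s.q := sq.lift_snd _ _ _
  have sqk : IsPullback m k s.k q :=
    IsPullback.of_bot (by rw [hkπ, s.w]; exact sqm) hkq.symm sq
  obtain ⟨z', -, hz'⟩ := Scheme.exists_preimage_of_isPullback sqk z d hz
  refine ⟨⟨s.P, s.q, s.etale, s.sep, k, hkπ, ?_⟩, z', hz'⟩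
  intro Z b₀ b₁ x₀ x₁ hb₀ hb₁ hb hx v hv
  have h' : (x₀ ≫ π) ≫ g₁ = (x₁ ≫ π) ≫ g₁ := by simp only [Category.assoc, hπ, hx]
  let v' : Desc.Lifts D₁.obj (x₀ ≫ π) := ⟨v.1 ≫ q, by rw [Category.assoc, sq.w, ← Category.assoc, v.2]⟩
  apply sq.hom_ext
  · rw [hφ x₀ x₁ hx v h' v' rfl, Category.assoc, hkq, ← Category.assoc]
    refine s.compat (b₀ ≫ m) (b₁ ≫ m) _ _ ?_ ?_ ?_ h' v' ?_
    · rw [Category.assoc, pullback.lift_fst, ← Category.assoc, hb₀]
    · rw [Category.assoc, pullback.lift_fst, ← Category.assoc, hb₁]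
    · simp only [Category.assoc, m, pullback.lift_snd, hb]
    · show v.1 ≫ q = _
      rw [hv, Category.assoc, hkq, Category.assoc]
  · rw [(D.φ x₀ x₁ hx v).2, Category.assoc, hkπ, hb₁]

/-- Local sections exist along universally subtrusive morphisms of affine schemes. -/
theorem hasSecs_of_affine [IsAffine S] [IsAffine T] (hg : Subtr.UnivSSubtrusive g) (D : Desc.SchDD g)
    [Etale D.obj.hom] [IsSeparated D.obj.hom] [QuasiCompact D.obj.hom] : HasSecs D := by
  obtain ⟨I, _, _, _, G, c, hc, hprop, ⟨e⟩⟩ := H8Lim.exists_limit_affine_finitePresentation g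
  haveI : IsConnected Iᵒᵖ := IsCofiltered.isConnected _
  let F := G ⋙ Over.forget S
  let c' : Cone F := (Over.forget S).mapCone c
  have hc' : IsLimit c' := isLimitOfPreserves (Over.forget S) hc
  let t : F ⟶ (Functor.const Iᵒᵖ).obj S :=
    { app := fun i => (G.obj i).hom
      naturality := fun i j f => (Over.w (G.map f)).trans (Category.comp_id _).symm }
  let a : c.pt.left ⟶ T := e.hom.left
  haveI : IsIso a := inferInstanceAs (IsIso ((Over.forget S).mapIso e).hom)
  haveI : ∀ i, IsAffine (F.obj i) := fun i =>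
    haveI := (hprop i).1
    isAffine_of_isAffineHom (G.obj i).hom
  haveI : IsAffine c'.pt := IsAffine.of_isIso a
  have hw : a ≫ g = c.pt.hom ≫ 𝟙 S := (Over.w e.hom).trans (Category.comp_id _).symm
  have hgc : Subtr.UnivSSubtrusive c.pt.hom := by
    rw [← Category.comp_id c.pt.hom, ← hw]
    exact univSSubtrusive_comp (univSSubtrusive_of_universallyClosed a) hg
  haveI : IsAffineHom c.pt.hom := @isAffineHom_of_isAffine _ _ c.pt.hom (IsAffine.of_isIso a) ‹IsAffine S›
  refine hasSecs_of_pull (w := hw) (SubtrLib.univSubmersive_of_univSSubtrusive _ hgc) ?_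
  have hgc' : ∀ i, c'.π.app i ≫ t.app i = c.pt.hom := fun i => Over.w (c.π.app i)
  obtain ⟨i, D₁, q, he, hs, -, sq, hφ⟩ := exists_stage_datum hc' t hgc' (pullDD D a (𝟙 S) hw)
  haveI : LocallyOfFinitePresentation (t.app i) := (hprop i).2
  haveI : IsAffineHom (t.app i) := (hprop i).1
  refine hasSecs_of_stage (c'.π.app i) (hgc' i) _ D₁ q sq hφ (hasSecs_of_univSSubtrusive ?_ D₁)
  refine univSSubtrusive_of_comp (f := c'.π.app i) ?_
  rw [hgc']
  exact hgc

/-- Local sections exist along universally subtrusive quasi-compact morphisms. -/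
theorem hasSecs_of_univSSubtrusive_qc [QuasiCompact g] (hg : Subtr.UnivSSubtrusive g) (D : Desc.SchDD g)
    [Etale D.obj.hom] [IsSeparated D.obj.hom] [QuasiCompact D.obj.hom] : HasSecs D := by
  intro d
  obtain ⟨W, hW, hdW, -⟩ := exists_isAffineOpen_mem_and_subset (U := ⊤) (x := g (D.obj.hom d)) trivial
  have sq := IsPullback.of_hasPullback g W.ι
  haveI : IsAffine (W : Scheme.{u}) := hW
  let gW := pullback.snd g W.ι
  haveI : CompactSpace (pullback g W.ι : Scheme.{u}) := QuasiCompact.compactSpace_of_compactSpace gW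
  obtain ⟨V, p, hV, hp, hps⟩ := Et18.exists_affine_etale_cover (pullback g W.ι)
  have hgW : Subtr.UnivSSubtrusive gW := MorphismProperty.of_isPullback (P := Subtr.UnivSSubtrusive.{u}) sq hg
  have hp' : Subtr.UnivSSubtrusive p := by
    haveI : Flat (𝟙 V ≫ p) := inferInstance
    haveI : Surjective (𝟙 V ≫ p) := inferInstance
    exact SubtrLib.univSSubtrusive_of_flat (𝟙 V) p
  have hs := univSSubtrusive_comp hp' hgW
  haveI : IsAffineHom (p ≫ gW) := inferInstance
  refine hasSecs_of_open sq (by rw [Scheme.Opens.range_ι]; exact hdW) ?_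
  exact hasSecs_of_pull (w := (Category.comp_id (p ≫ gW)).symm) (SubtrLib.univSubmersive_of_univSSubtrusive _ hs)
    (hasSecs_of_affine hs (pullDD (pullDD D (pullback.fst g W.ι) W.ι sq.w) p (𝟙 _) _))

/-- Effectivity along universally subtrusive quasi-compact morphisms. -/
theorem effective_qc_of_univSSubtrusive_qc [QuasiCompact g]
    (hg : Subtr.UnivSSubtrusive g) (D : Desc.SchDD g) [QuasiCompact D.obj.hom] [IsSeparated D.obj.hom]
    [Etale D.obj.hom] :
    ∃ U : Over S, QuasiCompact U.hom ∧ IsSeparated U.hom ∧ Etale U.hom ∧ Nonempty ((Desc.toDD g).obj U ≅ D) := by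
  have hs := SubtrLib.univSubmersive_of_univSSubtrusive g hg
  haveI := FEtDesc.surjective_of_univSubmersive hs
  obtain ⟨U, hUs, hUe, hi⟩ := effective_of_hasSecs D
    (fun U _ => FEtDesc.isQuotientMap_of_univSubmersive
      (MorphismProperty.pullback_snd (P := SGA1.UnivSubmersive.{u}) g U.hom hs))
    (hasSecs_of_univSSubtrusive_qc hg D)
  exact ⟨U, quasiCompact_of_iso D hi, hUs, hUe, hi⟩

end Groth.Agent.FlatMor12.EtBridge
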