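import Groth.Agent.FlatMor12.EtBridge.Sec
import Mathlib.AlgebraicGeometry.Limits
import Mathlib.AlgebraicGeometry.Morphisms.ClosedImmersion

/-!
# Combining local sections to a surjective one
-/

set_option autoImplicit false
set_option backward.isDefEq.respectTransparency false
set_option backward.isDefEq.respectTransparency.types false

universe u

open CategoryTheory CategoryTheory.Limits AlgebraicGeometry

namespace Groth.Agent.FlatMor12.EtBridge

/-- A disjoint union of separated schemes is separated. -/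
theorem isSeparated_sigmaDesc {ι : Type u} {Y : ι → Scheme.{u}} {S : Scheme.{u}} (s : ∀ i, Y i ⟶ S)
    [∀ i, IsSeparated (s i)] : IsSeparated (Limits.Sigma.desc s) := by
  let f := Limits.Sigma.desc s
  have hcov : ∀ z : (∐ Y : Scheme.{u}), ∃ (i : ι) (x : Y i), Limits.Sigma.ι Y i x = z := fun z =>
    (sigmaOpenCover Y).exists_eq z
  refine ⟨IsClosedImmersion.of_isPreimmersion (pullback.diagonal f) (isOpen_compl_iff.1 ?_)⟩
  refine isOpen_iff_forall_mem_open.2 fun z hz => ?_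
  obtain ⟨a, x, hx⟩ := hcov (pullback.fst f f z)
  obtain ⟨b, y, hy⟩ := hcov (pullback.snd f f z)
  by_cases hab : a = b
  · subst hab
    have hs : Limits.Sigma.ι Y a ≫ f = s a := Limits.Sigma.ι_desc _ _
    let m : pullback (s a) (s a) ⟶ pullback f f := pullback.map _ _ _ _ (Limits.Sigma.ι Y a) (Limits.Sigma.ι Y a) (𝟙 S)
      (by rw [Category.comp_id, hs]) (by rw [Category.comp_id, hs])
    have hzm : z ∈ Set.range m := by
      rw [Scheme.Pullback.range_map]
      exact ⟨⟨x, hx⟩, ⟨y, hy⟩⟩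
    obtain ⟨w, rfl⟩ := hzm
    have hd : pullback.diagonal (s a) ≫ m = Limits.Sigma.ι Y a ≫ pullback.diagonal f := by
      apply pullback.hom_ext <;> simp [m]
    refine ⟨m '' (Set.range (pullback.diagonal (s a)))ᶜ, ?_,
      m.isOpenEmbedding.isOpenMap _ (pullback.diagonal (s a)).isClosedEmbedding.isClosed_range.isOpen_compl,
      ⟨w, fun ⟨v, hv⟩ => hz ⟨Limits.Sigma.ι Y a v, by rw [← Scheme.Hom.comp_apply, ← hd, Scheme.Hom.comp_apply, hv]⟩, rfl⟩⟩
    rintro _ ⟨w', hw', rfl⟩ ⟨v, hv⟩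
    have h1 : pullback.fst f f (m w') = Limits.Sigma.ι Y a (pullback.fst (s a) (s a) w') := by
      rw [← Scheme.Hom.comp_apply, pullback.lift_fst, Scheme.Hom.comp_apply]
    rw [← hv, ← Scheme.Hom.comp_apply, pullback.diagonal_fst] at h1
    refine hw' ⟨pullback.fst (s a) (s a) w', m.isOpenEmbedding.injective ?_⟩
    rw [← Scheme.Hom.comp_apply, hd, Scheme.Hom.comp_apply, ← h1]
    exact hv
  · refine ⟨pullback.fst f f ⁻¹' Set.range (Limits.Sigma.ι Y a) ∩ pullback.snd f f ⁻¹' Set.range (Limits.Sigma.ι Y b), ?_,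
      ((Limits.Sigma.ι Y a).isOpenEmbedding.isOpen_range.preimage (pullback.fst f f).continuous).inter
        ((Limits.Sigma.ι Y b).isOpenEmbedding.isOpen_range.preimage (pullback.snd f f).continuous),
      ⟨⟨x, hx⟩, ⟨y, hy⟩⟩⟩
    rintro _ ⟨⟨x', hx'⟩, ⟨y', hy'⟩⟩ ⟨v, rfl⟩
    rw [← Scheme.Hom.comp_apply, pullback.diagonal_fst] at hx'
    rw [← Scheme.Hom.comp_apply, pullback.diagonal_snd, ← hx'] at hy'
    exact hab (congrArg Sigma.fst ((sigmaι_eq_iff Y b a y' x').1 hy')).symm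

variable {S T : Scheme.{u}} {g : T ⟶ S}

/-- A local section through all points, made of given ones. -/
theorem exists_surjective_sec' (D : Desc.SchDD g) [Etale D.obj.hom] (Q : Sec D → Prop)
    (h : ∀ d : D.obj.left, ∃ s : Sec D, Q s ∧ d ∈ Set.range s.k) :
    ∃ s : Sec D, Surjective s.k ∧ ∀ x : s.P, ∃ (s₁ : Sec D) (j : s₁.P ⟶ s.P) (_ : IsOpenImmersion j)
      (hj : j ≫ s.q = s₁.q), Q s₁ ∧ x ∈ Set.range j ∧
      pullback.map g s₁.q g s.q (𝟙 T) j (𝟙 S) (by simp) (by rw [Category.comp_id, hj]) ≫ s.k = s₁.k := by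
  choose s hQ hs using h
  let P : D.obj.left → Scheme.{u} := fun d => (s d).P
  let q : (∐ P) ⟶ S := Limits.Sigma.desc fun d => (s d).q
  haveI : ∀ d, Etale (s d).q := fun d => (s d).etale
  haveI : ∀ d, IsSeparated (s d).q := fun d => (s d).sep
  have hqι : ∀ d, Limits.Sigma.ι P d ≫ q = (s d).q := fun d => Limits.Sigma.ι_desc _ _
  let e : ∀ d, pullback g (s d).q ⟶ pullback g q := fun d =>
    pullback.map _ _ _ _ (𝟙 T) (Limits.Sigma.ι P d) (𝟙 S) (by simp) (by rw [Category.comp_id, hqι])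
  have he : ∀ d, IsPullback (e d) (pullback.snd g (s d).q) (pullback.snd g q) (Limits.Sigma.ι P d) := fun d => by
    refine IsPullback.of_right ?_ (by simp [e]) (IsPullback.of_hasPullback g q)
    simpa [e, hqι] using (IsPullback.of_hasPullback g (s d).q)
  haveI : ∀ d, IsOpenImmersion (e d) := fun d =>
    MorphismProperty.of_isPullback (P := @IsOpenImmersion) (he d).flip inferInstance
  have hrange : ∀ d, Set.range (e d) ⊆ pullback.snd g q ⁻¹' Set.range (Limits.Sigma.ι P d) := by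
    rintro d _ ⟨x, rfl⟩
    exact ⟨pullback.snd g (s d).q x, by rw [← Scheme.Hom.comp_apply, ← Scheme.Hom.comp_apply, (he d).w]⟩
  have hdisj : Pairwise fun d d' => Disjoint (Set.range (e d)) (Set.range (e d')) := fun d d' hne => by
    refine Set.disjoint_of_subset (hrange d) (hrange d') (Disjoint.preimage _ ?_)
    rw [Set.disjoint_iff]
    rintro _ ⟨⟨x, hx⟩, ⟨y, hy⟩⟩
    exact hne (congrArg Sigma.fst ((sigmaι_eq_iff P d d' x y).1 (hx.trans hy.symm)))
  let c : (∐ fun d => pullback g (s d).q) ⟶ pullback g q := Limits.Sigma.desc e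
  haveI : IsOpenImmersion c := isOpenImmersion_sigmaDesc _ e hdisj
  haveI : Surjective c := ⟨fun z => by
    obtain ⟨d, y, hy⟩ := (sigmaOpenCover P).exists_eq (pullback.snd g q z)
    obtain ⟨p, hp, -⟩ := Scheme.exists_preimage_of_isPullback (he d) z y hy.symm
    exact ⟨Limits.Sigma.ι (fun d => pullback g (s d).q) d p, by rw [← Scheme.Hom.comp_apply, Limits.Sigma.ι_desc]; exact hp⟩⟩
  haveI : IsIso c := (isIso_iff_isOpenImmersion_and_epi_base c).2
    ⟨inferInstance, (TopCat.epi_iff_surjective _).2 c.surjective⟩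
  let k : pullback g q ⟶ D.obj.left := inv c ≫ Limits.Sigma.desc fun d => (s d).k
  have hk : ∀ d, e d ≫ k = (s d).k := fun d => by
    have : e d = Limits.Sigma.ι (fun d => pullback g (s d).q) d ≫ c := (Limits.Sigma.ι_desc _ _).symm
    rw [this]; simp [k]
  have hw : k ≫ D.obj.hom = pullback.fst g q := by
    rw [← cancel_epi c]
    refine Limits.Sigma.hom_ext _ _ fun d => ?_
    simp [c, k, (s d).w, e]
  have hsurj : Surjective k := ⟨fun z => by
    obtain ⟨x, hx⟩ := hs z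
    refine ⟨e z x, ?_⟩
    exact (Scheme.Hom.comp_apply (e z) k x).symm.trans
      ((congrArg (fun t : pullback g (s z).q ⟶ D.obj.left => t x) (hk z)).trans hx)⟩
  refine ⟨⟨∐ P, q, IsZariskiLocalAtSource.sigmaDesc fun d => (s d).etale, isSeparated_sigmaDesc _, k, hw, ?_⟩, hsurj,
    fun x => ?_⟩
  rotate_left
  · obtain ⟨d, y, hy⟩ := (sigmaOpenCover P).exists_eq x
    exact ⟨s d, Limits.Sigma.ι P d, inferInstance, hqι d, hQ d, ⟨y, hy⟩, hk d⟩
  intro Z a b x₀ x₁ ha hb hab h v hv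
  have hw' : (D.φ x₀ x₁ h v).1 ≫ D.obj.hom = (b ≫ k) ≫ D.obj.hom := by
    rw [(D.φ x₀ x₁ h v).2, Category.assoc, hw, hb]
  let u : Z ⟶ ∐ P := a ≫ pullback.snd g q
  let r : (∐ fun d => pullback u (Limits.Sigma.ι P d)) ⟶ Z :=
    Limits.Sigma.desc fun d => pullback.fst u (Limits.Sigma.ι P d)
  haveI : Surjective r := ⟨fun z => by
    obtain ⟨d, y, hy⟩ := (sigmaOpenCover P).exists_eq (u z)
    obtain ⟨p, hp, -⟩ := Scheme.Pullback.exists_preimage_pullback (f := u) (g := Limits.Sigma.ι P d) z y hy.symm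
    exact ⟨Limits.Sigma.ι (fun d => pullback u (Limits.Sigma.ι P d)) d p,
      by rw [← Scheme.Hom.comp_apply, Limits.Sigma.ι_desc]; exact hp⟩⟩
  refine eq_of_surjective_etale D.obj.hom r _ _ hw' (Limits.Sigma.hom_ext _ _ fun d => ?_)
  rw [Limits.Sigma.ι_desc_assoc, Limits.Sigma.ι_desc_assoc]
  let l := pullback.fst u (Limits.Sigma.ι P d)
  have hl : (l ≫ x₀) ≫ g = (l ≫ x₁) ≫ g := by simp only [Category.assoc, h]
  let vl : Desc.Lifts D.obj (l ≫ x₀) := ⟨l ≫ v.1, by rw [Category.assoc, v.2]⟩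
  have hla : l ≫ a ≫ pullback.snd g q = pullback.snd u (Limits.Sigma.ι P d) ≫ Limits.Sigma.ι P d :=
    pullback.condition
  obtain ⟨a', ha'₁, -⟩ := (he d).exists_lift (l ≫ a) (pullback.snd u _) (by rw [Category.assoc]; exact hla)
  obtain ⟨b', hb'₁, -⟩ := (he d).exists_lift (l ≫ b) (pullback.snd u _) (by rw [Category.assoc, ← hab]; exact hla)
  rw [← φ_natural' D l h rfl rfl hl v vl rfl,
    (s d).compat a' b' (l ≫ x₀) (l ≫ x₁) ?_ ?_ ?_ hl vl (by
      show l ≫ v.1 = _
      rw [hv, ← hk d, reassoc_of% ha'₁]), ← hk d, reassoc_of% hb'₁]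
  · rw [← ha, ← Category.assoc, ← ha'₁]; simp [e]
  · rw [← hb, ← Category.assoc, ← hb'₁]; simp [e]
  · rw [← cancel_mono (Limits.Sigma.ι P d), Category.assoc, Category.assoc, ← (he d).w, ← Category.assoc,
      ha'₁, ← Category.assoc, hb'₁, Category.assoc, Category.assoc, hab]

/-- A local section through all points. -/
theorem exists_surjective_sec (D : Desc.SchDD g) [Etale D.obj.hom] (h : HasSecs D) :
    ∃ s : Sec D, Surjective s.k := by
  obtain ⟨s, hs, -⟩ := exists_surjective_sec' D (fun _ => True) fun d =>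
    let ⟨s, hs⟩ := h d
    ⟨s, trivial, hs⟩
  exact ⟨s, hs⟩

end Groth.Agent.FlatMor12.EtBridge
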