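import Groth.Agent.FlatMor12.EtBridge.Refine
import Groth.Agent.FEtFF.PurityDescent
import Groth.Agent.AlgSpLib.Diag

/-!
# Local sections along an etale covering followed by a proper surjection
-/

set_option autoImplicit false
set_option backward.isDefEq.respectTransparency false
set_option backward.isDefEq.respectTransparency.types false

universe u

open CategoryTheory CategoryTheory.Limits AlgebraicGeometry

namespace Groth.Agent.FlatMor12.EtBridge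

variable {S W T : Scheme.{u}} {c : T ⟶ W} {q : W ⟶ S}

/-- The datum seen relative to the first map. -/
noncomputable def restrictDD (D : Desc.SchDD (c ≫ q)) : Desc.SchDD c where
  obj := D.obj
  φ Z x₀ x₁ h := D.φ x₀ x₁ (by rw [reassoc_of% h])
  φ_natural Z Z' l x₀ x₁ h h' v v' hv := D.φ_natural l x₀ x₁ _ _ v v' hv
  φ_self Z x v := D.φ_self x v
  φ_comp Z x₀ x₁ x₂ h h' v := D.φ_comp x₀ x₁ x₂ _ _ v

section

variable (D : Desc.SchDD (c ≫ q)) {U : Over W} (e : (Desc.toDD c).obj U ≅ restrictDD D)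

/-- The point of the datum given by a point of the descended scheme. -/
noncomputable def up {Z : Scheme.{u}} (r : Z ⟶ T) (v : Z ⟶ U.left) (h : r ≫ c = v ≫ U.hom) :
    Desc.Lifts D.obj r :=
  e.hom.push (x := r) ⟨pullback.lift r v h, pullback.lift_fst _ _ _⟩

/-- The point of the descended scheme given by a point of the datum. -/
noncomputable def down {Z : Scheme.{u}} {r : Z ⟶ T} (t : Desc.Lifts D.obj r) : Z ⟶ U.left :=
  (e.inv.push (x := r) t).1 ≫ pullback.snd c U.hom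

theorem down_hom {Z : Scheme.{u}} {r : Z ⟶ T} (t : Desc.Lifts D.obj r) : down D e t ≫ U.hom = r ≫ c := by
  have h1 : (e.inv.push (x := r) t).1 ≫ pullback.fst c U.hom = r := (e.inv.push (x := r) t).2
  rw [down, Category.assoc, ← pullback.condition, ← Category.assoc, h1]

theorem hom_inv_left : e.hom.hom.left ≫ e.inv.hom.left = 𝟙 _ :=
  congrArg (fun k => k.left) (congrArg Desc.SchDD.Hom.hom e.hom_inv_id)

theorem inv_hom_left : e.inv.hom.left ≫ e.hom.hom.left = 𝟙 _ :=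
  congrArg (fun k => k.left) (congrArg Desc.SchDD.Hom.hom e.inv_hom_id)

theorem down_up {Z : Scheme.{u}} (r : Z ⟶ T) (v : Z ⟶ U.left) (h : r ≫ c = v ≫ U.hom) :
    down D e (up D e r v h) = v := by
  show ((pullback.lift r v h ≫ e.hom.hom.left) ≫ e.inv.hom.left) ≫ pullback.snd c U.hom = v
  rw [Category.assoc (pullback.lift r v h), hom_inv_left]
  exact (congrArg (· ≫ pullback.snd c U.hom) (Category.comp_id _)).trans (pullback.lift_snd _ _ _)

theorem up_down {Z : Scheme.{u}} {r : Z ⟶ T} (t : Desc.Lifts D.obj r) (h : r ≫ c = down D e t ≫ U.hom) :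
    up D e r (down D e t) h = t := by
  apply Subtype.ext
  show pullback.lift r (down D e t) h ≫ e.hom.hom.left = t.1
  have : pullback.lift r (down D e t) h = t.1 ≫ e.inv.hom.left := by
    apply pullback.hom_ext
    · exact (pullback.lift_fst _ _ _).trans (e.inv.push (x := r) t).2.symm
    · exact pullback.lift_snd _ _ _
  rw [this]
  exact ((Category.assoc _ _ _).trans (congrArg (t.1 ≫ ·) (inv_hom_left D e))).trans (Category.comp_id _)

theorem up_natural {Z Z' : Scheme.{u}} (l : Z' ⟶ Z) (r : Z ⟶ T) (v : Z ⟶ U.left) (h : r ≫ c = v ≫ U.hom)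
    (h' : (l ≫ r) ≫ c = (l ≫ v) ≫ U.hom) : (up D e (l ≫ r) (l ≫ v) h').1 = l ≫ (up D e r v h).1 := by
  show pullback.lift (l ≫ r) (l ≫ v) h' ≫ e.hom.hom.left = l ≫ pullback.lift r v h ≫ e.hom.hom.left
  rw [← Category.assoc l]
  refine congrArg (· ≫ e.hom.hom.left) ?_
  apply pullback.hom_ext <;> simp

theorem up_congr {Z : Scheme.{u}} {r r' : Z ⟶ T} {v v' : Z ⟶ U.left} (hr : r = r') (hv : v = v')
    (h : r ≫ c = v ≫ U.hom) (h' : r' ≫ c = v' ≫ U.hom) : (up D e r v h).1 = (up D e r' v' h').1 := by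
  subst hr hv; rfl

theorem down_natural {Z Z' : Scheme.{u}} (l : Z' ⟶ Z) {r : Z ⟶ T} {r' : Z' ⟶ T} (t : Desc.Lifts D.obj r)
    (t' : Desc.Lifts D.obj r') (ht : t'.1 = l ≫ t.1) : down D e t' = l ≫ down D e t := by
  show (t'.1 ≫ e.inv.hom.left) ≫ _ = l ≫ (t.1 ≫ e.inv.hom.left) ≫ _
  simp only [ht, Category.assoc]

theorem φ_up {Z : Scheme.{u}} (r r' : Z ⟶ T) (v : Z ⟶ U.left) (h : r ≫ c = v ≫ U.hom) (h' : r' ≫ c = v ≫ U.hom)
    (hq : r ≫ c ≫ q = r' ≫ c ≫ q) : D.φ r r' hq (up D e r v h) = up D e r' v h' := by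
  apply Subtype.ext
  have key := e.hom.comm r r' (h.trans h'.symm) ⟨pullback.lift r v h, pullback.lift_fst _ _ _⟩ (up D e r v h) rfl
  refine key.trans (congrArg (· ≫ e.hom.hom.left) ?_)
  apply pullback.hom_ext
  · exact (pullback.lift_fst _ _ _).trans (pullback.lift_fst _ _ _).symm
  · exact ((pullback.lift_snd _ _ _).trans (pullback.lift_snd _ _ _)).trans (pullback.lift_snd _ _ _).symm

theorem q_cond {Z Z' : Scheme.{u}} {x₀ x₁ : Z ⟶ W} {l : Z' ⟶ Z} {r₀ r₁ : Z' ⟶ T}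
    (h₀ : r₀ ≫ c = l ≫ x₀) (h₁ : r₁ ≫ c = l ≫ x₁) (h : x₀ ≫ q = x₁ ≫ q) : r₀ ≫ c ≫ q = r₁ ≫ c ≫ q := by
  rw [← Category.assoc, h₀, ← Category.assoc, h₁, Category.assoc, h, Category.assoc]

theorem v_cond {Z Z' : Scheme.{u}} {x₀ : Z ⟶ W} (v : Desc.Lifts U x₀) {l : Z' ⟶ Z} {r₀ : Z' ⟶ T}
    (h₀ : r₀ ≫ c = l ≫ x₀) : r₀ ≫ c = (l ≫ v.1) ≫ U.hom := by
  rw [h₀, Category.assoc, v.2]

variable {Z : Scheme.{u}} {x₀ x₁ : Z ⟶ W} (h : x₀ ≫ q = x₁ ≫ q) (v : Desc.Lifts U x₀)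

/-- The transported point, computed on a covering. -/
noncomputable def transVal {Z' : Scheme.{u}} (l : Z' ⟶ Z) (r₀ r₁ : Z' ⟶ T) (h₀ : r₀ ≫ c = l ≫ x₀)
    (h₁ : r₁ ≫ c = l ≫ x₁) : Z' ⟶ U.left :=
  down D e (D.φ r₀ r₁ (q_cond h₀ h₁ h) (up D e r₀ (l ≫ v.1) (v_cond v h₀)))

theorem transVal_hom {Z' : Scheme.{u}} (l : Z' ⟶ Z) (r₀ r₁ : Z' ⟶ T) (h₀ : r₀ ≫ c = l ≫ x₀)
    (h₁ : r₁ ≫ c = l ≫ x₁) : transVal D e h v l r₀ r₁ h₀ h₁ ≫ U.hom = l ≫ x₁ :=
  (down_hom D e _).trans h₁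

theorem transVal_indep {Z' : Scheme.{u}} (l l' : Z' ⟶ Z) (r₀ r₁ s₀ s₁ : Z' ⟶ T) (hl : l = l')
    (h₀ : r₀ ≫ c = l ≫ x₀) (h₁ : r₁ ≫ c = l ≫ x₁) (k₀ : s₀ ≫ c = l' ≫ x₀) (k₁ : s₁ ≫ c = l' ≫ x₁) :
    transVal D e h v l r₀ r₁ h₀ h₁ = transVal D e h v l' s₀ s₁ k₀ k₁ := by
  subst hl
  have h01 : r₀ ≫ c ≫ q = r₁ ≫ c ≫ q := q_cond h₀ h₁ h
  have h0s : r₀ ≫ c ≫ q = s₀ ≫ c ≫ q := by rw [reassoc_of% h₀, reassoc_of% k₀]
  let V := transVal D e h v l r₀ r₁ h₀ h₁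
  have hr₁ : r₁ ≫ c = V ≫ U.hom := h₁.trans (transVal_hom D e h v l r₀ r₁ h₀ h₁).symm
  have hs₁ : s₁ ≫ c = V ≫ U.hom := k₁.trans (transVal_hom D e h v l r₀ r₁ h₀ h₁).symm
  have h1s : r₁ ≫ c ≫ q = s₁ ≫ c ≫ q := by rw [reassoc_of% h₁, reassoc_of% k₁]
  have e1 := φ_up D e r₁ s₁ V hr₁ hs₁ h1s
  rw [show up D e r₁ V hr₁ = _ from up_down D e _ hr₁, D.φ_comp] at e1
  show V = transVal D e h v l s₀ s₁ k₀ k₁
  refine (down_up D e s₁ V hs₁).symm.trans (congrArg (down D e) ?_)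
  rw [← e1, ← φ_up D e r₀ s₀ (l ≫ v.1) (v_cond v h₀) (v_cond v k₀) h0s]
  exact (D.φ_comp _ _ _ _ _ _).symm

theorem transVal_natural {Z' Z'' : Scheme.{u}} (m : Z'' ⟶ Z') (l : Z' ⟶ Z) (r₀ r₁ : Z' ⟶ T)
    (h₀ : r₀ ≫ c = l ≫ x₀) (h₁ : r₁ ≫ c = l ≫ x₁) (k₀ : (m ≫ r₀) ≫ c = (m ≫ l) ≫ x₀)
    (k₁ : (m ≫ r₁) ≫ c = (m ≫ l) ≫ x₁) :
    transVal D e h v (m ≫ l) (m ≫ r₀) (m ≫ r₁) k₀ k₁ = m ≫ transVal D e h v l r₀ r₁ h₀ h₁ := by
  refine down_natural D e m _ _ (φ_natural' D m (q_cond h₀ h₁ h) rfl rfl (q_cond k₀ k₁ h) _ _ ?_)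
  exact (up_congr D e rfl (Category.assoc _ _ _) _ (((v_cond v k₀).trans (by rw [Category.assoc m l v.1])))).trans
    (up_natural D e m r₀ (l ≫ v.1) (v_cond v h₀) ((v_cond v k₀).trans (by rw [Category.assoc m l v.1])))

theorem existsUnique_trans [Etale c] [Surjective c] :
    ∃! v' : Desc.Lifts U x₁, ∀ {Z' : Scheme.{u}} (l : Z' ⟶ Z) (r₀ r₁ : Z' ⟶ T) (h₀ : r₀ ≫ c = l ≫ x₀)
      (h₁ : r₁ ≫ c = l ≫ x₁), l ≫ v'.1 = transVal D e h v l r₀ r₁ h₀ h₁ := by
  obtain ⟨Z₁, l, r₀, r₁, hle, hls, h₀, h₁⟩ : ∃ (Z' : Scheme.{u}) (l : Z' ⟶ Z) (r₀ r₁ : Z' ⟶ T),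
      Etale l ∧ Surjective l ∧ r₀ ≫ c = l ≫ x₀ ∧ r₁ ≫ c = l ≫ x₁ := by
    let l₀ := pullback.fst x₀ c
    let l₁ := pullback.fst (l₀ ≫ x₁) c
    haveI : Surjective l₀ := MorphismProperty.pullback_fst (P := @Surjective) _ _ inferInstance
    haveI : Surjective l₁ := MorphismProperty.pullback_fst (P := @Surjective) _ _ inferInstance
    haveI : Etale l₀ := MorphismProperty.pullback_fst (P := @Etale) _ _ inferInstance
    haveI : Etale l₁ := MorphismProperty.pullback_fst (P := @Etale) _ _ inferInstance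
    refine ⟨_, l₁ ≫ l₀, l₁ ≫ pullback.snd x₀ c, pullback.snd (l₀ ≫ x₁) c, inferInstance, inferInstance, ?_, ?_⟩
    · simp only [Category.assoc, l₀, pullback.condition]
    · simp only [Category.assoc, l₁, ← pullback.condition]
  have hnat : ∀ {Z' : Scheme.{u}} (m : Z' ⟶ Z₁),
      m ≫ transVal D e h v l r₀ r₁ h₀ h₁ = transVal D e h v (m ≫ l) (m ≫ r₀) (m ≫ r₁)
        (by rw [Category.assoc, h₀, Category.assoc]) (by rw [Category.assoc, h₁, Category.assoc]) := fun m =>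
    (transVal_natural D e h v m l r₀ r₁ h₀ h₁ _ _).symm
  let M : Z ⟶ U.left := EffectiveEpi.desc l (transVal D e h v l r₀ r₁ h₀ h₁) (fun g₁ g₂ hg => by
    rw [hnat, hnat]
    exact transVal_indep D e h v _ _ _ _ _ _ hg _ _ _ _)
  have hM : l ≫ M = transVal D e h v l r₀ r₁ h₀ h₁ := EffectiveEpi.fac _ _ _
  have hMU : M ≫ U.hom = x₁ := by
    haveI := Flat.epi_of_flat_of_surjective l
    rw [← cancel_epi l, reassoc_of% hM, transVal_hom]
  refine ⟨⟨M, hMU⟩, fun {Z'} l' s₀ s₁ k₀ k₁ => ?_, fun v' hv' => Subtype.ext ?_⟩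
  · let a := pullback.fst l' l
    let b := pullback.snd l' l
    haveI : Etale a := MorphismProperty.pullback_fst (P := @Etale) _ _ hle
    haveI : Surjective a := MorphismProperty.pullback_fst (P := @Surjective) _ _ hls
    haveI := Flat.epi_of_flat_of_surjective a
    show l' ≫ M = transVal D e h v l' s₀ s₁ k₀ k₁
    rw [← cancel_epi a, ← transVal_natural D e h v a l' s₀ s₁ k₀ k₁
      (by rw [Category.assoc, k₀, Category.assoc]) (by rw [Category.assoc, k₁, Category.assoc])]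
    refine (((Category.assoc a l' M).symm.trans (congrArg (· ≫ M) (pullback.condition : a ≫ l' = b ≫ l))).trans
      (Category.assoc b l M)).trans ?_
    rw [hM, hnat]
    exact transVal_indep D e h v _ _ _ _ _ _ (pullback.condition : a ≫ l' = b ≫ l).symm _ _ _ _
  · haveI := Flat.epi_of_flat_of_surjective l
    show v'.1 = M
    rw [← cancel_epi l, hM]
    exact hv' l r₀ r₁ h₀ h₁

omit h v

theorem exists_descended [Etale c] [Surjective c] [Etale U.hom] :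
    ∃ DW : Desc.SchDD q, DW.obj = U ∧ ∀ (V : Sec DW), ∃ k : pullback (c ≫ q) V.q ⟶ D.obj.left,
      k ≫ D.obj.hom = pullback.fst (c ≫ q) V.q ∧ Compat D V.q k ∧
      ∀ {Z : Scheme.{u}} (r : Z ⟶ T) (p : Z ⟶ V.P) (hrp : r ≫ c ≫ q = p ≫ V.q) (v : Desc.Lifts DW.obj (r ≫ c)),
        v.1 = pullback.lift (r ≫ c) p ((Category.assoc _ _ _).trans hrp) ≫ V.k →
        ∃ w : Z ⟶ U.left, ∃ hw : r ≫ c = w ≫ U.hom, HEq w v.1 ∧
          pullback.lift r p hrp ≫ k = (up D e r w hw).1 := by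
  have key : ∀ {Z : Scheme.{u}} (x₀ x₁ : Z ⟶ W) (h : x₀ ≫ q = x₁ ≫ q) (v : Desc.Lifts U x₀),
      ∃! v' : Desc.Lifts U x₁, ∀ {Z' : Scheme.{u}} (l : Z' ⟶ Z) (r₀ r₁ : Z' ⟶ T) (h₀ : r₀ ≫ c = l ≫ x₀)
        (h₁ : r₁ ≫ c = l ≫ x₁),
        l ≫ v'.1 = down D e (D.φ r₀ r₁ (q_cond h₀ h₁ h) (up D e r₀ (l ≫ v.1) (v_cond v h₀))) :=
    fun x₀ x₁ h v => existsUnique_trans D e h v
  choose φ hφ huniq using @key
  have eq_of : ∀ {Z : Scheme.{u}} (x₀ x₁ : Z ⟶ W) (h : x₀ ≫ q = x₁ ≫ q) (v : Desc.Lifts U x₀) (v' : Desc.Lifts U x₁),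
      (∀ {Z' : Scheme.{u}} (l : Z' ⟶ Z) (r₀ r₁ : Z' ⟶ T) (h₀ : r₀ ≫ c = l ≫ x₀) (h₁ : r₁ ≫ c = l ≫ x₁),
        l ≫ v'.1 = down D e (D.φ r₀ r₁ (q_cond h₀ h₁ h) (up D e r₀ (l ≫ v.1) (v_cond v h₀)))) →
      φ x₀ x₁ h v = v' := fun x₀ x₁ h v v' hv' => (huniq x₀ x₁ h v v' hv').symm
  have symm_rel : ∀ {Z : Scheme.{u}} (x₀ x₁ : Z ⟶ W) (h : x₀ ≫ q = x₁ ≫ q) (v : Desc.Lifts U x₀),
      φ x₁ x₀ h.symm (φ x₀ x₁ h v) = v := by
    intro Z x₀ x₁ h v
    refine eq_of _ _ _ _ _ fun {Z'} l r₁ r₀ h₁ h₀ => ?_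
    simp only [hφ x₀ x₁ h v l r₀ r₁ h₀ h₁, up_down, D.φ_comp, D.φ_self, down_up]
  let DW : Desc.SchDD q :=
    { obj := U
      φ := fun Z x₀ x₁ h =>
        { toFun := φ x₀ x₁ h
          invFun := φ x₁ x₀ h.symm
          left_inv := symm_rel x₀ x₁ h
          right_inv := symm_rel x₁ x₀ h.symm }
      φ_natural := fun Z Z' m x₀ x₁ h h' v v' hv => by
        refine congrArg Subtype.val (eq_of (m ≫ x₀) (m ≫ x₁) h' v'
          ⟨m ≫ (φ x₀ x₁ h v).1, by rw [Category.assoc, (φ x₀ x₁ h v).2]⟩ fun {Z''} l r₀ r₁ h₀ h₁ => ?_)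
        show l ≫ m ≫ _ = _
        rw [← Category.assoc, hφ x₀ x₁ h v (l ≫ m) r₀ r₁ (by rw [h₀, Category.assoc]) (by rw [h₁, Category.assoc])]
        simp only [hv, Category.assoc]
      φ_self := fun Z x v => eq_of _ _ _ _ _ fun {Z'} l r₀ r₁ h₀ h₁ => by
        rw [φ_up D e r₀ r₁ (l ≫ v.1) (by rw [h₀, Category.assoc, v.2]) (by rw [h₁, Category.assoc, v.2]), down_up]
      φ_comp := fun Z x₀ x₁ x₂ h h' v => (eq_of _ _ _ _ _ fun {Z'} l r₀ r₂ h₀ h₂ => by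
        let l₁ := pullback.fst (l ≫ x₁) c
        let r₁ := pullback.snd (l ≫ x₁) c
        haveI : Etale l₁ := MorphismProperty.pullback_fst (P := @Etale) _ _ inferInstance
        haveI : Surjective l₁ := MorphismProperty.pullback_fst (P := @Surjective) _ _ inferInstance
        haveI := Flat.epi_of_flat_of_surjective l₁
        have k₁ : r₁ ≫ c = (l₁ ≫ l) ≫ x₁ := by rw [Category.assoc]; exact pullback.condition.symm
        have k₀ : (l₁ ≫ r₀) ≫ c = (l₁ ≫ l) ≫ x₀ := by rw [Category.assoc, h₀, Category.assoc]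
        have k₂ : (l₁ ≫ r₂) ≫ c = (l₁ ≫ l) ≫ x₂ := by rw [Category.assoc, h₂, Category.assoc]
        rw [← cancel_epi l₁]
        refine (Category.assoc _ _ _).symm.trans ((hφ x₁ x₂ h' (φ x₀ x₁ h v) (l₁ ≫ l) r₁ (l₁ ≫ r₂) k₁ k₂).trans ?_)
        simp only [hφ x₀ x₁ h v (l₁ ≫ l) (l₁ ≫ r₀) r₁ k₀ k₁, up_down, D.φ_comp]
        refine down_natural D e l₁ _ _ (φ_natural' D l₁ (q_cond h₀ h₂ (h.trans h')) rfl rfl _ _ _ ?_)
        rw [← up_natural D e l₁ r₀ (l ≫ v.1) (by rw [h₀, Category.assoc, v.2])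
          (by rw [k₀]; simp only [Category.assoc, v.2])]
        simp only [Category.assoc]).symm }
  refine ⟨DW, rfl, fun V => ?_⟩
  haveI := V.etale
  let r := pullback.fst (c ≫ q) V.q
  let p := pullback.snd (c ≫ q) V.q
  let w : pullback (c ≫ q) V.q ⟶ U.left :=
    pullback.lift (r ≫ c) p ((Category.assoc _ _ _).trans pullback.condition) ≫ V.k
  have hw : r ≫ c = w ≫ U.hom := by
    have hVk : V.k ≫ U.hom = pullback.fst q V.q := V.w
    simp only [w, Category.assoc, hVk, pullback.lift_fst]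
  let k := (up D e r w hw).1
  refine ⟨k, (up D e r w hw).2, ?_, ?_⟩
  · intro Z a b x₀ x₁ ha hb hab h v hv
    have hwl : ∀ (b : Z ⟶ pullback (c ≫ q) V.q) (hh : (b ≫ r) ≫ c = (b ≫ w) ≫ U.hom),
        b ≫ k = (up D e (b ≫ r) (b ≫ w) hh).1 := fun b hh => (up_natural D e b r w hw hh).symm
    have hxy : ((a ≫ r) ≫ c) ≫ q = ((b ≫ r) ≫ c) ≫ q := by
      simp only [r, Category.assoc, pullback.condition, reassoc_of% hab]
    let la : Z ⟶ pullback q V.q := pullback.lift ((a ≫ r) ≫ c) (a ≫ p) (by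
      simp only [r, p, Category.assoc, pullback.condition])
    let lb : Z ⟶ pullback q V.q := pullback.lift ((b ≫ r) ≫ c) (b ≫ p) (by
      simp only [r, p, Category.assoc, pullback.condition])
    have hVk : V.k ≫ U.hom = pullback.fst q V.q := V.w
    let vW : Desc.Lifts U ((a ≫ r) ≫ c) := ⟨la ≫ V.k, by rw [Category.assoc, hVk, pullback.lift_fst]⟩
    have hla : la ≫ V.k = a ≫ w := by
      simp only [w, ← Category.assoc]
      refine congrArg (· ≫ V.k) (pullback.hom_ext ?_ ?_) <;> simp [la]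
    have hlb : lb ≫ V.k = b ≫ w := by
      simp only [w, ← Category.assoc]
      refine congrArg (· ≫ V.k) (pullback.hom_ext ?_ ?_) <;> simp [lb]
    have e2 : (φ ((a ≫ r) ≫ c) ((b ≫ r) ≫ c) hxy vW).1 = b ≫ w := by
      rw [← hlb]
      exact V.compat la lb _ _ (pullback.lift_fst _ _ _) (pullback.lift_fst _ _ _)
        (by simpa [la, lb] using hab) hxy vW rfl
    have hlw : ∀ (b : Z ⟶ pullback (c ≫ q) V.q), (b ≫ r) ≫ c = (b ≫ w) ≫ U.hom := fun b =>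
      (Category.assoc _ _ _).trans ((congrArg (b ≫ ·) hw).trans (Category.assoc _ _ _).symm)
    have ha' := hlw a
    have hb' := hlw b
    have e3 := hφ ((a ≫ r) ≫ c) ((b ≫ r) ≫ c) hxy vW (𝟙 Z) (a ≫ r) (b ≫ r)
      (Category.id_comp _).symm (Category.id_comp _).symm
    simp only [Category.id_comp, vW, hla] at e2 e3
    have hq' : (a ≫ r) ≫ c ≫ q = (b ≫ r) ≫ c ≫ q := by simpa only [Category.assoc] using hxy
    rw [φ_congr D ha.symm hb.symm h hq' v (up D e (a ≫ r) (a ≫ w) ha') (by rw [hv, hwl a ha']), hwl b hb']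
    exact (congrArg Subtype.val (up_down D e _ (down_hom D e _).symm)).symm.trans
      (up_congr D e rfl (e3.symm.trans e2) _ _)
  · intro Z r' p' hrp v hv
    refine ⟨pullback.lift r' p' hrp ≫ w, (congrArg (· ≫ c) (pullback.lift_fst r' p' hrp).symm).trans
      ((Category.assoc _ _ _).trans ((congrArg (pullback.lift r' p' hrp ≫ ·) hw).trans (Category.assoc _ _ _).symm)),
      ?_, ?_⟩
    · refine heq_of_eq ?_
      rw [hv]
      simp only [w, ← Category.assoc]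
      refine congrArg (· ≫ V.k) (pullback.hom_ext ?_ ?_) <;> simp [r, p]
    · exact (up_natural D e (pullback.lift r' p' hrp) r w hw
        ((Category.assoc _ _ _).trans ((congrArg (pullback.lift r' p' hrp ≫ ·) hw).trans (Category.assoc _ _ _).symm))).symm.trans
        (up_congr D e (pullback.lift_fst r' p' hrp) rfl _ _)

end

/-- Local sections along an etale covering followed by a proper surjection. -/
theorem hasSecs_of_etale_proper [Etale c] [Surjective c] [QuasiCompact c] [IsProper q] [Surjective q]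
    (D : Desc.SchDD (c ≫ q)) [Etale D.obj.hom] [IsSeparated D.obj.hom] : HasSecs D := by
  haveI : Etale (restrictDD D).obj.hom := ‹Etale D.obj.hom›
  haveI : IsSeparated (restrictDD D).obj.hom := ‹IsSeparated D.obj.hom›
  haveI : LocallyQuasiFinite (restrictDD D).obj.hom := AlgSpLib.locallyQuasiFinite_of_etale _
  obtain ⟨U, ⟨e⟩⟩ := Desc19b.EffSepLqf.schDD_effective c (restrictDD D)
  have hk : e.hom.hom.left ≫ D.obj.hom = pullback.fst c U.hom := Over.w e.hom.hom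
  haveI : IsIso e.hom.hom.left := ⟨⟨e.inv.hom.left, hom_inv_left D e, inv_hom_left D e⟩⟩
  haveI : Etale (pullback.fst c U.hom) := by
    rw [← hk]; exact MorphismProperty.comp_mem @Etale _ _ (inferInstance : Etale e.hom.hom.left) ‹Etale D.obj.hom›
  haveI : IsSeparated (pullback.fst c U.hom) := by
    rw [← hk]; exact MorphismProperty.comp_mem @IsSeparated _ _ (inferInstance : IsSeparated e.hom.hom.left) ‹IsSeparated D.obj.hom›
  haveI : Etale U.hom := MorphismProperty.of_pullback_fst_of_descendsAlong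
    (Q := @Surjective ⊓ @Flat ⊓ @QuasiCompact) (f := c) ⟨⟨inferInstance, inferInstance⟩, inferInstance⟩ ‹_›
  obtain ⟨DW, hobj, hV⟩ := exists_descended D e
  have hDWe : Etale DW.obj.hom := by rw [hobj]; infer_instance
  have hDWs : IsSeparated DW.obj.hom := by
    rw [hobj]
    exact FEtDesc.isSeparated_of_isPullback (IsPullback.of_hasPullback c U.hom).flip (FEtFF.PurityDescent.univSubmersive_of_flat c)
  have hsecs := hasSecs_of_isCoupleHom DW
  subst hobj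
  intro d
  let K : Type u := D.obj.left.residueField d
  let y := D.obj.left.fromSpecResidueField d
  let r₀ := y ≫ D.obj.hom
  let t : Desc.Lifts D.obj r₀ := ⟨y, rfl⟩
  let w₀ := down D e t
  obtain ⟨V, z', hz'⟩ := hsecs (w₀ default)
  obtain ⟨L, _, o', r, ho⟩ := exists_point_over V.k w₀ hz'
  obtain ⟨k, hkw, hkc, hkv⟩ := hV V
  refine ⟨⟨V.P, V.q, V.etale, V.sep, k, hkw, hkc⟩, ?_⟩
  let p' := o' ≫ pullback.snd q V.q
  have ho₁ : o' ≫ pullback.fst q V.q = (r ≫ r₀) ≫ c := by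
    rw [← V.w, reassoc_of% ho, Category.assoc]
    exact (congrArg (r ≫ ·) (down_hom D e t)).trans (Category.assoc _ _ _).symm
  have hrp : (r ≫ r₀) ≫ c ≫ q = p' ≫ V.q := by
    rw [← Category.assoc, ← ho₁, Category.assoc, Category.assoc, pullback.condition]
  have hlift : pullback.lift ((r ≫ r₀) ≫ c) p' ((Category.assoc _ _ _).trans hrp) = o' := by
    apply pullback.hom_ext
    · rw [pullback.lift_fst, ho₁]
    · rw [pullback.lift_snd]
  obtain ⟨w, hw, hwv, hkk⟩ := hkv (r ≫ r₀) p' hrp ⟨r ≫ w₀, by rw [Category.assoc, down_hom]; exact (Category.assoc _ _ _).symm⟩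
    (by rw [hlift, ho])
  obtain rfl : w = r ≫ w₀ := eq_of_heq hwv
  refine ⟨pullback.lift (r ≫ r₀) p' hrp default, ?_⟩
  show k (pullback.lift (r ≫ r₀) p' hrp default) = d
  rw [← Scheme.Hom.comp_apply, hkk, up_natural D e r r₀ w₀ (down_hom D e t).symm, up_down, Scheme.Hom.comp_apply]
  exact Scheme.fromSpecResidueField_apply _ _

end Groth.Agent.FlatMor12.EtBridge
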