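import Groth.Agent.FlatMor12.EtBridge.Subtrusive
import Groth.Agent.S14770
import Groth.Prelude.Def_DescFam

/-!
# One-member families
-/

set_option autoImplicit false
set_option backward.isDefEq.respectTransparency false
set_option backward.isDefEq.respectTransparency.types false

universe u

open CategoryTheory CategoryTheory.Limits AlgebraicGeometry Desc

namespace Groth.Agent.FlatMor12.EtBridge

variable {S T : Scheme.{u}} {g : T ⟶ S}

/-- An isomorphism of data gives one of one-member families. -/
theorem nonempty_iso_fam (D : SchDDFam (fun _ : PUnit.{1} => g)) {U : Over S}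
    (h : Nonempty ((toDD g).obj U ≅ (SchDDFam.toSchDD g).obj D)) :
    Nonempty ((toDDFam (fun _ : PUnit.{1} => g)).obj U ≅ D) := by
  obtain ⟨e⟩ := h
  exact ⟨(SchDDFam.ofSchDD g).mapIso e⟩

/-- Over a locally Noetherian base, every datum with separated etale member along a universally submersive
morphism of finite type is effective, after any base change. -/
theorem effective_fam_of_univSubmersive [IsLocallyNoetherian S] (hg : SGA1.UnivSubmersive g)
    [LocallyOfFinitePresentation g] [QuasiCompact g]
    (D : SchDDFam (fun _ : PUnit.{1} => g)) [Etale (D.obj PUnit.unit).hom] [IsSeparated (D.obj PUnit.unit).hom] :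
    (∃ U : Over S, Etale U.hom ∧ Nonempty ((toDDFam (fun _ : PUnit.{1} => g)).obj U ≅ D)) ∧
      ∀ {Z : Scheme.{u}} (q : Z ⟶ S), ∃ U : Over Z, Etale U.hom ∧
        Nonempty ((toDDFam (fun _ : PUnit.{1} => pullback.snd g q)).obj U ≅
          (pullDDFam (f := fun _ : PUnit.{1} => g) (f' := fun _ : PUnit.{1} => pullback.snd g q)
            (α := id) (p := q) (p' := fun _ => pullback.fst g q) (fun _ => pullback.condition)).obj D) := by
  have hs : Subtr.UnivSSubtrusive g := (Groth.Agent.S14770.result g).1 hg
  haveI : Etale ((SchDDFam.toSchDD g).obj D).obj.hom := ‹Etale (D.obj PUnit.unit).hom›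
  haveI : IsSeparated ((SchDDFam.toSchDD g).obj D).obj.hom := ‹IsSeparated (D.obj PUnit.unit).hom›
  refine ⟨?_, fun {Z} q => ?_⟩
  · obtain ⟨U, -, he, hi⟩ := effective_of_univSSubtrusive hs ((SchDDFam.toSchDD g).obj D)
    exact ⟨U, he, nonempty_iso_fam D hi⟩
  · have hs' : Subtr.UnivSSubtrusive (pullback.snd g q) :=
      MorphismProperty.pullback_snd (P := Subtr.UnivSSubtrusive.{u}) g q hs
    let E := (pullDDFam (f := fun _ : PUnit.{1} => g) (f' := fun _ : PUnit.{1} => pullback.snd g q)
      (α := id) (p := q) (p' := fun _ => pullback.fst g q) (fun _ => pullback.condition)).obj D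
    haveI : Etale ((SchDDFam.toSchDD (pullback.snd g q)).obj E).obj.hom :=
      MorphismProperty.pullback_snd (P := @Etale) (D.obj PUnit.unit).hom (pullback.fst g q) inferInstance
    haveI : IsSeparated ((SchDDFam.toSchDD (pullback.snd g q)).obj E).obj.hom :=
      MorphismProperty.pullback_snd (P := @IsSeparated) (D.obj PUnit.unit).hom (pullback.fst g q) inferInstance
    obtain ⟨U, -, he, hi⟩ := effective_of_univSSubtrusive hs' ((SchDDFam.toSchDD (pullback.snd g q)).obj E)
    exact ⟨U, he, nonempty_iso_fam E hi⟩

end Groth.Agent.FlatMor12.EtBridge
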