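import Groth.Agent.FlatMor12.EtBridge.MonoSecEff
import Groth.Agent.FEtDesc.Fpqc
import Groth.Agent.Et18.Descent
import Groth.Agent.FlatMorThick.Topological

/-!
# Effectivity of etale data is fpqc local on the base
-/

set_option autoImplicit false
set_option backward.isDefEq.respectTransparency false
set_option backward.isDefEq.respectTransparency.types false

universe u

open CategoryTheory CategoryTheory.Limits AlgebraicGeometry

namespace Groth.Agent.FlatMor12.EtBridge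

variable {S W T : Scheme.{u}} {c : T ⟶ W} {q : W ⟶ S}

section

variable (D : Desc.SchDD (c ≫ q)) {U : Over W} (e : (Desc.toDD c).obj U ≅ restrictDD D)
  {Z : Scheme.{u}} {x₀ x₁ : Z ⟶ W} (h : x₀ ≫ q = x₁ ≫ q) (v : Desc.Lifts U x₀)

theorem existsUnique_trans' [Etale U.hom] (hc : SGA1.UnivSubmersive c) :
    ∃! v' : Desc.Lifts U x₁, ∀ {Z' : Scheme.{u}} (l : Z' ⟶ Z) (r₀ r₁ : Z' ⟶ T) (h₀ : r₀ ≫ c = l ≫ x₀)
      (h₁ : r₁ ≫ c = l ≫ x₁), l ≫ v'.1 = transVal D e h v l r₀ r₁ h₀ h₁ := by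
  obtain ⟨Z₁, l, r₀, r₁, hl, h₀, h₁⟩ : ∃ (Z' : Scheme.{u}) (l : Z' ⟶ Z) (r₀ r₁ : Z' ⟶ T),
      SGA1.UnivSubmersive l ∧ r₀ ≫ c = l ≫ x₀ ∧ r₁ ≫ c = l ≫ x₁ := by
    let l₀ := pullback.fst x₀ c
    let l₁ := pullback.fst (l₀ ≫ x₁) c
    refine ⟨_, l₁ ≫ l₀, l₁ ≫ pullback.snd x₀ c, pullback.snd (l₀ ≫ x₁) c,
      univSubmersive_comp (MorphismProperty.pullback_fst (P := SGA1.UnivSubmersive.{u}) _ _ hc)
        (MorphismProperty.pullback_fst (P := SGA1.UnivSubmersive.{u}) _ _ hc), ?_, ?_⟩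
    · simp only [Category.assoc, l₀, pullback.condition]
    · simp only [Category.assoc, l₁, ← pullback.condition]
  haveI : Surjective l := FEtDesc.surjective_of_univSubmersive hl
  have hnat : ∀ {Z' : Scheme.{u}} (m : Z' ⟶ Z₁),
      m ≫ transVal D e h v l r₀ r₁ h₀ h₁ = transVal D e h v (m ≫ l) (m ≫ r₀) (m ≫ r₁)
        (by rw [Category.assoc, h₀, Category.assoc]) (by rw [Category.assoc, h₁, Category.assoc]) := fun m =>
    (transVal_natural D e h v m l r₀ r₁ h₀ h₁ _ _).symm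
  let q' := pullback.snd U.hom x₁
  haveI : Etale q' := MorphismProperty.pullback_snd (P := @Etale) _ _ inferInstance
  let tv := transVal D e h v l r₀ r₁ h₀ h₁
  let f' : pullback (𝟙 Z) l ⟶ pullback q' l :=
    pullback.lift (pullback.lift (pullback.snd _ _ ≫ tv) (pullback.fst _ _) (by
        rw [Category.assoc, transVal_hom, ← pullback.condition_assoc, Category.id_comp]))
      (pullback.snd _ _) (by rw [pullback.lift_snd, ← pullback.condition, Category.comp_id])
  obtain ⟨w, ⟨hw₁, hw₂⟩, -⟩ := FEtDesc.existsUnique_hom_descend l hl (𝟙 Z) q' f' (pullback.lift_snd _ _ _)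
    (fun {W'} g₁ g₂ hg => by
      simp only [f', pullback.lift_fst]
      apply pullback.hom_ext
      · simp only [Category.assoc, pullback.lift_fst, tv]
        rw [← Category.assoc, ← Category.assoc g₂, hnat, hnat]
        exact transVal_indep D e h v _ _ _ _ _ _ (by
          simp only [Category.assoc, ← pullback.condition (f := 𝟙 Z) (g := l), Category.comp_id, hg]) _ _ _ _
      · simp only [Category.assoc, pullback.lift_snd, hg])
  let M : Z ⟶ U.left := w ≫ pullback.fst U.hom x₁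
  have hM : l ≫ M = transVal D e h v l r₀ r₁ h₀ h₁ := by
    have := congrArg (fun m => pullback.lift l (𝟙 Z₁) (by simp) ≫ m ≫ pullback.fst U.hom x₁) hw₂
    simp [f', M] at this ⊢
    exact this.symm.trans (Category.id_comp _)
  have hMU : M ≫ U.hom = x₁ := by
    simp only [M, Category.assoc, pullback.condition]
    rw [← Category.assoc, hw₁, Category.id_comp]
  refine ⟨⟨M, hMU⟩, fun {Z'} l' s₀ s₁ k₀ k₁ => ?_, fun v' hv' => Subtype.ext ?_⟩
  · let a := pullback.fst l' l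
    let b := pullback.snd l' l
    haveI : Surjective a := MorphismProperty.pullback_fst (P := @Surjective) _ _ inferInstance
    show l' ≫ M = transVal D e h v l' s₀ s₁ k₀ k₁
    refine eq_of_surjective_etale U.hom a _ _ (by rw [Category.assoc, hMU, transVal_hom]) ?_
    rw [← transVal_natural D e h v a l' s₀ s₁ k₀ k₁
      (by rw [Category.assoc, k₀, Category.assoc]) (by rw [Category.assoc, k₁, Category.assoc])]
    refine (((Category.assoc a l' M).symm.trans (congrArg (· ≫ M) (pullback.condition : a ≫ l' = b ≫ l))).trans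
      (Category.assoc b l M)).trans ?_
    rw [hM, hnat]
    exact transVal_indep D e h v _ _ _ _ _ _ (pullback.condition : a ≫ l' = b ≫ l).symm _ _ _ _
  · show v'.1 = M
    refine eq_of_surjective_etale U.hom l _ _ (v'.2.trans hMU.symm) ?_
    rw [hM]
    exact hv' l r₀ r₁ h₀ h₁

omit h v

theorem exists_descended' [Etale U.hom] (hc : SGA1.UnivSubmersive c) :
    ∃ DW : Desc.SchDD q, DW.obj = U ∧ ∀ (V : Sec DW), ∃ k : pullback (c ≫ q) V.q ⟶ D.obj.left,
      k ≫ D.obj.hom = pullback.fst (c ≫ q) V.q ∧ Compat D V.q k ∧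
      ∀ {Z : Scheme.{u}} (r : Z ⟶ T) (p : Z ⟶ V.P) (hrp : r ≫ c ≫ q = p ≫ V.q) (v : Desc.Lifts DW.obj (r ≫ c)),
        v.1 = pullback.lift (r ≫ c) p ((Category.assoc _ _ _).trans hrp) ≫ V.k →
        ∃ w : Z ⟶ U.left, ∃ hw : r ≫ c = w ≫ U.hom, HEq w v.1 ∧
          pullback.lift r p hrp ≫ k = (up D e r w hw).1 := by
  have key : ∀ {Z : Scheme.{u}} (x₀ x₁ : Z ⟶ W) (h : x₀ ≫ q = x₁ ≫ q) (v : Desc.Lifts U x₀),
      ∃! v' : Desc.Lifts U x₁, ∀ {Z' : Scheme.{u}} (l : Z' ⟶ Z) (r₀ r₁ : Z' ⟶ T) (h₀ : r₀ ≫ c = l ≫ x₀)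
        (h₁ : r₁ ≫ c = l ≫ x₁),
        l ≫ v'.1 = down D e (D.φ r₀ r₁ (q_cond h₀ h₁ h) (up D e r₀ (l ≫ v.1) (v_cond v h₀))) :=
    fun x₀ x₁ h v => existsUnique_trans' D e h v hc
  choose φ hφ huniq using @key
  have eq_of : ∀ {Z : Scheme.{u}} (x₀ x₁ : Z ⟶ W) (h : x₀ ≫ q = x₁ ≫ q) (v : Desc.Lifts U x₀) (v' : Desc.Lifts U x₁),
      (∀ {Z' : Scheme.{u}} (l : Z' ⟶ Z) (r₀ r₁ : Z' ⟶ T) (h₀ : r₀ ≫ c = l ≫ x₀) (h₁ : r₁ ≫ c = l ≫ x₁),
        l ≫ v'.1 = down D e (D.φ r₀ r₁ (q_cond h₀ h₁ h) (up D e r₀ (l ≫ v.1) (v_cond v h₀)))) →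
      φ x₀ x₁ h v = v' := fun x₀ x₁ h v v' hv' => (huniq x₀ x₁ h v v' hv').symm
  have symm_rel : ∀ {Z : Scheme.{u}} (x₀ x₁ : Z ⟶ W) (h : x₀ ≫ q = x₁ ≫ q) (v : Desc.Lifts U x₀),
      φ x₁ x₀ h.symm (φ x₀ x₁ h v) = v := by
    intro Z x₀ x₁ h v
    refine eq_of _ _ _ _ _ fun {Z'} l r₁ r₀ h₁ h₀ => ?_
    simp only [hφ x₀ x₁ h v l r₀ r₁ h₀ h₁, up_down, D.φ_comp, D.φ_self, down_up]
  let DW : Desc.SchDD q :=
    { obj := U
      φ := fun Z x₀ x₁ h =>
        { toFun := φ x₀ x₁ h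
          invFun := φ x₁ x₀ h.symm
          left_inv := symm_rel x₀ x₁ h
          right_inv := symm_rel x₁ x₀ h.symm }
      φ_natural := fun Z Z' m x₀ x₁ h h' v v' hv => by
        refine congrArg Subtype.val (eq_of (m ≫ x₀) (m ≫ x₁) h' v'
          ⟨m ≫ (φ x₀ x₁ h v).1, by rw [Category.assoc, (φ x₀ x₁ h v).2]⟩ fun {Z''} l r₀ r₁ h₀ h₁ => ?_)
        show l ≫ m ≫ _ = _
        rw [← Category.assoc, hφ x₀ x₁ h v (l ≫ m) r₀ r₁ (by rw [h₀, Category.assoc]) (by rw [h₁, Category.assoc])]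
        simp only [hv, Category.assoc]
      φ_self := fun Z x v => eq_of _ _ _ _ _ fun {Z'} l r₀ r₁ h₀ h₁ => by
        rw [φ_up D e r₀ r₁ (l ≫ v.1) (by rw [h₀, Category.assoc, v.2]) (by rw [h₁, Category.assoc, v.2]), down_up]
      φ_comp := fun Z x₀ x₁ x₂ h h' v => (eq_of _ _ _ _ _ fun {Z'} l r₀ r₂ h₀ h₂ => by
        let l₁ := pullback.fst (l ≫ x₁) c
        let r₁ := pullback.snd (l ≫ x₁) c
        haveI : Surjective c := FEtDesc.surjective_of_univSubmersive hc
        haveI : Surjective l₁ := MorphismProperty.pullback_fst (P := @Surjective) _ _ inferInstance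
        have k₁ : r₁ ≫ c = (l₁ ≫ l) ≫ x₁ := by rw [Category.assoc]; exact pullback.condition.symm
        have k₀ : (l₁ ≫ r₀) ≫ c = (l₁ ≫ l) ≫ x₀ := by rw [Category.assoc, h₀, Category.assoc]
        have k₂ : (l₁ ≫ r₂) ≫ c = (l₁ ≫ l) ≫ x₂ := by rw [Category.assoc, h₂, Category.assoc]
        refine eq_of_surjective_etale U.hom l₁ _ _ (by
          exact (Category.assoc _ _ _).trans ((congrArg (l ≫ ·) (φ x₁ x₂ h' (φ x₀ x₁ h v)).2).trans
            (h₂.symm.trans (down_hom D e _).symm))) ?_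
        refine (Category.assoc _ _ _).symm.trans ((hφ x₁ x₂ h' (φ x₀ x₁ h v) (l₁ ≫ l) r₁ (l₁ ≫ r₂) k₁ k₂).trans ?_)
        simp only [hφ x₀ x₁ h v (l₁ ≫ l) (l₁ ≫ r₀) r₁ k₀ k₁, up_down, D.φ_comp]
        refine down_natural D e l₁ _ _ (φ_natural' D l₁ (q_cond h₀ h₂ (h.trans h')) rfl rfl _ _ _ ?_)
        rw [← up_natural D e l₁ r₀ (l ≫ v.1) (by rw [h₀, Category.assoc, v.2])
          (by rw [k₀]; simp only [Category.assoc, v.2])]
        simp only [Category.assoc]).symm }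
  refine ⟨DW, rfl, fun V => ?_⟩
  haveI := V.etale
  let r := pullback.fst (c ≫ q) V.q
  let p := pullback.snd (c ≫ q) V.q
  let w : pullback (c ≫ q) V.q ⟶ U.left :=
    pullback.lift (r ≫ c) p ((Category.assoc _ _ _).trans pullback.condition) ≫ V.k
  have hw : r ≫ c = w ≫ U.hom := by
    have hVk : V.k ≫ U.hom = pullback.fst q V.q := V.w
    simp only [w, Category.assoc, hVk, pullback.lift_fst]
  let k := (up D e r w hw).1
  refine ⟨k, (up D e r w hw).2, ?_, ?_⟩
  · intro Z a b x₀ x₁ ha hb hab h v hv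
    have hwl : ∀ (b : Z ⟶ pullback (c ≫ q) V.q) (hh : (b ≫ r) ≫ c = (b ≫ w) ≫ U.hom),
        b ≫ k = (up D e (b ≫ r) (b ≫ w) hh).1 := fun b hh => (up_natural D e b r w hw hh).symm
    have hxy : ((a ≫ r) ≫ c) ≫ q = ((b ≫ r) ≫ c) ≫ q := by
      simp only [r, Category.assoc, pullback.condition, reassoc_of% hab]
    let la : Z ⟶ pullback q V.q := pullback.lift ((a ≫ r) ≫ c) (a ≫ p) (by
      simp only [r, p, Category.assoc, pullback.condition])
    let lb : Z ⟶ pullback q V.q := pullback.lift ((b ≫ r) ≫ c) (b ≫ p) (by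
      simp only [r, p, Category.assoc, pullback.condition])
    have hVk : V.k ≫ U.hom = pullback.fst q V.q := V.w
    let vW : Desc.Lifts U ((a ≫ r) ≫ c) := ⟨la ≫ V.k, by rw [Category.assoc, hVk, pullback.lift_fst]⟩
    have hla : la ≫ V.k = a ≫ w := by
      simp only [w, ← Category.assoc]
      refine congrArg (· ≫ V.k) (pullback.hom_ext ?_ ?_) <;> simp [la]
    have hlb : lb ≫ V.k = b ≫ w := by
      simp only [w, ← Category.assoc]
      refine congrArg (· ≫ V.k) (pullback.hom_ext ?_ ?_) <;> simp [lb]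
    have e2 : (φ ((a ≫ r) ≫ c) ((b ≫ r) ≫ c) hxy vW).1 = b ≫ w := by
      rw [← hlb]
      exact V.compat la lb _ _ (pullback.lift_fst _ _ _) (pullback.lift_fst _ _ _)
        (by simpa [la, lb] using hab) hxy vW rfl
    have hlw : ∀ (b : Z ⟶ pullback (c ≫ q) V.q), (b ≫ r) ≫ c = (b ≫ w) ≫ U.hom := fun b =>
      (Category.assoc _ _ _).trans ((congrArg (b ≫ ·) hw).trans (Category.assoc _ _ _).symm)
    have ha' := hlw a
    have hb' := hlw b
    have e3 := hφ ((a ≫ r) ≫ c) ((b ≫ r) ≫ c) hxy vW (𝟙 Z) (a ≫ r) (b ≫ r)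
      (Category.id_comp _).symm (Category.id_comp _).symm
    simp only [Category.id_comp, vW, hla] at e2 e3
    have hq' : (a ≫ r) ≫ c ≫ q = (b ≫ r) ≫ c ≫ q := by simpa only [Category.assoc] using hxy
    rw [φ_congr D ha.symm hb.symm h hq' v (up D e (a ≫ r) (a ≫ w) ha') (by rw [hv, hwl a ha']), hwl b hb']
    exact (congrArg Subtype.val (up_down D e _ (down_hom D e _).symm)).symm.trans
      (up_congr D e rfl (e3.symm.trans e2) _ _)
  · intro Z r' p' hrp v hv
    refine ⟨pullback.lift r' p' hrp ≫ w, (congrArg (· ≫ c) (pullback.lift_fst r' p' hrp).symm).trans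
      ((Category.assoc _ _ _).trans ((congrArg (pullback.lift r' p' hrp ≫ ·) hw).trans (Category.assoc _ _ _).symm)),
      ?_, ?_⟩
    · refine heq_of_eq ?_
      rw [hv]
      simp only [w, ← Category.assoc]
      refine congrArg (· ≫ V.k) (pullback.hom_ext ?_ ?_) <;> simp [r, p]
    · exact (up_natural D e (pullback.lift r' p' hrp) r w hw
        ((Category.assoc _ _ _).trans ((congrArg (pullback.lift r' p' hrp ≫ ·) hw).trans (Category.assoc _ _ _).symm))).symm.trans
        (up_congr D e (pullback.lift_fst r' p' hrp) rfl _ _)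

end

/-- Local sections along a universally submersive morphism followed by an fpqc covering, from an effective
restriction. -/
theorem hasSecs_of_fpqc [Flat q] [Surjective q] [QuasiCompact q] (hc : SGA1.UnivSubmersive c)
    (D : Desc.SchDD (c ≫ q)) {U : Over W} [Etale U.hom] [IsSeparated U.hom] [QuasiCompact U.hom]
    (e : (Desc.toDD c).obj U ≅ restrictDD D) : HasSecs D := by
  haveI : Surjective c := FEtDesc.surjective_of_univSubmersive hc
  obtain ⟨DW, hobj, hV⟩ := exists_descended' D e hc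
  have hDWe : Etale DW.obj.hom := by rw [hobj]; infer_instance
  have hDWs : IsSeparated DW.obj.hom := by rw [hobj]; infer_instance
  have hDWq : QuasiCompact DW.obj.hom := by rw [hobj]; infer_instance
  have hsecs : HasSecs DW := fun d => by
    obtain ⟨V, -, -, hVe, ⟨e'⟩⟩ := FEtDesc.exists_descend q DW
    haveI := hVe
    obtain ⟨A, qA, -, hA, hAs, k, hk, hd⟩ := exists_good_of_iso DW e' d
    exact ⟨hk.sec, hd⟩
  subst hobj
  intro d
  let K : Type u := D.obj.left.residueField d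
  let y := D.obj.left.fromSpecResidueField d
  let r₀ := y ≫ D.obj.hom
  let t : Desc.Lifts D.obj r₀ := ⟨y, rfl⟩
  let w₀ := down D e t
  obtain ⟨V, z', hz'⟩ := hsecs (w₀ default)
  obtain ⟨L, _, o', r, ho⟩ := exists_point_over V.k w₀ hz'
  obtain ⟨k, hkw, hkc, hkv⟩ := hV V
  refine ⟨⟨V.P, V.q, V.etale, V.sep, k, hkw, hkc⟩, ?_⟩
  let p' := o' ≫ pullback.snd q V.q
  have ho₁ : o' ≫ pullback.fst q V.q = (r ≫ r₀) ≫ c := by
    rw [← V.w, reassoc_of% ho, Category.assoc]
    exact (congrArg (r ≫ ·) (down_hom D e t)).trans (Category.assoc _ _ _).symm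
  have hrp : (r ≫ r₀) ≫ c ≫ q = p' ≫ V.q := by
    rw [← Category.assoc, ← ho₁, Category.assoc, Category.assoc, pullback.condition]
  have hlift : pullback.lift ((r ≫ r₀) ≫ c) p' ((Category.assoc _ _ _).trans hrp) = o' := by
    apply pullback.hom_ext
    · rw [pullback.lift_fst, ho₁]
    · rw [pullback.lift_snd]
  obtain ⟨w, hw, hwv, hkk⟩ := hkv (r ≫ r₀) p' hrp ⟨r ≫ w₀, by rw [Category.assoc, down_hom]; exact (Category.assoc _ _ _).symm⟩
    (by rw [hlift, ho])
  obtain rfl : w = r ≫ w₀ := eq_of_heq hwv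
  refine ⟨pullback.lift (r ≫ r₀) p' hrp default, ?_⟩
  show k (pullback.lift (r ≫ r₀) p' hrp default) = d
  rw [← Scheme.Hom.comp_apply, hkk, up_natural D e r r₀ w₀ (down_hom D e t).symm, up_down, Scheme.Hom.comp_apply]
  exact Scheme.fromSpecResidueField_apply _ _


/-- A morphism of etale schemes from a morphism of their canonical data. -/
theorem exists_surjective_hom {S T : Scheme.{u}} {g : T ⟶ S} (hg : SGA1.UnivSubmersive g) {U U' : Over S}
    [Etale U'.hom] (α : (Desc.toDD g).obj U ≅ (Desc.toDD g).obj U') :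
    ∃ f : U.left ⟶ U'.left, Surjective f ∧ f ≫ U'.hom = U.hom := by
  haveI : Surjective g := FEtDesc.surjective_of_univSubmersive hg
  let σ : pullback g U.hom ⟶ pullback g U'.hom := α.hom.hom.left
  haveI : IsIso σ := ⟨⟨α.inv.hom.left, congrArg (fun k => k.hom.left) α.hom_inv_id,
    congrArg (fun k => k.hom.left) α.inv_hom_id⟩⟩
  have hσ : σ ≫ pullback.fst g U'.hom = pullback.fst g U.hom := Over.w α.hom.hom
  let f' : pullback U.hom g ⟶ pullback U'.hom g :=
    (pullbackSymmetry _ _).hom ≫ σ ≫ (pullbackSymmetry _ _).hom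
  obtain ⟨f, ⟨hf₁, hf₂⟩, -⟩ := FEtDesc.existsUnique_hom_descend g hg U.hom U'.hom f' (by
      simp [f', hσ]) (fun {Z} a b hab => by
    have hx : (a ≫ pullback.snd U.hom g) ≫ g = (b ≫ pullback.snd U.hom g) ≫ g := by
      simp only [Category.assoc, ← pullback.condition, reassoc_of% hab]
    let v : Desc.Lifts ((Desc.toDD g).obj U).obj (a ≫ pullback.snd U.hom g) :=
      ⟨a ≫ (pullbackSymmetry _ _).hom, by
        show (a ≫ (pullbackSymmetry U.hom g).hom) ≫ pullback.fst g U.hom = _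
        simp⟩
    let w : Desc.Lifts ((Desc.toDD g).obj U').obj (a ≫ pullback.snd U.hom g) := ⟨v.1 ≫ σ, by
      show (v.1 ≫ σ) ≫ pullback.fst g U'.hom = _
      rw [Category.assoc, hσ]
      exact v.2⟩
    have hc := α.hom.comm _ _ hx v w rfl
    have e1 : (((Desc.toDD g).obj U).φ _ _ hx v).1 = b ≫ (pullbackSymmetry U.hom g).hom := by
      apply pullback.hom_ext
      · refine (((Desc.toDD g).obj U).φ _ _ hx v).2.trans ?_
        simp
      · refine (pullback.lift_snd _ _ _).trans ?_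
        show (a ≫ (pullbackSymmetry U.hom g).hom) ≫ pullback.snd g U.hom = _
        simp [hab]
    have key := congrArg (· ≫ pullback.snd g U'.hom) hc
    rw [e1] at key
    simp only [Category.assoc] at key
    simp only [f', Category.assoc, pullbackSymmetry_hom_comp_fst]
    refine Eq.trans ?_ key
    exact ((pullback.lift_snd _ _ _).trans (by simp only [w, v, Category.assoc])).symm)
  refine ⟨f, ?_, hf₁⟩
  haveI : Surjective (pullback.fst U.hom g ≫ f) := by
    rw [← hf₂]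
    infer_instance
  exact Surjective.of_comp (pullback.fst U.hom g) f

/-- Effectivity is fpqc local on the base. -/
theorem effective_of_fpqc {S S' S₁ : Scheme.{u}} {g : S' ⟶ S} (hg : SGA1.UnivSubmersive g)
    (D : Desc.SchDDFam (fun _ : PUnit.{1} => g))
    [Etale (D.obj PUnit.unit).hom] [IsSeparated (D.obj PUnit.unit).hom] [QuasiCompact (D.obj PUnit.unit).hom]
    (p : S₁ ⟶ S) [Flat p] [Surjective p] [QuasiCompact p] {U₁ : Over S₁} [Etale U₁.hom] [IsSeparated U₁.hom]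
    [QuasiCompact U₁.hom]
    (h : Nonempty ((Desc.toDDFam (fun _ : PUnit.{1} => pullback.snd g p)).obj U₁ ≅
      (Desc.pullDDFam (f := fun _ : PUnit.{1} => g) (f' := fun _ : PUnit.{1} => pullback.snd g p)
        (α := id) (p := p) (p' := fun _ => pullback.fst g p) (fun _ => pullback.condition)).obj D)) :
    ∃ U : Over S, Etale U.hom ∧ IsSeparated U.hom ∧ QuasiCompact U.hom ∧
      Nonempty ((Desc.toDDFam (fun _ : PUnit.{1} => g)).obj U ≅ D) := by
  obtain ⟨e⟩ := nonempty_iso_schDD p D h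
  let D₀ := (Desc.SchDDFam.toSchDD g).obj D
  haveI : Etale D₀.obj.hom := ‹Etale (D.obj PUnit.unit).hom›
  haveI : IsSeparated D₀.obj.hom := ‹IsSeparated (D.obj PUnit.unit).hom›
  haveI : Surjective g := FEtDesc.surjective_of_univSubmersive hg
  let gp := pullback.snd g p
  have hgp : SGA1.UnivSubmersive gp := MorphismProperty.pullback_snd (P := SGA1.UnivSubmersive.{u}) g p hg
  have w : pullback.fst g p ≫ g = (gp ≫ p) ≫ 𝟙 S := by rw [Category.comp_id]; exact pullback.condition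
  let D₂ := pullDD D₀ (pullback.fst g p) (𝟙 S) w
  have hs : HasSecs D₂ := hasSecs_of_fpqc hgp D₂ (e : (Desc.toDD gp).obj U₁ ≅ restrictDD D₂)
  obtain ⟨U, hUs, hUe, ⟨eU⟩⟩ := effective_of_hasSecs D₀
    (fun U _ => FEtDesc.isQuotientMap_of_univSubmersive
      (MorphismProperty.pullback_snd (P := SGA1.UnivSubmersive.{u}) g U.hom hg))
    (hasSecs_of_pull (univSubmersive_comp hgp (FEtFF.PurityDescent.univSubmersive_of_flat p)) hs)
  obtain ⟨eF⟩ := nonempty_iso_fam D ⟨eU⟩
  refine ⟨U, hUe, hUs, ?_, ⟨eF⟩⟩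
  obtain ⟨e'⟩ := nonempty_iso_schDD p D (nonempty_iso_pull eF p)
  haveI : Etale (Over.mk (pullback.snd U.hom p)).hom := MorphismProperty.pullback_snd (P := @Etale) _ _ hUe
  obtain ⟨f, hf, hfw⟩ := exists_surjective_hom hgp (e ≪≫ e'.symm)
  haveI : QuasiCompact (f ≫ pullback.snd U.hom p) := by
    rw [show f ≫ pullback.snd U.hom p = U₁.hom from hfw]; infer_instance
  haveI : Surjective f := hf
  haveI hq₁ : QuasiCompact (pullback.snd U.hom p) := Groth.Agent.FlatMorThick.quasiCompact_of_comp_surjective f (pullback.snd U.hom p)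
  have hq₂ : QuasiCompact (pullback.fst p U.hom) := by
    rw [← pullbackSymmetry_hom_comp_snd]; infer_instance
  haveI := Et18.descends_quasiCompact.{u}
  exact MorphismProperty.of_pullback_fst_of_descendsAlong
    (Q := @Surjective ⊓ @Flat ⊓ @QuasiCompact) (f := p) ⟨⟨inferInstance, inferInstance⟩, inferInstance⟩ hq₂

end Groth.Agent.FlatMor12.EtBridge
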