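import Groth.Agent.FlatMor12.EtBridge.Proper
import Groth.Agent.FEtDesc.EtaleHom
import Groth.Agent.FEtQuot.DescentGen
import Groth.Agent.Desc19b.EffSepLqf

/-!
# Local sections and refinements
-/

set_option autoImplicit false
set_option backward.isDefEq.respectTransparency false
set_option backward.isDefEq.respectTransparency.types false

universe u

open CategoryTheory CategoryTheory.Limits AlgebraicGeometry

namespace Groth.Agent.FlatMor12.EtBridge

variable {S S' T T' : Scheme.{u}} {g : T ⟶ S} {g' : T' ⟶ S'}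

theorem pull_cond (a : T' ⟶ T) (j : S' ⟶ S) (w : a ≫ g = g' ≫ j) {Z : Scheme.{u}} {x₀ x₁ : Z ⟶ T'}
    (h : x₀ ≫ g' = x₁ ≫ g') : (x₀ ≫ a) ≫ g = (x₁ ≫ a) ≫ g := by
  rw [Category.assoc, w, reassoc_of% h, Category.assoc, w]

/-- Pullback of a datum along a morphism of morphisms. -/
noncomputable def pullDD (D : Desc.SchDD g) (a : T' ⟶ T) (j : S' ⟶ S) (w : a ≫ g = g' ≫ j) : Desc.SchDD g' where
  obj := Over.mk (pullback.snd D.obj.hom a)
  φ Z x₀ x₁ h := (Desc.liftsPullbackEquiv D.obj a x₀).trans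
    ((D.φ (x₀ ≫ a) (x₁ ≫ a) (pull_cond a j w h)).trans (Desc.liftsPullbackEquiv D.obj a x₁).symm)
  φ_natural Z Z' l x₀ x₁ h h' v v' hv := by
    apply pullback.hom_ext
    · simp only [Equiv.trans_apply, Desc.liftsPullbackEquiv, Equiv.coe_fn_mk, Equiv.coe_fn_symm_mk,
        pullback.lift_fst, Category.assoc]
      exact φ_natural' D l (pull_cond a j w h) (Category.assoc _ _ _).symm (Category.assoc _ _ _).symm
        (pull_cond a j w h') _ _ (by simp [hv])
    · simp [Desc.liftsPullbackEquiv]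
  φ_self Z x v := by
    apply Subtype.ext
    simp only [Equiv.trans_apply, D.φ_self, Equiv.symm_apply_apply]
  φ_comp Z x₀ x₁ x₂ h₀₁ h₁₂ v := by
    simp only [Equiv.trans_apply, Equiv.apply_symm_apply, D.φ_comp]

variable {D : Desc.SchDD g} {a : T' ⟶ T} {j : S' ⟶ S} {w : a ≫ g = g' ≫ j}

theorem pullDD_φ_fst {Z : Scheme.{u}} {x₀ x₁ : Z ⟶ T'} (h : x₀ ≫ g' = x₁ ≫ g')
    (v : Desc.Lifts (pullDD D a j w).obj x₀) (h' : (x₀ ≫ a) ≫ g = (x₁ ≫ a) ≫ g)
    (y : Desc.Lifts D.obj (x₀ ≫ a)) (hy : y.1 = v.1 ≫ pullback.fst D.obj.hom a) :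
    ((pullDD D a j w).φ x₀ x₁ h v).1 ≫ pullback.fst D.obj.hom a = (D.φ (x₀ ≫ a) (x₁ ≫ a) h' y).1 := by
  obtain rfl : y = Desc.liftsPullbackEquiv D.obj a x₀ v := Subtype.ext hy
  exact pullback.lift_fst _ _ _

instance etale_pullDD [h : Etale D.obj.hom] : Etale (pullDD D a j w).obj.hom :=
  MorphismProperty.pullback_snd (P := @Etale) _ _ h

instance isSeparated_pullDD [h : IsSeparated D.obj.hom] : IsSeparated (pullDD D a j w).obj.hom :=
  MorphismProperty.pullback_snd (P := @IsSeparated) _ _ h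

theorem k_fst_hom (s : Sec (pullDD D a j w)) :
    (s.k ≫ pullback.fst D.obj.hom a) ≫ D.obj.hom = pullback.fst g' s.q ≫ a := by
  have hk : s.k ≫ pullback.snd D.obj.hom a = pullback.fst g' s.q := s.w
  exact ((Category.assoc _ _ _).trans (congrArg (s.k ≫ ·) pullback.condition)).trans
    ((Category.assoc _ _ _).symm.trans (congrArg (· ≫ a) hk))

/-- A section of the datum over a geometric point, as a point of a surjection. -/
theorem exists_point_over {A B : Scheme.{u}} {K : Type u} [Field K] (k : A ⟶ B) (l : Spec (CommRingCat.of K) ⟶ B)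
    {z : A} (hz : k z = l default) :
    ∃ (L : Type u) (_ : Field L) (o : Spec (CommRingCat.of L) ⟶ A) (r : Spec (CommRingCat.of L) ⟶ Spec (CommRingCat.of K)),
      o ≫ k = r ≫ l := by
  obtain ⟨p, hp1, -⟩ := Scheme.Pullback.exists_preimage_pullback (f := k) (g := l) z default hz
  exact ⟨(pullback k l).residueField p, inferInstance, (pullback k l).fromSpecResidueField p ≫ pullback.fst k l,
    (pullback k l).fromSpecResidueField p ≫ pullback.snd k l, by simp [pullback.condition]⟩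

/-- Local sections descend along refinements which are universally submersive over the base. -/
theorem hasSecs_of_pull {g' : T' ⟶ S} {a : T' ⟶ T} {w : a ≫ g = g' ≫ 𝟙 S} [Etale D.obj.hom]
    (hg' : SGA1.UnivSubmersive g') (h : HasSecs (pullDD D a (𝟙 S) w)) : HasSecs D := by
  intro d
  let hT : pullback g g' ⟶ T := pullback.fst g g'
  have hh : SGA1.UnivSubmersive hT := MorphismProperty.pullback_fst (P := SGA1.UnivSubmersive.{u}) g g' hg'
  haveI : Surjective hT := FEtDesc.surjective_of_univSubmersive hh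
  haveI : Surjective g' := FEtDesc.surjective_of_univSubmersive hg'
  have hw' : ∀ {Z : Scheme.{u}} {t' : Z ⟶ T'} {x : Z ⟶ T}, t' ≫ g' = x ≫ g → (t' ≫ a) ≫ g = x ≫ g := by
    intro Z t' x hx
    rw [Category.assoc, w, Category.comp_id, hx]
  -- a point of the pulled back datum over `d`
  obtain ⟨x₁, hx₁⟩ := hT.surjective (D.obj.hom d)
  obtain ⟨z, hz₁, -⟩ := Scheme.Pullback.exists_preimage_pullback (f := D.obj.hom) (g := hT) d x₁ hx₁.symm
  let K : Type u := (pullback D.obj.hom hT).residueField z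
  let o : Spec (CommRingCat.of K) ⟶ pullback D.obj.hom hT := (pullback D.obj.hom hT).fromSpecResidueField z
  let v₀ := o ≫ pullback.fst D.obj.hom hT
  let t₀ := o ≫ pullback.snd D.obj.hom hT ≫ pullback.snd g g'
  let x₀ := v₀ ≫ D.obj.hom
  have ht₀ : t₀ ≫ g' = x₀ ≫ g := by
    simp only [t₀, x₀, v₀, Category.assoc, pullback.condition_assoc, hT, pullback.condition]
  let y := D.φ x₀ (t₀ ≫ a) (hw' ht₀).symm ⟨v₀, rfl⟩
  let l : Spec (CommRingCat.of K) ⟶ pullback D.obj.hom a := pullback.lift y.1 t₀ y.2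
  obtain ⟨s, z', hz'⟩ := h (l default)
  haveI := s.etale
  let p : pullback g s.q ⟶ T := pullback.fst g s.q
  let u₁ : pullback p hT ⟶ T' := pullback.snd p hT ≫ pullback.snd g g'
  let u₂ : pullback p hT ⟶ s.P := pullback.fst p hT ≫ pullback.snd g s.q
  have hu : u₁ ≫ g' = (pullback.fst p hT ≫ p) ≫ g := by
    calc u₁ ≫ g' = pullback.snd p hT ≫ pullback.snd g g' ≫ g' := Category.assoc _ _ _
      _ = pullback.snd p hT ≫ hT ≫ g := by rw [← pullback.condition]
      _ = (pullback.fst p hT ≫ p) ≫ g := by rw [← Category.assoc, pullback.condition (f := p) (g := hT)]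
  have hu₂ : u₁ ≫ g' = u₂ ≫ s.q := by
    rw [hu]
    simp only [u₂, p, Category.assoc]
    exact congrArg (pullback.fst p hT ≫ ·) pullback.condition
  let m := pullback.lift u₁ u₂ hu₂
  let val : Desc.Lifts D.obj (u₁ ≫ a) := ⟨m ≫ s.k ≫ pullback.fst D.obj.hom a, by
    have hk : s.k ≫ pullback.snd D.obj.hom a = pullback.fst g' s.q := s.w
    rw [Category.assoc, Category.assoc, pullback.condition, reassoc_of% hk, pullback.lift_fst_assoc]⟩
  let V := D.φ (u₁ ≫ a) (pullback.fst p hT ≫ p) (hw' hu) val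
  let f' : pullback p hT ⟶ pullback D.obj.hom hT :=
    pullback.lift V.1 (pullback.snd p hT) (V.2.trans pullback.condition)
  have key : ∀ {Z : Scheme.{u}} (b : Z ⟶ pullback p hT) (t' : Z ⟶ T') (x : Z ⟶ T) (c : Z ⟶ s.P)
      (_ : b ≫ u₁ = t') (_ : b ≫ pullback.fst p hT ≫ p = x) (_ : b ≫ u₂ = c) (hq : t' ≫ g' = c ≫ s.q)
      (hx : t' ≫ g' = x ≫ g) (y : Desc.Lifts D.obj (t' ≫ a)),
      y.1 = pullback.lift t' c hq ≫ s.k ≫ pullback.fst D.obj.hom a →
      b ≫ f' ≫ pullback.fst D.obj.hom hT = (D.φ (t' ≫ a) x (hw' hx) y).1 := by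
    intro Z b t' x c hb hbx hbc hq hx y hy
    rw [pullback.lift_fst]
    subst hb hbx hbc
    refine (φ_natural' D b (hw' hu) (Category.assoc _ _ _).symm rfl (hw' hx) val y ?_).symm
    rw [hy]
    show _ = b ≫ m ≫ s.k ≫ pullback.fst D.obj.hom a
    rw [← Category.assoc b m]
    refine congrArg (· ≫ s.k ≫ pullback.fst D.obj.hom a) ?_
    apply pullback.hom_ext <;> simp [m]
  have hcoc : ∀ {Z : Scheme.{u}} (b₁ b₂ : Z ⟶ pullback p hT), b₁ ≫ pullback.fst p hT = b₂ ≫ pullback.fst p hT →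
      b₁ ≫ f' ≫ pullback.fst D.obj.hom hT = b₂ ≫ f' ≫ pullback.fst D.obj.hom hT := by
    intro Z b₁ b₂ hb
    have hc : b₁ ≫ u₂ = b₂ ≫ u₂ := by simp only [u₂, reassoc_of% hb]
    have hx : b₁ ≫ pullback.fst p hT ≫ p = b₂ ≫ pullback.fst p hT ≫ p := by simp only [reassoc_of% hb]
    have hq₁ : (b₁ ≫ u₁) ≫ g' = (b₁ ≫ u₂) ≫ s.q := by simp only [Category.assoc, hu₂]
    have hq₂ : (b₂ ≫ u₁) ≫ g' = (b₁ ≫ u₂) ≫ s.q := by rw [hc]; simp only [Category.assoc, hu₂]
    have hx₁ : (b₁ ≫ u₁) ≫ g' = (b₁ ≫ pullback.fst p hT ≫ p) ≫ g := by simp only [Category.assoc, hu]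
    have hx₂ : (b₂ ≫ u₁) ≫ g' = (b₁ ≫ pullback.fst p hT ≫ p) ≫ g := by rw [hx]; simp only [Category.assoc, hu]
    let vv : Desc.Lifts (pullDD D a (𝟙 S) w).obj (b₁ ≫ u₁) :=
      ⟨pullback.lift (b₁ ≫ u₁) (b₁ ≫ u₂) hq₁ ≫ s.k, by rw [Category.assoc, s.w, pullback.lift_fst]⟩
    let y₁ : Desc.Lifts D.obj ((b₁ ≫ u₁) ≫ a) := ⟨vv.1 ≫ pullback.fst D.obj.hom a, by
      have e : vv.1 ≫ pullback.snd D.obj.hom a = b₁ ≫ u₁ := vv.2
      rw [Category.assoc, pullback.condition, ← Category.assoc, e]⟩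
    have h12 : (b₁ ≫ u₁) ≫ g' = (b₂ ≫ u₁) ≫ g' := hq₁.trans hq₂.symm
    have h12' : ((b₁ ≫ u₁) ≫ a) ≫ g = ((b₂ ≫ u₁) ≫ a) ≫ g := pull_cond a (𝟙 S) w h12
    have e₂ : (D.φ ((b₁ ≫ u₁) ≫ a) ((b₂ ≫ u₁) ≫ a) h12' y₁).1 =
        pullback.lift (b₂ ≫ u₁) (b₁ ≫ u₂) hq₂ ≫ s.k ≫ pullback.fst D.obj.hom a := by
      rw [← pullDD_φ_fst h12 vv h12' y₁ rfl,
        s.compat (pullback.lift (b₁ ≫ u₁) (b₁ ≫ u₂) hq₁) (pullback.lift (b₂ ≫ u₁) (b₁ ≫ u₂) hq₂) _ _
          (pullback.lift_fst _ _ _) (pullback.lift_fst _ _ _) (by simp only [pullback.lift_snd]) h12 vv rfl,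
        Category.assoc]
    rw [key b₁ _ _ _ rfl rfl rfl hq₁ hx₁ y₁ (Category.assoc _ _ _),
      key b₂ _ _ _ rfl hx.symm hc.symm hq₂ hx₂ _ e₂, D.φ_comp]
  obtain ⟨u, ⟨hup, huf⟩, -⟩ := FEtDesc.existsUnique_hom_descend hT hh p D.obj.hom f' (pullback.lift_snd _ _ _) hcoc
  have hval : ∀ {Z : Scheme.{u}} (b : Z ⟶ pullback g s.q) (t' : Z ⟶ T') (x : Z ⟶ T) (_ : b ≫ pullback.fst g s.q = x)
      (hq : t' ≫ g' = (b ≫ pullback.snd g s.q) ≫ s.q) (hx : t' ≫ g' = x ≫ g) (y : Desc.Lifts D.obj (t' ≫ a)),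
      y.1 = pullback.lift t' (b ≫ pullback.snd g s.q) hq ≫ s.k ≫ pullback.fst D.obj.hom a →
      b ≫ u = (D.φ (t' ≫ a) x (hw' hx) y).1 := by
    intro Z b t' x hb hq hx y hy
    let c : Z ⟶ pullback p hT := pullback.lift b (pullback.lift x t' hx.symm)
      (by show b ≫ p = _; rw [pullback.lift_fst]; exact hb)
    have := key c t' x (b ≫ pullback.snd g s.q) (by simp [c, u₁]) (by simp [c, p, hb]) (by simp [c, u₂]) hq hx y hy
    rw [huf] at this
    simpa [c] using this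
  refine ⟨⟨s.P, s.q, s.etale, s.sep, u, hup, ?_⟩, ?_⟩
  · intro Z b₀ b₁ x₀ x₁ hb₀ hb₁ hb hx v hv
    obtain ⟨Z', r, t', hr, ht⟩ : ∃ (Z' : Scheme.{u}) (r : Z' ⟶ Z) (t' : Z' ⟶ T'), Surjective r ∧
        t' ≫ g' = (r ≫ x₀) ≫ g :=
      ⟨_, pullback.fst (x₀ ≫ g) g', pullback.snd (x₀ ≫ g) g',
        MorphismProperty.pullback_fst (P := @Surjective) _ _ inferInstance,
        pullback.condition.symm.trans (Category.assoc _ _ _).symm⟩
    refine eq_of_surjective_etale D.obj.hom r _ _ (by rw [(D.φ x₀ x₁ hx v).2, Category.assoc, hup]; exact hb₁.symm) ?_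
    have ht₁ : t' ≫ g' = (r ≫ x₁) ≫ g := by rw [ht, Category.assoc, hx, Category.assoc]
    have hq₀ : t' ≫ g' = ((r ≫ b₀) ≫ pullback.snd g s.q) ≫ s.q := by
      rw [ht, ← hb₀]; simp only [Category.assoc, pullback.condition]
    have hrb : (r ≫ b₁) ≫ pullback.snd g s.q = (r ≫ b₀) ≫ pullback.snd g s.q := by
      simp only [Category.assoc, hb]
    let y : Desc.Lifts D.obj (t' ≫ a) :=
      ⟨pullback.lift t' ((r ≫ b₀) ≫ pullback.snd g s.q) hq₀ ≫ s.k ≫ pullback.fst D.obj.hom a, by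
        rw [Category.assoc]
        exact (congrArg (pullback.lift t' ((r ≫ b₀) ≫ pullback.snd g s.q) hq₀ ≫ ·) (k_fst_hom s)).trans
          (pullback.lift_fst_assoc _ _ _ _)⟩
    have e₀ := hval (r ≫ b₀) t' (r ≫ x₀) (by rw [Category.assoc, hb₀]) hq₀ ht y rfl
    have e₁ := hval (r ≫ b₁) t' (r ≫ x₁) (by rw [Category.assoc, hb₁]) (by rw [hrb]; exact hq₀) ht₁ y
      (by simp only [hrb]; rfl)
    have hrx : (r ≫ x₀) ≫ g = (r ≫ x₁) ≫ g := by rw [Category.assoc, hx, Category.assoc]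
    rw [← φ_natural' D r hx rfl rfl hrx v (D.φ (t' ≫ a) (r ≫ x₀) (hw' ht) y) (by
      rw [← e₀, hv, Category.assoc]), D.φ_comp, ← e₁, Category.assoc]
  · -- the point is reached
    obtain ⟨L, _, o', r, ho⟩ := exists_point_over s.k l hz'
    let c := o' ≫ pullback.snd g' s.q
    let x := r ≫ x₀
    let t' := r ≫ t₀
    have ht' : o' ≫ pullback.fst g' s.q = t' := by
      have hk : s.k ≫ pullback.snd D.obj.hom a = pullback.fst g' s.q := s.w
      rw [← hk, reassoc_of% ho]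
      simp [t', l]
    have hx : t' ≫ g' = x ≫ g := by simp only [t', x, Category.assoc, ht₀]
    have hq : t' ≫ g' = c ≫ s.q := by
      rw [← ht', Category.assoc, pullback.condition, ← Category.assoc]
    let b : Spec (CommRingCat.of L) ⟶ pullback g s.q := pullback.lift x c (hx.symm.trans hq)
    have hb : b ≫ pullback.snd g s.q = c := pullback.lift_snd _ _ _
    let y' : Desc.Lifts D.obj (t' ≫ a) := ⟨r ≫ y.1, by rw [Category.assoc, y.2]; simp [t']⟩
    have e := hval b t' x (pullback.lift_fst _ _ _) (by rw [hb]; exact hq) hx y' (by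
      show r ≫ y.1 = _
      have : pullback.lift t' (b ≫ pullback.snd g s.q) (by rw [hb]; exact hq) = o' := by
        apply pullback.hom_ext
        · rw [pullback.lift_fst, ht']
        · rw [pullback.lift_snd, hb]
      rw [this, reassoc_of% ho, pullback.lift_fst])
    have e' : b ≫ u = r ≫ v₀ := by
      rw [e, φ_natural' D r ((hw' ht₀)) (Category.assoc _ _ _).symm rfl (hw' hx) y y' rfl]
      refine congrArg (r ≫ ·) ?_
      rw [D.φ_comp, D.φ_self]
    have hd : d = v₀ default := by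
      rw [Scheme.Hom.comp_apply]
      exact hz₁.symm.trans (congrArg _ (Scheme.fromSpecResidueField_apply _ _).symm)
    refine ⟨b default, ?_⟩
    rw [hd, Subsingleton.elim (default : Spec (CommRingCat.of K)) (r default), ← Scheme.Hom.comp_apply,
      ← Scheme.Hom.comp_apply, e']

/-- Local sections are local on the base. -/
theorem hasSecs_of_open {d : D.obj.left} [Etale D.obj.hom] [IsOpenImmersion j] (sq : IsPullback a g' g j)
    (hd : g (D.obj.hom d) ∈ Set.range j) (h : HasSecs (pullDD D a j sq.w)) : ∃ s : Sec D, d ∈ Set.range s.k := by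
  obtain ⟨p₀, hp₀⟩ := hd
  obtain ⟨t₁, ht₁, -⟩ := Scheme.exists_preimage_of_isPullback sq (D.obj.hom d) p₀ hp₀.symm
  obtain ⟨z, hz₁, -⟩ := Scheme.Pullback.exists_preimage_pullback (f := D.obj.hom) (g := a) d t₁ ht₁.symm
  obtain ⟨s, z', hz'⟩ := h z
  haveI := s.etale
  haveI := s.sep
  let q := s.q ≫ j
  haveI : Etale q := inferInstance
  haveI : IsSeparated q := inferInstance
  have hc : (pullback.fst g q) ≫ g = (pullback.snd g q ≫ s.q) ≫ j := by
    rw [pullback.condition, Category.assoc]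
  let t := sq.lift _ _ hc
  let k : pullback g q ⟶ D.obj.left :=
    pullback.lift t (pullback.snd g q) (sq.lift_snd _ _ _) ≫ s.k ≫ pullback.fst D.obj.hom a
  have hk : s.k ≫ pullback.snd D.obj.hom a = pullback.fst g' s.q := s.w
  refine ⟨⟨s.P, q, inferInstance, inferInstance, k, ?_, ?_⟩, ?_⟩
  · simp only [k, Category.assoc, pullback.condition, reassoc_of% hk, pullback.lift_fst_assoc]
    exact sq.lift_fst _ _ _
  · intro Z b₀ b₁ x₀ x₁ hb₀ hb₁ hb hx v hv
    have ha₀ : (b₀ ≫ t) ≫ a = x₀ := by rw [Category.assoc, sq.lift_fst]; exact hb₀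
    have ha₁ : (b₁ ≫ t) ≫ a = x₁ := by rw [Category.assoc, sq.lift_fst]; exact hb₁
    have hg₀ : (b₀ ≫ t) ≫ g' = (b₀ ≫ pullback.snd g q) ≫ s.q := by simp only [Category.assoc, t, sq.lift_snd]
    have hg₁ : (b₁ ≫ t) ≫ g' = (b₁ ≫ pullback.snd g q) ≫ s.q := by simp only [Category.assoc, t, sq.lift_snd]
    have h01 : (b₀ ≫ t) ≫ g' = (b₁ ≫ t) ≫ g' := by rw [hg₀, hg₁, hb]
    let vv : Desc.Lifts (pullDD D a j sq.w).obj (b₀ ≫ t) :=
      ⟨pullback.lift (b₀ ≫ t) (b₀ ≫ pullback.snd g q) hg₀ ≫ s.k, by rw [Category.assoc, s.w, pullback.lift_fst]⟩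
    have hlift : ∀ (b : Z ⟶ pullback g q) (hg : (b ≫ t) ≫ g' = (b ≫ pullback.snd g q) ≫ s.q),
        pullback.lift (b ≫ t) (b ≫ pullback.snd g q) hg ≫ s.k ≫ pullback.fst D.obj.hom a = b ≫ k := by
      intro b hg
      simp only [k, ← Category.assoc]
      refine congrArg (fun m => (m ≫ s.k) ≫ pullback.fst D.obj.hom a) ?_
      apply pullback.hom_ext <;> simp
    let y : Desc.Lifts D.obj ((b₀ ≫ t) ≫ a) := ⟨v.1, v.2.trans ha₀.symm⟩
    rw [φ_congr D ha₀.symm ha₁.symm hx (pull_cond a j sq.w h01) v y rfl,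
      ← pullDD_φ_fst h01 vv (pull_cond a j sq.w h01) y (by
        show v.1 = _
        rw [hv, ← hlift b₀ hg₀, Category.assoc]),
      s.compat (pullback.lift (b₀ ≫ t) (b₀ ≫ pullback.snd g q) hg₀)
        (pullback.lift (b₁ ≫ t) (b₁ ≫ pullback.snd g q) hg₁) _ _ (pullback.lift_fst _ _ _)
        (pullback.lift_fst _ _ _) (by simp only [pullback.lift_snd, hb]) h01 vv rfl,
      ← hlift b₁ hg₁, Category.assoc]
  · let e : pullback g' s.q ⟶ pullback g q := pullback.lift (pullback.fst g' s.q ≫ a) (pullback.snd g' s.q) (by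
      simp only [q, Category.assoc, sq.w, pullback.condition_assoc])
    have he : e ≫ k = s.k ≫ pullback.fst D.obj.hom a := by
      simp only [k, ← Category.assoc]
      refine congrArg (· ≫ pullback.fst D.obj.hom a) ?_
      have : e ≫ pullback.lift t (pullback.snd g q) (sq.lift_snd _ _ _) = 𝟙 _ := by
        apply pullback.hom_ext
        · rw [Category.assoc, pullback.lift_fst, Category.id_comp]
          apply sq.hom_ext
          · simp [t, e]
          · simp [t, e, pullback.condition]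
        · simp [e]
      rw [this, Category.id_comp]
    refine ⟨e z', ?_⟩
    exact (Scheme.Hom.comp_apply e k z').symm.trans
      (((congrArg (fun m : pullback g' s.q ⟶ D.obj.left => m z') he).trans
        ((Scheme.Hom.comp_apply s.k (pullback.fst D.obj.hom a) z').trans (congrArg _ hz'))).trans hz₁)

end Groth.Agent.FlatMor12.EtBridge
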