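import Groth.Agent.FlatMor12.EtBridge.QuotOpen
import Groth.Agent.FlatMor12.EtBridge.Refine
import Groth.Prelude.Def_DescFam

/-!
# Monomorphic local sections from effectivity
-/

set_option autoImplicit false
set_option backward.isDefEq.respectTransparency false
set_option backward.isDefEq.respectTransparency.types false

universe u

open CategoryTheory CategoryTheory.Limits AlgebraicGeometry

namespace Groth.Agent.FlatMor12.EtBridge

variable {S T : Scheme.{u}} {g : T ⟶ S}

/-- A monomorphic map of descent data from the base change of `q`. -/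
structure Good (D : Desc.SchDD g) {P : Scheme.{u}} (q : P ⟶ S) (k : pullback g q ⟶ D.obj.left) : Prop where
  w : k ≫ D.obj.hom = pullback.fst g q
  compat : Compat D q k
  mono : Mono k

/-- A good map from an etale separated scheme is a monomorphic local section. -/
noncomputable def Good.sec {D : Desc.SchDD g} {P : Scheme.{u}} {q : P ⟶ S} [Etale q] [IsSeparated q]
    {k : pullback g q ⟶ D.obj.left} (h : Good D q k) : Sec D :=
  ⟨P, q, inferInstance, inferInstance, k, h.w, h.compat⟩

variable {S₁ : Scheme.{u}} (p : S₁ ⟶ S) {D : Desc.SchDD g} {P : Scheme.{u}} {q : P ⟶ S₁}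

/-- The comparison of the two base changes. -/
noncomputable def outMap : pullback g (q ≫ p) ⟶ pullback (pullback.snd g p) q :=
  pullback.lift (pullback.lift (pullback.fst _ _) (pullback.snd _ _ ≫ q) (by rw [Category.assoc]; exact pullback.condition))
    (pullback.snd _ _) (pullback.lift_snd _ _ _)

/-- The inverse comparison. -/
noncomputable def inMap : pullback (pullback.snd g p) q ⟶ pullback g (q ≫ p) :=
  pullback.lift (pullback.fst _ _ ≫ pullback.fst _ _) (pullback.snd _ _)
    (by rw [Category.assoc, pullback.condition, pullback.condition_assoc])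

theorem outMap_inMap : outMap (g := g) (q := q) p ≫ inMap p = 𝟙 _ := by
  apply pullback.hom_ext <;> simp [outMap, inMap]

theorem inMap_outMap : inMap (g := g) (q := q) p ≫ outMap p = 𝟙 _ := by
  apply pullback.hom_ext
  · apply pullback.hom_ext
    · simp [outMap, inMap]
    · simp [outMap, inMap, pullback.condition]
  · simp [outMap, inMap]

/-- Good maps of a pulled back datum give good maps. -/
theorem good_out [Mono p] {k : pullback (pullback.snd g p) q ⟶ (pullDD D (pullback.fst g p) p pullback.condition).obj.left}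
    (h : Good (pullDD D (pullback.fst g p) p pullback.condition) q k) :
    Good D (q ≫ p) (outMap p ≫ k ≫ pullback.fst D.obj.hom (pullback.fst g p)) := by
  haveI := h.mono
  haveI : IsIso (outMap (g := g) (q := q) p) := ⟨inMap p, outMap_inMap p, inMap_outMap p⟩
  haveI : Mono (pullback.fst g p) := inferInstance
  have hk : k ≫ pullback.snd D.obj.hom (pullback.fst g p) = pullback.fst (pullback.snd g p) q := h.w
  refine ⟨?_, ?_, @mono_comp _ _ _ _ _ _ inferInstance _ (@mono_comp _ _ _ _ _ _ h.mono _ inferInstance)⟩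
  · rw [Category.assoc, Category.assoc, pullback.condition, reassoc_of% hk]
    simp [outMap]
  · intro Z a b x₀ x₁ ha hb hab hx v hv
    let y : ∀ (c : Z ⟶ pullback g (q ≫ p)), Z ⟶ pullback g p := fun c =>
      c ≫ outMap p ≫ pullback.fst (pullback.snd g p) q
    have hy : ∀ c, y c ≫ pullback.fst g p = c ≫ pullback.fst g (q ≫ p) := fun c => by simp [y, outMap]
    have hy' : y a ≫ pullback.snd g p = y b ≫ pullback.snd g p := by simp [y, outMap, reassoc_of% hab]
    let vv : Desc.Lifts (pullDD D (pullback.fst g p) p pullback.condition).obj (y a) :=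
      ⟨a ≫ outMap p ≫ k, by
        show (a ≫ outMap p ≫ k) ≫ pullback.snd D.obj.hom (pullback.fst g p) = _
        simp only [Category.assoc, hk, y]⟩
    have hc := h.compat (a ≫ outMap p) (b ≫ outMap p) (y a) (y b) (Category.assoc _ _ _) (Category.assoc _ _ _)
      (by simp [outMap, hab]) hy' vv (Category.assoc _ _ _).symm
    let y' : Desc.Lifts D.obj (y a ≫ pullback.fst g p) := ⟨v.1, by rw [v.2, hy, ha]⟩
    rw [φ_congr D (by rw [hy, ha]) (by rw [hy, hb]) hx (pull_cond _ p pullback.condition hy') v y' rfl,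
      ← pullDD_φ_fst hy' vv (pull_cond _ p pullback.condition hy') y' (by
        show v.1 = _
        rw [hv]; simp only [vv, Category.assoc])]
    rw [hc]
    simp only [Category.assoc]

/-- Good maps give good maps of the pulled back datum. -/
theorem good_in {k : pullback g (q ≫ p) ⟶ D.obj.left} (h : Good D (q ≫ p) k) :
    ∃ k' : pullback (pullback.snd g p) q ⟶ (pullDD D (pullback.fst g p) p pullback.condition).obj.left,
      Good (pullDD D (pullback.fst g p) p pullback.condition) q k' ∧
        k' ≫ pullback.fst D.obj.hom (pullback.fst g p) = inMap p ≫ k := by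
  let k' : pullback (pullback.snd g p) q ⟶ pullback D.obj.hom (pullback.fst g p) :=
    pullback.lift (inMap p ≫ k) (pullback.fst _ _) (by rw [Category.assoc, h.w]; simp [inMap])
  have hk : k' ≫ pullback.fst D.obj.hom (pullback.fst g p) = inMap p ≫ k := pullback.lift_fst _ _ _
  have hk₂ : k' ≫ pullback.snd D.obj.hom (pullback.fst g p) = pullback.fst _ _ := pullback.lift_snd _ _ _
  haveI := h.mono
  haveI : IsIso (inMap (g := g) (q := q) p) := ⟨outMap p, inMap_outMap p, outMap_inMap p⟩
  haveI : Mono (inMap p ≫ k) := mono_comp _ _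
  refine ⟨k', ⟨hk₂, ?_, @mono_of_mono _ _ _ _ _ k' (pullback.fst D.obj.hom (pullback.fst g p)) (by rw [hk]; infer_instance)⟩, hk⟩
  intro Z a b x₀ x₁ ha hb hab hx v hv
  apply pullback.hom_ext
  · let y : Desc.Lifts D.obj (x₀ ≫ pullback.fst g p) :=
      ⟨v.1 ≫ pullback.fst D.obj.hom (pullback.fst g p), by
        have e : v.1 ≫ pullback.snd D.obj.hom (pullback.fst g p) = x₀ := v.2
        rw [Category.assoc, pullback.condition, ← Category.assoc, e]⟩
    rw [pullDD_φ_fst hx v (pull_cond _ p pullback.condition hx) y rfl,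
      h.compat (a ≫ inMap p) (b ≫ inMap p) _ _ (by simp [inMap, ← ha]) (by simp [inMap, ← hb])
        (by simp [inMap, hab]) (pull_cond _ p pullback.condition hx) y (by
          show v.1 ≫ _ = _
          rw [hv, Category.assoc, hk, Category.assoc]), Category.assoc, Category.assoc, hk]
  · have e : ((pullDD D (pullback.fst g p) p pullback.condition).φ x₀ x₁ hx v).1 ≫
        pullback.snd D.obj.hom (pullback.fst g p) = x₁ :=
      ((pullDD D (pullback.fst g p) p pullback.condition).φ x₀ x₁ hx v).2
    exact e.trans (hb.symm.trans ((congrArg (b ≫ ·) hk₂.symm).trans (Category.assoc _ _ _).symm))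

/-- Monomorphisms from affine etale pieces of an effective datum. -/
theorem exists_good_of_iso (D : Desc.SchDD g) {U : Over S} [Etale U.hom]
    (e : (Desc.toDD g).obj U ≅ D) (d : D.obj.left) :
    ∃ (A : Scheme.{u}) (q : A ⟶ S), IsAffine A ∧ Etale q ∧ IsSeparated q ∧
      ∃ k : pullback g q ⟶ D.obj.left, Good D q k ∧ d ∈ Set.range k := by
  let σ : pullback g U.hom ⟶ D.obj.left := e.hom.hom.left
  have hσ : σ ≫ D.obj.hom = pullback.fst g U.hom := Over.w e.hom.hom
  let i : ((Desc.toDD g).obj U).obj ≅ D.obj := ⟨e.hom.hom, e.inv.hom,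
    congrArg Desc.SchDD.Hom.hom e.hom_inv_id, congrArg Desc.SchDD.Hom.hom e.inv_hom_id⟩
  haveI : IsIso σ := inferInstanceAs (IsIso ((Over.forget T).mapIso i).hom)
  let w := inv σ d
  obtain ⟨W, hW, huW, -⟩ := exists_isAffineOpen_mem_and_subset (U := ⊤) (x := U.hom (pullback.snd g U.hom w)) trivial
  obtain ⟨A, hA, huA, hAW⟩ := exists_isAffineOpen_mem_and_subset (U := U.hom ⁻¹ᵁ W) (x := pullback.snd g U.hom w) huW
  let q : (A : Scheme.{u}) ⟶ S := A.ι ≫ U.hom
  haveI : IsAffine (A : Scheme.{u}) := hA
  haveI : IsAffine (W : Scheme.{u}) := hW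
  haveI : IsSeparated q := by
    show IsSeparated (A.ι ≫ U.hom)
    rw [← U.hom.resLE_comp_ι hAW]
    infer_instance
  let l : pullback g q ⟶ pullback g U.hom := pullback.map _ _ _ _ (𝟙 T) A.ι (𝟙 S) (by simp) (by simp [q])
  have hsq : IsPullback l (pullback.snd g q) (pullback.snd g U.hom) A.ι := by
    refine IsPullback.of_right ?_ (by simp [l]) (IsPullback.of_hasPullback g U.hom)
    simpa [l, q] using IsPullback.of_hasPullback g q
  haveI : Mono l := (MorphismProperty.monomorphisms Scheme.{u}).of_isPullback hsq.flip (inferInstanceAs (Mono A.ι))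
  refine ⟨A, q, hA, inferInstanceAs (Etale (A.ι ≫ U.hom)), inferInstance, l ≫ σ, ⟨?_, ?_, mono_comp _ _⟩, ?_⟩
  · rw [Category.assoc, hσ]
    simp [l]
  · intro Z a b x₀ x₁ ha hb hab hx v hv
    let v₀ : Desc.Lifts ((Desc.toDD g).obj U).obj x₀ := ⟨a ≫ l, by
      show (a ≫ l) ≫ pullback.fst g U.hom = x₀
      rw [← ha]; simp [l]⟩
    have hc := e.hom.comm x₀ x₁ hx v₀ v (by
      show v.1 = (a ≫ l) ≫ σ
      rw [hv, Category.assoc])
    rw [hc, ← Category.assoc b]
    refine congrArg (· ≫ σ) ?_
    apply pullback.hom_ext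
    · refine ((((Desc.toDD g).obj U).φ x₀ x₁ hx v₀).2).trans ?_
      rw [← hb]; simp [l]
    · refine (pullback.lift_snd _ _ _).trans ?_
      show (a ≫ l) ≫ pullback.snd g U.hom = _
      simp [l, reassoc_of% hab]
  · obtain ⟨z, hz, -⟩ := Scheme.exists_preimage_of_isPullback hsq w ⟨_, huA⟩ rfl
    refine ⟨z, ?_⟩
    rw [Scheme.Hom.comp_apply, hz, ← Scheme.Hom.comp_apply, IsIso.inv_hom_id]
    rfl

/-- Monomorphisms from effectivity after base change along a monomorphism. -/
theorem exists_good_of_iso_pull [Mono p] (D : Desc.SchDD g) {U : Over S₁} [Etale U.hom]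
    (e : (Desc.toDD (pullback.snd g p)).obj U ≅ pullDD D (pullback.fst g p) p pullback.condition)
    (d : D.obj.left) (hd : g (D.obj.hom d) ∈ Set.range p) :
    ∃ (A : Scheme.{u}) (q : A ⟶ S₁), IsAffine A ∧ Etale q ∧ IsSeparated q ∧
      ∃ k : pullback g (q ≫ p) ⟶ D.obj.left, Good D (q ≫ p) k ∧ d ∈ Set.range k := by
  obtain ⟨s₁, hs₁⟩ := hd
  obtain ⟨t₁, ht₁, -⟩ := Scheme.Pullback.exists_preimage_pullback (f := g) (g := p) (D.obj.hom d) s₁ hs₁.symm
  obtain ⟨z, hz, -⟩ := Scheme.Pullback.exists_preimage_pullback (f := D.obj.hom) (g := pullback.fst g p) d t₁ ht₁.symm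
  obtain ⟨A, q, hA, hq, hqs, k, hk, w, hw⟩ := exists_good_of_iso _ e z
  refine ⟨A, q, hA, hq, hqs, _, good_out p hk, inMap p w, ?_⟩
  rw [← Scheme.Hom.comp_apply, ← Category.assoc, inMap_outMap, Category.id_comp, Scheme.Hom.comp_apply, hw]
  exact hz

end Groth.Agent.FlatMor12.EtBridge
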