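import Groth.Agent.FlatMor12.EtBridge.MonoSec
import Groth.Agent.FlatMor12.EtBridge.Fam

/-!
# Effectivity of etale data from effectivity on an open cover
-/

set_option autoImplicit false
set_option backward.isDefEq.respectTransparency false
set_option backward.isDefEq.respectTransparency.types false

universe u

open CategoryTheory CategoryTheory.Limits AlgebraicGeometry Desc

namespace Groth.Agent.FlatMor12.EtBridge

variable {S T S₁ : Scheme.{u}} {g : T ⟶ S}

/-- The one-member form of an isomorphism with a pulled back datum. -/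
theorem nonempty_iso_schDD (p : S₁ ⟶ S) (D : SchDDFam (fun _ : PUnit.{1} => g)) {U : Over S₁}
    (h : Nonempty ((toDDFam (fun _ : PUnit.{1} => pullback.snd g p)).obj U ≅
      (pullDDFam (f := fun _ : PUnit.{1} => g) (f' := fun _ : PUnit.{1} => pullback.snd g p)
        (α := id) (p := p) (p' := fun _ => pullback.fst g p) (fun _ => pullback.condition)).obj D)) :
    Nonempty ((toDD (pullback.snd g p)).obj U ≅
      pullDD ((SchDDFam.toSchDD g).obj D) (pullback.fst g p) p pullback.condition) :=
  ⟨(SchDDFam.toSchDD (pullback.snd g p)).mapIso h.some⟩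

/-- Pullback of descent data preserves isomorphisms with canonical data. -/
theorem nonempty_iso_pull {U : Over S} {D : SchDDFam (fun _ : PUnit.{1} => g)}
    (e : (toDDFam (fun _ : PUnit.{1} => g)).obj U ≅ D) (p : S₁ ⟶ S) :
    Nonempty ((toDDFam (fun _ : PUnit.{1} => pullback.snd g p)).obj (Over.mk (pullback.snd U.hom p)) ≅
      (pullDDFam (f := fun _ : PUnit.{1} => g) (f' := fun _ : PUnit.{1} => pullback.snd g p)
        (α := id) (p := p) (p' := fun _ => pullback.fst g p) (fun _ => pullback.condition)).obj D) := by
  let gp := pullback.snd g p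
  let Dp := (pullDDFam (f := fun _ : PUnit.{1} => g) (f' := fun _ : PUnit.{1} => pullback.snd g p)
        (α := id) (p := p) (p' := fun _ => pullback.fst g p) (fun _ => pullback.condition)).obj
          ((toDDFam (fun _ : PUnit.{1} => g)).obj U)
  let σ : pullback gp (pullback.snd U.hom p) ⟶ pullback (pullback.fst g U.hom) (pullback.fst g p) :=
    pullback.lift (pullback.lift (pullback.fst _ _ ≫ pullback.fst g p) (pullback.snd _ _ ≫ pullback.fst U.hom p) (by
        simp only [Category.assoc, pullback.condition, gp]
        rw [pullback.condition_assoc]))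
      (pullback.fst _ _) (pullback.lift_fst _ _ _)
  let τ : pullback (pullback.fst g U.hom) (pullback.fst g p) ⟶ pullback gp (pullback.snd U.hom p) :=
    pullback.lift (pullback.snd _ _) (pullback.lift (pullback.fst _ _ ≫ pullback.snd g U.hom) (pullback.snd _ _ ≫ gp) (by
      simp only [Category.assoc, gp, ← pullback.condition (f := g) (g := U.hom), pullback.condition_assoc,
        pullback.condition (f := g) (g := p)])) (by simp [gp])
  haveI : IsIso σ := by
    refine ⟨τ, ?_, ?_⟩
    · apply pullback.hom_ext
      · simp [σ, τ]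
      · apply pullback.hom_ext <;> simp [σ, τ, gp, pullback.condition]
    · apply pullback.hom_ext
      · apply pullback.hom_ext
        · simp [σ, τ, pullback.condition]
        · simp [σ, τ]
      · simp [σ, τ]
  obtain ⟨i⟩ := nonempty_iso_fam Dp (nonempty_iso_of_isIso ((SchDDFam.toSchDD gp).obj Dp)
    (Over.mk (pullback.snd U.hom p)) σ (pullback.lift_snd _ _ _) (by
      intro Z a b x₀ x₁ ha hb hab hx v hv
      apply pullback.hom_ext
      · refine (pullback.lift_fst _ _ _).trans ?_
        apply pullback.hom_ext
        · refine (pullback.lift_fst _ _ _).trans ?_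
          rw [← hb]
          simp only [Category.assoc]
          exact (congrArg (b ≫ ·) ((pullback.lift_fst_assoc _ _ _ _).trans (pullback.lift_fst _ _ _))).symm
        · refine (pullback.lift_snd _ _ _).trans ?_
          show (v.1 ≫ pullback.fst (pullback.fst g U.hom) (pullback.fst g p)) ≫ pullback.snd g U.hom = _
          simp only [hv, Category.assoc]
          refine ((congrArg (a ≫ ·) ((pullback.lift_fst_assoc _ _ _ _).trans (pullback.lift_snd _ _ _))).trans ?_).trans
            (congrArg (b ≫ ·) ((pullback.lift_fst_assoc _ _ _ _).trans (pullback.lift_snd _ _ _))).symm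
          exact ((Category.assoc _ _ _).symm.trans (congrArg (· ≫ pullback.fst U.hom p) hab)).trans (Category.assoc _ _ _)
      · refine (pullback.lift_snd _ _ _).trans ?_
        rw [← hb]
        simp only [Category.assoc]
        exact (congrArg (b ≫ ·) (pullback.lift_snd _ _ _)).symm))
  exact ⟨i ≪≫ (pullDDFam (f := fun _ : PUnit.{1} => g) (f' := fun _ : PUnit.{1} => pullback.snd g p)
        (α := id) (p := p) (p' := fun _ => pullback.fst g p) (fun _ => pullback.condition)).mapIso e⟩

/-- Effectivity from monomorphic local sections. -/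
theorem effective_fam_of_hasMonoSecs (hg : SGA1.UnivSubmersive g) (D : SchDDFam (fun _ : PUnit.{1} => g))
    [Etale (D.obj PUnit.unit).hom] (h : HasMonoSecs ((SchDDFam.toSchDD g).obj D)) :
    ∃ U : Over S, Etale U.hom ∧ Nonempty ((toDDFam (fun _ : PUnit.{1} => g)).obj U ≅ D) := by
  haveI : Etale ((SchDDFam.toSchDD g).obj D).obj.hom := ‹Etale (D.obj PUnit.unit).hom›
  haveI := FEtDesc.surjective_of_univSubmersive hg
  obtain ⟨U, hU, e⟩ := effective_of_hasMonoSecs _
    (fun U _ => FEtDesc.isQuotientMap_of_univSubmersive
      (MorphismProperty.pullback_snd (P := SGA1.UnivSubmersive.{u}) g U.hom hg)) h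
  exact ⟨U, hU, nonempty_iso_fam D e⟩

/-- Effectivity from effectivity on an open cover. -/
theorem effective_fam_of_cover (hg : SGA1.UnivSubmersive g) (D : SchDDFam (fun _ : PUnit.{1} => g))
    [Etale (D.obj PUnit.unit).hom]
    (h : ∀ x : S, ∃ W : S.Opens, x ∈ W ∧ ∃ U : Over (W : Scheme.{u}), Etale U.hom ∧
      Nonempty ((toDDFam (fun _ : PUnit.{1} => pullback.snd g W.ι)).obj U ≅
        (pullDDFam (f := fun _ : PUnit.{1} => g) (f' := fun _ : PUnit.{1} => pullback.snd g W.ι)
          (α := id) (p := W.ι) (p' := fun _ => pullback.fst g W.ι) (fun _ => pullback.condition)).obj D)) :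
    ∃ U : Over S, Etale U.hom ∧ Nonempty ((toDDFam (fun _ : PUnit.{1} => g)).obj U ≅ D) := by
  refine effective_fam_of_hasMonoSecs hg D fun d => ?_
  obtain ⟨W, hW, U, hU, hi⟩ := h (g (((SchDDFam.toSchDD g).obj D).obj.hom d))
  obtain ⟨e⟩ := nonempty_iso_schDD W.ι D hi
  obtain ⟨A, q, hA, hq, hqs, k, hk, hd⟩ := exists_good_of_iso_pull W.ι _ e d
    (by rw [Scheme.Opens.range_ι]; exact hW)
  haveI : Etale (q ≫ W.ι) := inferInstance
  haveI : IsSeparated (q ≫ W.ι) := inferInstance
  exact ⟨hk.sec, hk.mono, hd⟩

end Groth.Agent.FlatMor12.EtBridge
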