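import Groth.Agent.FlatMor12.EtBridge.ApproxSecs

/-!
# Etale separated descent data along universally open surjections
-/

set_option autoImplicit false
set_option backward.isDefEq.respectTransparency false
set_option backward.isDefEq.respectTransparency.types false

universe u

open CategoryTheory CategoryTheory.Limits AlgebraicGeometry

namespace Groth.Agent.FlatMor12.EtBridge

variable {S T : Scheme.{u}} {g : T ⟶ S} (D : Desc.SchDD g)

/-- The involution of pairs given by a datum. -/
noncomputable def flip' : pullback (D.obj.hom ≫ g) g ⟶ pullback (D.obj.hom ≫ g) g :=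
  pullback.lift (actOf D) (pullback.fst _ _ ≫ D.obj.hom) (by
    rw [reassoc_of% (isAct_actOf D).over, ← pullback.condition, Category.assoc])

theorem flip'_flip' : flip' D ≫ flip' D = 𝟙 _ := by
  have hΘ := isAct_actOf D
  have h0 : pullback.fst (D.obj.hom ≫ g) g ≫ D.obj.hom ≫ g = pullback.snd _ _ ≫ g := pullback.condition
  have h1 : flip' D ≫ actOf D = pullback.fst _ _ := by
    have e : actOf D = pullback.lift (pullback.fst _ _) (pullback.snd _ _) h0 ≫ actOf D := by
      rw [show pullback.lift (pullback.fst _ _) (pullback.snd _ _) h0 = 𝟙 _ by apply pullback.hom_ext <;> simp]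
      simp
    have e' : flip' D = pullback.lift (pullback.lift (pullback.fst _ _) (pullback.snd _ _) h0 ≫ actOf D)
        (pullback.fst _ _ ≫ D.obj.hom) (by
          rw [← e, reassoc_of% hΘ.over, ← pullback.condition, Category.assoc]) := by
      apply pullback.hom_ext
      · rw [pullback.lift_fst, ← e]
        exact pullback.lift_fst _ _ _
      · rw [pullback.lift_snd]
        exact pullback.lift_snd _ _ _
    rw [e', hΘ.comp _ _ _ _ _ (by rw [Category.assoc]), hΘ.self _ _ rfl]
  apply pullback.hom_ext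
  · rw [Category.assoc, Category.id_comp]
    exact (congrArg (flip' D ≫ ·) (pullback.lift_fst _ _ _)).trans h1
  · rw [Category.assoc, Category.id_comp]
    refine (congrArg (flip' D ≫ ·) (pullback.lift_snd _ _ _)).trans ?_
    rw [← Category.assoc]
    refine (congrArg (· ≫ D.obj.hom) (pullback.lift_fst _ _ _)).trans ?_
    exact hΘ.over

theorem isOpenMap_actOf [UniversallyOpen g] : IsOpenMap (actOf D) := by
  haveI : IsIso (flip' D) := ⟨flip' D, flip'_flip' D, flip'_flip' D⟩
  have e : actOf D = flip' D ≫ pullback.fst _ _ := (pullback.lift_fst _ _ _).symm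
  rw [e]
  exact (flip' D ≫ pullback.fst _ _).isOpenMap

/-- The saturation of an open. -/
noncomputable def sat [UniversallyOpen g] (V : D.obj.left.Opens) : D.obj.left.Opens :=
  ⟨actOf D '' (pullback.fst (D.obj.hom ≫ g) g ⁻¹' (V : Set D.obj.left)),
    isOpenMap_actOf D _ (V.isOpen.preimage (pullback.fst (D.obj.hom ≫ g) g).continuous)⟩

theorem mem_sat [UniversallyOpen g] {V : D.obj.left.Opens} {d : D.obj.left} (h : d ∈ V) : d ∈ sat D V := by
  refine ⟨unitMap g D.obj.hom d, ?_, ?_⟩
  · show pullback.fst (D.obj.hom ≫ g) g (unitMap g D.obj.hom d) ∈ V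
    rw [← Scheme.Hom.comp_apply, unitMap, pullback.lift_fst]
    exact h
  · rw [← Scheme.Hom.comp_apply, (isAct_actOf D).unit]
    rfl

theorem isCompact_sat [UniversallyOpen g] [QuasiCompact g] {V : D.obj.left.Opens}
    (hV : IsCompact (V : Set D.obj.left)) : IsCompact (sat D V : Set D.obj.left) :=
  ((pullback.fst (D.obj.hom ≫ g) g).isCompact_preimage hV).image (actOf D).continuous

theorem sat_stable [UniversallyOpen g] (V : D.obj.left.Opens) (w : ↥(pullback (D.obj.hom ≫ g) g))
    (hw : pullback.fst (D.obj.hom ≫ g) g w ∈ sat D V) : actOf D w ∈ sat D V := by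
  obtain ⟨w₀, hw₀, he⟩ := hw
  have hΘ := isAct_actOf D
  let P := pullback (D.obj.hom ≫ g) g
  let K : Type u := P.residueField w
  let ow : Spec (CommRingCat.of K) ⟶ P := P.fromSpecResidueField w
  let l : Spec (CommRingCat.of K) ⟶ D.obj.left := ow ≫ pullback.fst _ _
  have hl : actOf D w₀ = l default := by
    rw [he]
    show _ = (ow ≫ pullback.fst _ _) default
    rw [Scheme.Hom.comp_apply]
    exact congrArg _ (Scheme.fromSpecResidueField_apply _ _).symm
  obtain ⟨p, hp1, -⟩ := Scheme.Pullback.exists_preimage_pullback (f := actOf D) (g := l) w₀ default hl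
  let L : Type u := (pullback (actOf D) l).residueField p
  let o : Spec (CommRingCat.of L) ⟶ P := (pullback (actOf D) l).fromSpecResidueField p ≫ pullback.fst _ _
  let r : Spec (CommRingCat.of L) ⟶ Spec (CommRingCat.of K) :=
    (pullback (actOf D) l).fromSpecResidueField p ≫ pullback.snd _ _
  have ho : o ≫ actOf D = r ≫ l := by simp [o, r, pullback.condition]
  have hod : o default = w₀ := by
    show ((pullback (actOf D) l).fromSpecResidueField p ≫ pullback.fst _ _) default = w₀
    rw [Scheme.Hom.comp_apply]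
    exact (congrArg _ (Scheme.fromSpecResidueField_apply _ _)).trans hp1
  let v := o ≫ pullback.fst _ _
  let x₁ := o ≫ pullback.snd _ _
  let x := r ≫ ow ≫ pullback.snd _ _
  have w₁ : v ≫ D.obj.hom ≫ g = x₁ ≫ g := by simp only [v, x₁, Category.assoc, pullback.condition]
  have eo : pullback.lift v x₁ w₁ = o := by apply pullback.hom_ext <;> simp [v, x₁]
  have w₂ : (pullback.lift v x₁ w₁ ≫ actOf D) ≫ D.obj.hom ≫ g = x ≫ g := by
    rw [eo, ho]
    simp only [x, l, Category.assoc, pullback.condition]
  have w₃ : v ≫ D.obj.hom ≫ g = x ≫ g := by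
    rw [w₁, ← w₂, eo]
    simp only [x₁, Category.assoc, reassoc_of% hΘ.over]
  have ew : pullback.lift (pullback.lift v x₁ w₁ ≫ actOf D) x w₂ = r ≫ ow := by
    apply pullback.hom_ext
    · simp only [eo, ho, pullback.lift_fst, l, Category.assoc]
    · simp only [pullback.lift_snd, x, Category.assoc]
  have key := hΘ.comp v x₁ x w₁ w₂ w₃
  rw [ew] at key
  refine ⟨pullback.lift v x w₃ default, ?_, ?_⟩
  · show pullback.fst (D.obj.hom ≫ g) g (pullback.lift v x w₃ default) ∈ V
    rw [← Scheme.Hom.comp_apply, pullback.lift_fst]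
    show (o ≫ pullback.fst _ _) default ∈ V
    rw [Scheme.Hom.comp_apply, hod]
    exact hw₀
  · rw [← Scheme.Hom.comp_apply, ← key, Scheme.Hom.comp_apply, Scheme.Hom.comp_apply]
    exact congrArg _ (Scheme.fromSpecResidueField_apply _ _)

section Sub

variable (U : D.obj.left.Opens) (hU : ∀ w, pullback.fst (D.obj.hom ≫ g) g w ∈ U → actOf D w ∈ U)

/-- Pairs in the open, as pairs. -/
noncomputable def subMap : pullback ((U.ι ≫ D.obj.hom) ≫ g) g ⟶ pullback (D.obj.hom ≫ g) g :=
  map₁ (π' := U.ι ≫ D.obj.hom) U.ι (𝟙 T) (Category.comp_id _).symm (Category.id_comp g)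

include hU in
theorem range_subMap : Set.range (subMap D U ≫ actOf D) ⊆ Set.range U.ι := by
  rintro _ ⟨z, rfl⟩
  rw [Scheme.Opens.range_ι, Scheme.Hom.comp_apply]
  refine hU _ ?_
  rw [← Scheme.Hom.comp_apply, show subMap D U ≫ pullback.fst _ _ = pullback.fst _ _ ≫ U.ι from
    pullback.lift_fst _ _ _, Scheme.Hom.comp_apply]
  exact (pullback.fst ((U.ι ≫ D.obj.hom) ≫ g) g z).2

/-- The action on a stable open. -/
noncomputable def subAct : pullback ((U.ι ≫ D.obj.hom) ≫ g) g ⟶ (U : Scheme.{u}) :=
  IsOpenImmersion.lift U.ι (subMap D U ≫ actOf D) (range_subMap D U hU)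

theorem subAct_ι : subAct D U hU ≫ U.ι = subMap D U ≫ actOf D :=
  IsOpenImmersion.lift_fac _ _ _

theorem isAct_subAct : IsAct g (U.ι ≫ D.obj.hom) (subAct D U hU) := by
  have hΘ := isAct_actOf D
  have ho : subAct D U hU ≫ U.ι ≫ D.obj.hom = pullback.snd _ _ := by
    rw [reassoc_of% subAct_ι D U hU, hΘ.over]
    exact (pullback.lift_snd _ _ _).trans (Category.comp_id _)
  refine ⟨ho, ?_, ?_⟩
  · rw [← cancel_mono U.ι, Category.assoc, subAct_ι, ← Category.assoc, subMap, unit_nat, Category.assoc,
      hΘ.unit, Category.id_comp, Category.comp_id]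
  · have e₁ : subAct D U hU ≫ U.ι = map₁ (π' := U.ι ≫ D.obj.hom) U.ι (𝟙 T) (Category.comp_id _).symm
        (Category.id_comp g) ≫ actOf D := subAct_ι D U hU
    refine (cancel_mono U.ι).1 ?_
    refine (Category.assoc _ _ _).trans (((congrArg (actMap g _ _ ho ≫ ·) e₁).trans ?_).trans
      ((congrArg (sndMap g _ ≫ ·) e₁.symm).trans (Category.assoc _ _ _).symm))
    rw [← Category.assoc, ← Category.assoc,
      act_nat U.ι (𝟙 T) (Category.comp_id _).symm (Category.id_comp g) hΘ.over ho e₁, snd_nat,
      ]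
    exact ((Category.assoc _ _ _).trans (congrArg (map₂ U.ι (𝟙 T) _ _ ≫ ·) hΘ.assoc)).trans
      (Category.assoc _ _ _).symm

/-- The datum on a stable open. -/
noncomputable def subDD : Desc.SchDD g := ofAct (isAct_subAct D U hU)

/-- Local sections of the datum on a stable open are local sections. -/
theorem sec_of_subDD {d : D.obj.left} (hd : d ∈ U) (h : HasSecs (subDD D U hU)) :
    ∃ s : Sec D, d ∈ Set.range s.k := by
  obtain ⟨s, z, hz⟩ := h ⟨d, hd⟩
  refine ⟨⟨s.P, s.q, s.etale, s.sep, s.k ≫ U.ι, by rw [Category.assoc]; exact s.w, ?_⟩, z, ?_⟩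
  · intro Z a b x₀ x₁ ha hb hab hx v hv
    let w : Desc.Lifts (subDD D U hU).obj x₀ := ⟨a ≫ s.k, by
      show (a ≫ s.k) ≫ U.ι ≫ D.obj.hom = x₀
      rw [← v.2, hv, Category.assoc, Category.assoc, Category.assoc]⟩
    have hc := s.compat a b x₀ x₁ ha hb hab hx w rfl
    rw [← Category.assoc b, ← hc, φ_eq_actOf D hx v (act_cond hx v)]
    show _ = (pullback.lift w.1 x₁ (act_cond hx w) ≫ subAct D U hU) ≫ U.ι
    rw [Category.assoc, subAct_ι, ← Category.assoc]
    refine congrArg (· ≫ actOf D) ?_
    apply pullback.hom_ext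
    · simp only [subMap, map₁, Category.assoc, pullback.lift_fst, pullback.lift_fst_assoc]
      show v.1 = (a ≫ s.k) ≫ U.ι
      rw [hv, Category.assoc]
    · simp [subMap, map₁]
  · rw [Scheme.Hom.comp_apply, hz]
    rfl

end Sub

/-- Local sections exist along universally open surjections of affine schemes. -/
theorem hasSecs_of_universallyOpen_affine [IsAffine S] [IsAffine T] [UniversallyOpen g] [Surjective g]
    [Etale D.obj.hom] [IsSeparated D.obj.hom] : HasSecs D := by
  intro d
  obtain ⟨V, hV, hdV, -⟩ := exists_isAffineOpen_mem_and_subset (U := ⊤) (x := d) trivial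
  haveI : QuasiCompact g := inferInstance
  let U := sat D V
  let E := subDD D U (sat_stable D V)
  haveI : CompactSpace (U : Scheme.{u}) := isCompact_iff_compactSpace.mp (isCompact_sat D hV.isCompact)
  haveI : Etale E.obj.hom := inferInstanceAs (Etale (U.ι ≫ D.obj.hom))
  haveI : IsSeparated E.obj.hom := inferInstanceAs (IsSeparated (U.ι ≫ D.obj.hom))
  haveI : QuasiCompact E.obj.hom := quasiCompact_of_compactSpace (U.ι ≫ D.obj.hom)
  exact sec_of_subDD D U _ (mem_sat D hdV) (hasSecs_of_affine (univSSubtrusive_of_universallyOpen g) E)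

/-- Local sections exist along universally open surjections. -/
theorem hasSecs_of_universallyOpen [UniversallyOpen g] [Surjective g] [Etale D.obj.hom]
    [IsSeparated D.obj.hom] : HasSecs D := by
  intro d
  obtain ⟨W, hW, hdW, -⟩ := exists_isAffineOpen_mem_and_subset (U := ⊤) (x := g (D.obj.hom d)) trivial
  have sq := IsPullback.of_hasPullback g W.ι
  haveI : IsAffine (W : Scheme.{u}) := hW
  refine hasSecs_of_open sq (by rw [Scheme.Opens.range_ι]; exact hdW) ?_
  let gW := pullback.snd g W.ι
  haveI : Surjective gW := MorphismProperty.pullback_snd (P := @Surjective) _ _ inferInstance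
  have haff : ∀ t : ↥(pullback g W.ι), ∃ O : (pullback g W.ι).Opens, IsAffineOpen O ∧ t ∈ O := fun t => by
    obtain ⟨O, hO, htO, -⟩ := exists_isAffineOpen_mem_and_subset (U := ⊤) (x := t) trivial
    exact ⟨O, hO, htO⟩
  choose O hO htO using haff
  haveI : CompactSpace (W : Scheme.{u}) := isCompact_iff_compactSpace.mp hW.isCompact
  obtain ⟨A, hA⟩ := isCompact_univ.elim_finite_subcover (fun t => gW '' (O t : Set _))
    (fun t => gW.isOpenMap _ (O t).isOpen) fun w _ => by
      obtain ⟨t, rfl⟩ := gW.surjective w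
      exact Set.mem_iUnion.2 ⟨t, t, htO t, rfl⟩
  let Q : (pullback g W.ι).Opens := ⟨⋃ t ∈ A, (O t : Set _), isOpen_biUnion fun t _ => (O t).isOpen⟩
  haveI : CompactSpace (Q : Scheme.{u}) :=
    isCompact_iff_compactSpace.mp (A.isCompact_biUnion fun t _ => (hO t).isCompact)
  obtain ⟨V, p, hV, hp, hps⟩ := Et18.exists_affine_etale_cover (Q : Scheme.{u})
  let a := p ≫ Q.ι
  haveI : UniversallyOpen a := inferInstanceAs (UniversallyOpen (p ≫ Q.ι))
  haveI : UniversallyOpen (a ≫ gW) := inferInstance
  haveI : Surjective (a ≫ gW) := ⟨fun w => by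
    obtain ⟨t, htA, q, hq, rfl⟩ := Set.mem_iUnion₂.1 (hA (Set.mem_univ w))
    obtain ⟨x, hx⟩ := p.surjective ⟨q, Set.mem_iUnion₂.2 ⟨t, htA, hq⟩⟩
    refine ⟨x, ?_⟩
    rw [Scheme.Hom.comp_apply, Scheme.Hom.comp_apply, hx]
    rfl⟩
  exact hasSecs_of_pull (w := (Category.comp_id (a ≫ gW)).symm)
    (SubtrLib.univSubmersive_of_univSSubtrusive _ (univSSubtrusive_of_universallyOpen _))
    (hasSecs_of_universallyOpen_affine (pullDD (pullDD D (pullback.fst g W.ι) W.ι sq.w) a (𝟙 _) _))

/-- Effectivity along universally open surjections. -/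
theorem effective_of_universallyOpen [UniversallyOpen g] [Surjective g] [IsSeparated D.obj.hom]
    [Etale D.obj.hom] :
    ∃ U : Over S, IsSeparated U.hom ∧ Etale U.hom ∧ Nonempty ((Desc.toDD g).obj U ≅ D) :=
  effective_of_hasSecs D (fun U _ => (pullback.snd g U.hom).isOpenMap.isQuotientMap
    (pullback.snd g U.hom).continuous (pullback.snd g U.hom).surjective) (hasSecs_of_universallyOpen D)

end Groth.Agent.FlatMor12.EtBridge
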