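import Groth.Prelude.Def_Desc
import Mathlib.AlgebraicGeometry.Morphisms.Etale
import Mathlib.AlgebraicGeometry.Morphisms.Separated

/-!
# Descended local sections of an etale descent datum
-/

set_option autoImplicit false
set_option backward.isDefEq.respectTransparency false
set_option backward.isDefEq.respectTransparency.types false

universe u

open CategoryTheory CategoryTheory.Limits AlgebraicGeometry

namespace Groth.Agent.FlatMor12.EtBridge

variable {S T : Scheme.{u}} {g : T ⟶ S}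

/-- Morphisms into an etale scheme which agree after a surjection agree. -/
theorem eq_of_surjective_etale {Z Z' X Y : Scheme.{u}} (π : Y ⟶ X) [Etale π] (r : Z' ⟶ Z) [Surjective r]
    (a b : Z ⟶ Y) (hw : a ≫ π = b ≫ π) (h : r ≫ a = r ≫ b) : a = b := by
  let w := pullback.lift a b hw
  let i := pullback.snd (pullback.diagonal π) w
  have hi : i ≫ a = i ≫ b := by
    have h1 := pullback.condition (f := pullback.diagonal π) (g := w)
    have h3 := h1 =≫ pullback.fst π π
    have h4 := h1 =≫ pullback.snd π π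
    simp only [Category.assoc, pullback.diagonal_fst, pullback.diagonal_snd, w, pullback.lift_fst,
      pullback.lift_snd, Category.comp_id] at h3 h4
    exact h3.symm.trans h4
  let l : Z' ⟶ pullback (pullback.diagonal π) w := pullback.lift (r ≫ a) r (by
    apply pullback.hom_ext
    · simp [w]
    · simp [w, h])
  haveI : Surjective (l ≫ i) := by rw [show l ≫ i = r from pullback.lift_snd _ _ _]; infer_instance
  haveI : Surjective i := Surjective.of_comp l i
  haveI : IsOpenImmersion i := inferInstance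
  haveI : IsIso i := (isIso_iff_isOpenImmersion_and_epi_base i).2
    ⟨inferInstance, (TopCat.epi_iff_surjective _).2 i.surjective⟩
  exact (cancel_epi i).1 hi

/-- Compatibility of a map from the base change of `q` with a descent datum. -/
def Compat (D : Desc.SchDD g) {P : Scheme.{u}} (q : P ⟶ S) (k : pullback g q ⟶ D.obj.left) : Prop :=
  ∀ ⦃Z : Scheme.{u}⦄ (a b : Z ⟶ pullback g q) (x₀ x₁ : Z ⟶ T) (_ : a ≫ pullback.fst g q = x₀)
    (_ : b ≫ pullback.fst g q = x₁) (_ : a ≫ pullback.snd g q = b ≫ pullback.snd g q)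
    (h : x₀ ≫ g = x₁ ≫ g) (v : Desc.Lifts D.obj x₀), v.1 = a ≫ k → (D.φ x₀ x₁ h v).1 = b ≫ k

/-- A local section: a scheme etale and separated over the base with a map of descent data. -/
structure Sec (D : Desc.SchDD g) where
  P : Scheme.{u}
  q : P ⟶ S
  etale : Etale q
  sep : IsSeparated q
  k : pullback g q ⟶ D.obj.left
  w : k ≫ D.obj.hom = pullback.fst g q
  compat : Compat D q k

/-- Local sections through all points. -/
def HasSecs (D : Desc.SchDD g) : Prop := ∀ d : D.obj.left, ∃ s : Sec D, d ∈ Set.range s.k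

theorem φ_natural' (D : Desc.SchDD g) {Z Z' : Scheme.{u}} (l : Z' ⟶ Z) {x₀ x₁ : Z ⟶ T}
    (h : x₀ ≫ g = x₁ ≫ g) {y₀ y₁ : Z' ⟶ T} (e₀ : l ≫ x₀ = y₀) (e₁ : l ≫ x₁ = y₁) (h' : y₀ ≫ g = y₁ ≫ g)
    (v : Desc.Lifts D.obj x₀) (v' : Desc.Lifts D.obj y₀) (hv : v'.1 = l ≫ v.1) :
    (D.φ y₀ y₁ h' v').1 = l ≫ (D.φ x₀ x₁ h v).1 := by
  subst e₀ e₁
  exact D.φ_natural l x₀ x₁ h h' v v' hv

theorem φ_congr (D : Desc.SchDD g) {Z : Scheme.{u}} {x₀ x₁ y₀ y₁ : Z ⟶ T} (e₀ : x₀ = y₀) (e₁ : x₁ = y₁)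
    (h : x₀ ≫ g = x₁ ≫ g) (h' : y₀ ≫ g = y₁ ≫ g) (v : Desc.Lifts D.obj x₀) (v' : Desc.Lifts D.obj y₀)
    (hv : v.1 = v'.1) : (D.φ x₀ x₁ h v).1 = (D.φ y₀ y₁ h' v').1 := by
  subst e₀ e₁
  rw [Subtype.ext hv]

end Groth.Agent.FlatMor12.EtBridge
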