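import Groth.Agent.FlatMor12.EtBridge.Rep
import Groth.Agent.FlatMor12.EtBridge.Sec
import Groth.Agent.Et18.H0Lift.DescentGerms

/-!
# The sheaf descent datum of an etale scheme descent datum
-/

set_option autoImplicit false
set_option backward.isDefEq.respectTransparency.types false
set_option backward.isDefEq.respectTransparency false

universe u

open CategoryTheory CategoryTheory.Limits AlgebraicGeometry Opposite
open Groth.Agent.Et18 Groth.Agent.Et18.H0Lift

namespace Groth.Agent.FlatMor12.EtBridge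

theorem unit_ofSect {X X' : Scheme.{u}} (p : X' ⟶ X) (A : X.Etale) (G : EtDesc.Sh X')
    (s : EtDesc.sect ((EtDesc.pushSh p).obj G) A) :
    (((EtDesc.adjSh p).homEquiv _ _).symm (ofSect s)).hom.app (op ((EtCoh.bc p).obj A))
      (((EtDesc.adjSh p).unit.app (repS A)).hom.app (op A) (univ A)) = s := by
  have e : (EtDesc.adjSh p).unit.app (repS A) ≫
      (EtDesc.pushSh p).map (((EtDesc.adjSh p).homEquiv _ _).symm (ofSect s)) = ofSect s :=
    ((EtDesc.adjSh p).homEquiv_unit _ _ _).symm.trans (((EtDesc.adjSh p).homEquiv _ _).apply_symm_apply _)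
  have e1 := ConcreteCategory.congr_hom
    (congrArg (fun k : repS A ⟶ (EtDesc.pushSh p).obj G => k.hom.app (op A)) e) (univ A)
  exact e1.trans (ofSect_univ s)

variable {S T : Scheme.{u}} {g : T ⟶ S} (D : Desc.SchDD g) [hD : Etale D.obj.hom]

/-- The scheme of the datum, as an etale scheme. -/
noncomputable abbrev dEt : T.Etale := Scheme.Etale.mk D.obj.hom

/-- The scheme of the datum pulled back by a projection. -/
noncomputable abbrev dPull (p : EtDesc.X2 g ⟶ T) : (EtDesc.X2 g).Etale := (EtCoh.bc p).obj (dEt D)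

theorem gl_cond : ((pullback.snd D.obj.hom (pullback.fst g g) : pullback D.obj.hom (pullback.fst g g) ⟶ EtDesc.X2 g) ≫
    pullback.fst g g) ≫ g = (pullback.snd D.obj.hom (pullback.fst g g) ≫ pullback.snd g g) ≫ g := by
  rw [Category.assoc, pullback.condition, Category.assoc]

/-- The gluing morphism over `T ×_S T`. -/
noncomputable def glHom : dPull D (pullback.fst g g) ⟶ dPull D (pullback.snd g g) :=
  MorphismProperty.Over.homMk
    (pullback.lift (D.φ _ _ (gl_cond D) ⟨pullback.fst D.obj.hom (pullback.fst g g), pullback.condition⟩).1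
      (pullback.snd D.obj.hom (pullback.fst g g))
      (D.φ _ _ (gl_cond D) ⟨pullback.fst D.obj.hom (pullback.fst g g), pullback.condition⟩).2)
    (pullback.lift_snd _ _ _)

/-- The section defining the gluing morphism of sheaves. -/
noncomputable def glSect :
    EtDesc.sect ((EtDesc.pushSh (pullback.fst g g)).obj ((EtDesc.pullSh (pullback.snd g g)).obj (repS (dEt D))))
      (dEt D) :=
  ((EtDesc.pullSh (pullback.snd g g)).obj (repS (dEt D))).obj.map (glHom D).op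
    (((EtDesc.adjSh (pullback.snd g g)).unit.app (repS (dEt D))).hom.app (op (dEt D)) (univ (dEt D)))

/-- The gluing morphism of sheaves. -/
noncomputable def glSh : (EtDesc.pullSh (pullback.fst g g)).obj (repS (dEt D)) ⟶
    (EtDesc.pullSh (pullback.snd g g)).obj (repS (dEt D)) :=
  ((EtDesc.adjSh (pullback.fst g g)).homEquiv _ _).symm (ofSect (glSect D))

theorem glSh_app : (glSh D).hom.app (op ((EtCoh.bc (pullback.fst g g)).obj (dEt D)))
    (((EtDesc.adjSh (pullback.fst g g)).unit.app (repS (dEt D))).hom.app (op (dEt D)) (univ (dEt D))) = glSect D :=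
  unit_ofSect (pullback.fst g g) (dEt D) _ (glSect D)

omit hD in
theorem x2_cond {Z : Scheme.{u}} (l : Z ⟶ EtDesc.X2 g) :
    (l ≫ pullback.fst g g) ≫ g = (l ≫ pullback.snd g g) ≫ g := by
  rw [Category.assoc, pullback.condition, Category.assoc]

section Points

variable {Ω : Type u} [Field Ω] [IsSepClosed Ω]

/-- A geometric point of the datum as an element of the fibre. -/
noncomputable def mkPt {ξ : Spec (CommRingCat.of Ω) ⟶ T} (v : Desc.Lifts D.obj ξ) :
    (Scheme.pointSmallEtale ξ).fiber.obj (dEt D) :=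
  Over.homMk v.1 v.2

/-- An element of the fibre as a geometric point of the datum. -/
noncomputable def toPt {ξ : Spec (CommRingCat.of Ω) ⟶ T} (d : (Scheme.pointSmallEtale ξ).fiber.obj (dEt D)) :
    Desc.Lifts D.obj ξ :=
  ⟨d.left, Over.w d⟩

/-- The germ of the sheaf given by a geometric point of the datum. -/
noncomputable def germPt {ξ : Spec (CommRingCat.of Ω) ⟶ T} (v : Desc.Lifts D.obj ξ) :
    (stalkSh ξ).obj (repS (dEt D)) :=
  pt ξ (dEt D) (mkPt D v)

theorem bijective_germPt (ξ : Spec (CommRingCat.of Ω) ⟶ T) :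
    Function.Bijective (germPt D : Desc.Lifts D.obj ξ → _) := by
  refine (bijective_pt ξ (dEt D)).comp ⟨fun a b h => ?_, fun d => ⟨toPt D d, rfl⟩⟩
  exact Subtype.ext (congrArg (fun k => k.left) h)

theorem stalk_glSh (ζ : Spec (CommRingCat.of Ω) ⟶ EtDesc.X2 g) {ξ₁ ξ₂ : Spec (CommRingCat.of Ω) ⟶ T}
    (h₁ : ζ ≫ pullback.fst g g = ξ₁) (h₂ : ζ ≫ pullback.snd g g = ξ₂) (h : ξ₁ ≫ g = ξ₂ ≫ g)
    (v : Desc.Lifts D.obj ξ₁) :
    (stalkSh ζ).map (glSh D) (toPullSh (pullback.fst g g) ξ₁ ⟨ζ, h₁⟩ (repS (dEt D)) (germPt D v)) =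
      toPullSh (pullback.snd g g) ξ₂ ⟨ζ, h₂⟩ (repS (dEt D)) (germPt D (D.φ ξ₁ ξ₂ h v)) := by
  rw [germPt, germPt, pt, pt, ← gmS_unit, gmS_hom, ← gmS_unit]
  rw [glSh_app]
  refine (gmS_map _ _ _ _ _).trans ?_
  refine congrArg (fun w => gmS _ ζ _ w _) (Over.OverMorphism.ext ?_)
  let a : Spec (CommRingCat.of Ω) ⟶ pullback D.obj.hom (pullback.fst g g) :=
    pullback.lift v.1 ζ (v.2.trans h₁.symm)
  change a ≫ pullback.lift _ _ _ = pullback.lift (D.φ ξ₁ ξ₂ h v).1 ζ _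
  apply pullback.hom_ext
  · rw [Category.assoc, pullback.lift_fst, pullback.lift_fst]
    refine (φ_natural' D a (gl_cond D) ?_ ?_ h _ v (pullback.lift_fst _ _ _).symm).symm
    · rw [← Category.assoc, pullback.lift_snd, h₁]
    · rw [← Category.assoc, pullback.lift_snd, h₂]
  · rw [Category.assoc, pullback.lift_snd, pullback.lift_snd, pullback.lift_snd]

theorem bijective_stalk_glSh (ζ : Spec (CommRingCat.of Ω) ⟶ EtDesc.X2 g) :
    Function.Bijective ((stalkSh ζ).map (glSh D)) := by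
  obtain ⟨ξ₁, h₁⟩ : ∃ ξ, ζ ≫ pullback.fst g g = ξ := ⟨_, rfl⟩
  obtain ⟨ξ₂, h₂⟩ : ∃ ξ, ζ ≫ pullback.snd g g = ξ := ⟨_, rfl⟩
  have h : ξ₁ ≫ g = ξ₂ ≫ g := by rw [← h₁, ← h₂, Category.assoc, pullback.condition, Category.assoc]
  have hA := (bijective_toPullSh (pullback.fst g g) (⟨ζ, h₁⟩ : FibrePts _ ξ₁) (repS (dEt D))).comp
    (bijective_germPt D ξ₁)
  have hB := (bijective_toPullSh (pullback.snd g g) (⟨ζ, h₂⟩ : FibrePts _ ξ₂) (repS (dEt D))).comp
    (bijective_germPt D ξ₂)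
  refine (Function.Bijective.of_comp_iff _ hA).1 ?_
  convert hB.comp (D.φ ξ₁ ξ₂ h).bijective using 1
  exact funext fun v => stalk_glSh D ζ h₁ h₂ h v

end Points

instance isIso_glSh : IsIso (glSh D) :=
  isIso_of_stalksSh_family _ (exists_sepPoint _) _ fun _ => (isIso_iff_bijective _).2 (bijective_stalk_glSh D _)

/-- The gluing isomorphism of sheaves. -/
noncomputable def glIso : (EtDesc.pullSh (pullback.fst g g)).obj (repS (dEt D)) ≅
    (EtDesc.pullSh (pullback.snd g g)).obj (repS (dEt D)) :=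
  asIso (glSh D)

theorem drel_germPt {Ω : Type u} [Field Ω] [IsSepClosed Ω] {ξ₁ ξ₂ : Spec (CommRingCat.of Ω) ⟶ T}
    (h : ξ₁ ≫ g = ξ₂ ≫ g) (v : Desc.Lifts D.obj ξ₁) :
    DRel (glIso D) ξ₁ ξ₂ (germPt D v) (germPt D (D.φ ξ₁ ξ₂ h v)) :=
  ⟨pullback.lift ξ₁ ξ₂ h, pullback.lift_fst _ _ _, pullback.lift_snd _ _ _, stalk_glSh D _ _ _ h v⟩

theorem isCocycle_glIso : EtDesc.IsCocycle (repS (dEt D)) (glIso D) := by
  refine eq_of_stalksSh_family _ (exists_sepPoint _) _ _ fun i => ?_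
  apply ConcreteCategory.hom_ext
  intro e
  obtain ⟨ξ₁, k₁⟩ : ∃ ξ, sepPoint _ i.down ≫ EtDesc.q1 (f := g) = ξ := ⟨_, rfl⟩
  obtain ⟨ξ₂, k₂⟩ : ∃ ξ, sepPoint _ i.down ≫ EtDesc.q2 (f := g) = ξ := ⟨_, rfl⟩
  obtain ⟨ξ₃, k₃⟩ : ∃ ξ, sepPoint _ i.down ≫ EtDesc.q3 (f := g) = ξ := ⟨_, rfl⟩
  have h12 : ξ₁ ≫ g = ξ₂ ≫ g := by
    rw [← k₁, ← k₂, show sepPoint _ i.down ≫ EtDesc.q1 (f := g) = _ from (Category.assoc _ _ _).symm,
      show sepPoint _ i.down ≫ EtDesc.q2 (f := g) = _ from (Category.assoc _ _ _).symm]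
    exact x2_cond _
  have h23 : ξ₂ ≫ g = ξ₃ ≫ g := by
    rw [← k₂, ← k₃, ← EtDesc.p23_fst, ← Category.assoc (sepPoint _ i.down),
      show sepPoint _ i.down ≫ EtDesc.q3 (f := g) = _ from (Category.assoc _ _ _).symm]
    exact x2_cond _
  obtain ⟨g₁, rfl⟩ := (bijective_toPullSh (EtDesc.q1 (f := g)) (⟨_, k₁⟩ : FibrePts _ ξ₁) (repS (dEt D))).2 e
  obtain ⟨v, rfl⟩ := (bijective_germPt D ξ₁).2 g₁
  have a := stalk_pullIsoVia (EtDesc.p12 g) EtDesc.q1 EtDesc.q2 rfl rfl _ k₁ k₂ (drel_germPt D h12 v)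
  have b := stalk_pullIsoVia (EtDesc.p23 g) EtDesc.q2 EtDesc.q3 EtDesc.p23_fst rfl _ k₂ k₃
    (drel_germPt D h23 (D.φ ξ₁ ξ₂ h12 v))
  have c := stalk_pullIsoVia (EtDesc.p13 g) EtDesc.q1 EtDesc.q3 EtDesc.p13_fst EtDesc.p13_snd _ k₁ k₃
    (drel_germPt D (h12.trans h23) v)
  rw [Functor.map_comp, ConcreteCategory.comp_apply, a, b, c, D.φ_comp]

theorem stalk_glSh_of_iso {F : EtDesc.Sh S} (ψ : (EtDesc.pullSh g).obj F ≅ repS (dEt D))
    (hψ : ((EtDesc.pullSh (pullback.fst g g)).mapIso ψ).symm ≪≫ EtDesc.canIso g F ≪≫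
      (EtDesc.pullSh (pullback.snd g g)).mapIso ψ = glIso D)
    {K : Type u} [Field K] [IsSepClosed K] (ζ : Spec (CommRingCat.of K) ⟶ EtDesc.X2 g)
    {η : Spec (CommRingCat.of K) ⟶ S} (ξ₁ ξ₂ : FibrePts g η) (h₁ : ζ ≫ pullback.fst g g = ξ₁.1)
    (h₂ : ζ ≫ pullback.snd g g = ξ₂.1) (e : (stalkSh η).obj F) :
    (stalkSh ζ).map (glIso D).hom (toPullSh (pullback.fst g g) ξ₁.1 ⟨ζ, h₁⟩ (repS (dEt D))
        ((stalkSh ξ₁.1).map ψ.hom (toPullSh g η ξ₁ F e))) =
      toPullSh (pullback.snd g g) ξ₂.1 ⟨ζ, h₂⟩ (repS (dEt D))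
        ((stalkSh ξ₂.1).map ψ.hom (toPullSh g η ξ₂ F e)) := by
  have a := toPullSh_naturality (pullback.fst g g) ψ.hom (⟨ζ, h₁⟩ : FibrePts _ ξ₁.1) (toPullSh g η ξ₁ F e)
  have b := toPullSh_naturality (pullback.snd g g) ψ.hom (⟨ζ, h₂⟩ : FibrePts _ ξ₂.1) (toPullSh g η ξ₂ F e)
  have c := stalk_canIso g F ζ ξ₁ ξ₂ h₁ h₂ e
  have hc : (EtDesc.pullSh (pullback.fst g g)).map ψ.hom ≫ (glIso D).hom =
      (EtDesc.canIso g F).hom ≫ (EtDesc.pullSh (pullback.snd g g)).map ψ.hom := by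
    rw [← hψ]; simp [← Functor.map_comp_assoc]
  have d := ConcreteCategory.congr_hom (congrArg (stalkSh ζ).map hc)
    (toPullSh (pullback.fst g g) ξ₁.1 ⟨ζ, h₁⟩ ((EtDesc.pullSh g).obj F) (toPullSh g η ξ₁ F e))
  rw [Functor.map_comp, Functor.map_comp, ConcreteCategory.comp_apply, ConcreteCategory.comp_apply, c] at d
  rw [a, b]
  exact d

/-- Local sections from effectivity of the datum of sheaves. -/
theorem hasSecs_of_isEffective (h : EtDesc.IsEffective g (repS (dEt D)) (glIso D)) : HasSecs D := by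
  obtain ⟨F, ψ, hψ⟩ := h
  intro d₀
  let ξ₀ : Spec (CommRingCat.of (AlgebraicClosure (D.obj.left.residueField d₀))) ⟶ T :=
    (Spec.map (CommRingCat.ofHom (algebraMap (D.obj.left.residueField d₀) _)) ≫
      D.obj.left.fromSpecResidueField d₀) ≫ D.obj.hom
  let v₀ : Desc.Lifts D.obj ξ₀ :=
    ⟨Spec.map (CommRingCat.ofHom (algebraMap (D.obj.left.residueField d₀) _)) ≫
      D.obj.left.fromSpecResidueField d₀, rfl⟩
  let η := ξ₀ ≫ g
  let Φ := Scheme.pointSmallEtale η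
  obtain ⟨e, he⟩ := (bijective_toPullSh g (⟨ξ₀, rfl⟩ : FibrePts g η) F).2
    ((stalkSh ξ₀).map ψ.inv (germPt D v₀))
  obtain ⟨V₀, v, s, rfl⟩ := Φ.toPresheafFiber_jointly_surjective (P := F.obj) e
  -- shrink to an affine neighbourhood
  obtain ⟨O, hO, hvO, -⟩ := exists_isAffineOpen_mem_and_subset (U := ⊤) (x := fiberPt v) trivial
  haveI : Etale V₀.hom := V₀.prop
  let V : S.Etale := Scheme.Etale.mk (O.ι ≫ V₀.hom)
  haveI : IsAffine (O : Scheme.{u}) := hO
  haveI : IsSeparated V.hom := inferInstanceAs (IsSeparated (O.ι ≫ V₀.hom))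
  let incl : V ⟶ V₀ := MorphismProperty.Over.homMk O.ι rfl
  obtain ⟨w, hw⟩ : ∃ w : Φ.fiber.obj V, Φ.fiber.map incl w = v := by
    let vl : Spec (CommRingCat.of (AlgebraicClosure (D.obj.left.residueField d₀))) ⟶ V₀.left := v.left
    have hr : Set.range vl ⊆ Set.range O.ι := by
      rintro _ ⟨z, rfl⟩
      rw [Scheme.Opens.range_ι, Subsingleton.elim z default]
      exact hvO
    refine ⟨Over.homMk (IsOpenImmersion.lift O.ι vl hr) ?_, Over.OverMorphism.ext (IsOpenImmersion.lift_fac _ _ _)⟩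
    show IsOpenImmersion.lift O.ι vl hr ≫ O.ι ≫ V₀.hom = η
    rw [IsOpenImmersion.lift_fac_assoc]
    exact Over.w v
  let σ := ψ.hom.hom.app (op ((EtCoh.bc g).obj V))
    (((EtDesc.adjSh g).unit.app F).hom.app (op V) (F.obj.map incl.op s))
  have hσ : ∀ (K : Type u) [Field K] [IsSepClosed K] (η' : Spec (CommRingCat.of K) ⟶ S) (ξ : FibrePts g η')
      (u' : (Scheme.pointSmallEtale η').fiber.obj V),
      gmS (repS (dEt D)) ξ.1 _ (bcLift g η' ξ V u') σ =
        (stalkSh ξ.1).map ψ.hom (toPullSh g η' ξ F (gmS F η' V u' (F.obj.map incl.op s))) := by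
    intro K _ _ η' ξ u'
    rw [← gmS_unit, gmS_hom]
  let k : pullback g V.hom ⟶ D.obj.left :=
    (pullbackSymmetry g V.hom).hom ≫ σ.down.left
  have hk : k ≫ D.obj.hom = pullback.fst g V.hom := by
    rw [Category.assoc]
    exact (congrArg ((pullbackSymmetry g V.hom).hom ≫ ·) (Over.w σ.down.hom)).trans
      (pullbackSymmetry_hom_comp_snd _ _)
  have hgerm : ∀ (K : Type u) [Field K] [IsSepClosed K] (η' : Spec (CommRingCat.of K) ⟶ S) (ξ : FibrePts g η')
      (u' : (Scheme.pointSmallEtale η').fiber.obj V) (a : Spec (CommRingCat.of K) ⟶ pullback g V.hom)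
      (_ : a ≫ pullback.fst g V.hom = ξ.1) (_ : a ≫ pullback.snd g V.hom = u'.left)
      (y : Desc.Lifts D.obj ξ.1), y.1 = a ≫ k →
        germPt D y = (stalkSh ξ.1).map ψ.hom (toPullSh g η' ξ F (gmS F η' V u' (F.obj.map incl.op s))) := by
    intro K _ _ η' ξ u' a ha₁ ha₂ y hy
    refine Eq.trans ?_ ((gmS_rep ξ.1 (dEt D) _ (bcLift g η' ξ V u') σ.down).symm.trans (hσ K η' ξ u'))
    refine congrArg (pt ξ.1 (dEt D)) (Over.OverMorphism.ext ?_)
    show y.1 = (bcLift g η' ξ V u').left ≫ σ.down.left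
    rw [hy, ← Category.assoc]
    refine congrArg (· ≫ σ.down.left) ?_
    apply pullback.hom_ext
    · rw [Category.assoc, pullbackSymmetry_hom_comp_fst, ha₂]
      exact (pullback.lift_fst _ _ _).symm
    · rw [Category.assoc, pullbackSymmetry_hom_comp_snd, ha₁]
      exact (pullback.lift_snd _ _ _).symm
  -- compatibility on geometric points
  have hpts : ∀ (K : Type u) [Field K] [IsSepClosed K] (a b : Spec (CommRingCat.of K) ⟶ pullback g V.hom)
      (x₀ x₁ : Spec (CommRingCat.of K) ⟶ T), a ≫ pullback.fst g V.hom = x₀ → b ≫ pullback.fst g V.hom = x₁ →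
      a ≫ pullback.snd g V.hom = b ≫ pullback.snd g V.hom → ∀ (h : x₀ ≫ g = x₁ ≫ g) (y : Desc.Lifts D.obj x₀),
      y.1 = a ≫ k → (D.φ x₀ x₁ h y).1 = b ≫ k := by
    intro K _ _ a b x₀ x₁ ha hb hab hx y hy
    let η' := x₀ ≫ g
    let u' : (Scheme.pointSmallEtale η').fiber.obj V := Over.homMk (a ≫ pullback.snd g V.hom) (by
      show (a ≫ pullback.snd g V.hom) ≫ V.hom = x₀ ≫ g
      rw [Category.assoc, ← pullback.condition, ← Category.assoc, ha])
    let ξ₁ : FibrePts g η' := ⟨x₀, rfl⟩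
    let ξ₂ : FibrePts g η' := ⟨x₁, hx.symm⟩
    have e₁ := hgerm K η' ξ₁ u' a ha rfl y hy
    let y' : Desc.Lifts D.obj x₁ := ⟨b ≫ k, by rw [Category.assoc, hk, hb]⟩
    have e₂ := hgerm K η' ξ₂ u' b hb hab.symm y' rfl
    suffices DRel (glIso D) x₀ x₁ (germPt D y) (germPt D y') by
      have := (bijective_germPt D x₁).1 (DRel.unique_right (drel_germPt D hx y) this)
      exact congrArg Subtype.val this
    refine ⟨pullback.lift x₀ x₁ hx, pullback.lift_fst _ _ _, pullback.lift_snd _ _ _, ?_⟩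
    rw [e₁, e₂]
    exact stalk_glSh_of_iso D ψ hψ (pullback.lift x₀ x₁ hx) ξ₁ ξ₂ (pullback.lift_fst _ _ _)
      (pullback.lift_snd _ _ _) _
  refine ⟨⟨V.left, V.hom, V.prop, ‹_›, k, hk, ?_⟩, ?_⟩
  · intro Z a b x₀ x₁ ha hb hab hx y hy
    have hw' : (D.φ x₀ x₁ hx y).1 ≫ D.obj.hom = (b ≫ k) ≫ D.obj.hom := by
      rw [(D.φ x₀ x₁ hx y).2, Category.assoc, hk, hb]
    -- agreement at geometric points
    let r : (∐ fun z : Z => Spec (CommRingCat.of (AlgebraicClosure (Z.residueField z)))) ⟶ Z :=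
      Sigma.desc fun z => Spec.map (CommRingCat.ofHom (algebraMap (Z.residueField z) _)) ≫ Z.fromSpecResidueField z
    haveI : Surjective r := ⟨fun z => by
      refine ⟨Sigma.ι (fun z : Z => Spec (CommRingCat.of (AlgebraicClosure (Z.residueField z)))) z default, ?_⟩
      rw [← Scheme.Hom.comp_apply, Sigma.ι_desc, Scheme.Hom.comp_apply]
      exact Scheme.fromSpecResidueField_apply _ _⟩
    refine eq_of_surjective_etale D.obj.hom r _ _ hw' (Sigma.hom_ext _ _ fun z => ?_)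
    rw [Sigma.ι_desc_assoc, Sigma.ι_desc_assoc]
    let l := Spec.map (CommRingCat.ofHom (algebraMap (Z.residueField z) (AlgebraicClosure (Z.residueField z)))) ≫
      Z.fromSpecResidueField z
    show l ≫ _ = l ≫ _
    have hl : (l ≫ x₀) ≫ g = (l ≫ x₁) ≫ g := by simp only [Category.assoc, hx]
    let yl : Desc.Lifts D.obj (l ≫ x₀) := ⟨l ≫ y.1, by rw [Category.assoc, y.2]⟩
    rw [← φ_natural' D l hx rfl rfl hl y yl rfl,
      hpts _ (l ≫ a) (l ≫ b) _ _ (by rw [Category.assoc, ha]) (by rw [Category.assoc, hb])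
        (by simp [l, hab]) hl yl (by show l ≫ y.1 = _; simp [l, hy]),
      Category.assoc]
  · -- the given point is reached
    have hηv : (bcLift g η ⟨ξ₀, rfl⟩ V w).left ≫ σ.down.left = v₀.1 := by
      have h1 := hσ _ η ⟨ξ₀, rfl⟩ w
      rw [gmS_map, hw] at h1
      have h2 := (gmS_rep ξ₀ (dEt D) _ (bcLift g η ⟨ξ₀, rfl⟩ V w) σ.down).symm.trans h1
      rw [show toPullSh g η ⟨ξ₀, rfl⟩ F (gmS F η V₀ v s) = _ from he, ← ConcreteCategory.comp_apply,
        ← Functor.map_comp, ψ.inv_hom_id, CategoryTheory.Functor.map_id] at h2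
      exact congrArg (fun t => t.left) ((bijective_pt ξ₀ (dEt D)).1 h2)
    have hd : v₀.1 default = d₀ := by
      rw [Scheme.Hom.comp_apply]
      exact Scheme.fromSpecResidueField_apply _ _
    let z : Spec (CommRingCat.of (AlgebraicClosure (D.obj.left.residueField d₀))) ⟶ pullback g V.hom :=
      (bcLift g η ⟨ξ₀, rfl⟩ V w).left ≫ (pullbackSymmetry g V.hom).inv
    refine ⟨z default, ?_⟩
    show k (z default) = d₀
    refine ((Scheme.Hom.comp_apply z k default).symm.trans ?_).trans hd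
    refine congrArg (fun t : Spec (CommRingCat.of (AlgebraicClosure (D.obj.left.residueField d₀))) ⟶ D.obj.left =>
      t default) ?_
    refine Eq.trans ?_ hηv
    simp [z, k]

end Groth.Agent.FlatMor12.EtBridge
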