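import Groth.Agent.FlatMor12.EtBridge.Combine
import Groth.Agent.AlgSpLib.EqvQuot
import Groth.Agent.AlgSpLib.LqfScheme
import Groth.Agent.AlgSpLib.LocP
import Groth.Agent.AlgSpLib.EtLocalInst
import Groth.Agent.AlgSpLib.Diag
import Mathlib.AlgebraicGeometry.Morphisms.FlatMono

/-!
# Etale descent data with local sections through all points are effective
-/

set_option autoImplicit false
set_option backward.isDefEq.respectTransparency false
set_option backward.isDefEq.respectTransparency.types false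

universe u

open CategoryTheory CategoryTheory.Limits AlgebraicGeometry Opposite
open AlgSp Groth.Agent.AlgSpLib

namespace Groth.Agent.FlatMor12.EtBridge

variable {S T : Scheme.{u}} {g : T ⟶ S}

/-- A morphism of descent data with invertible underlying morphism. -/
theorem nonempty_iso_of_isIso (D : Desc.SchDD g) (U : Over S) (σ : pullback g U.hom ⟶ D.obj.left) [IsIso σ]
    (hw : σ ≫ D.obj.hom = pullback.fst g U.hom) (hc : Compat D U.hom σ) :
    Nonempty ((Desc.toDD g).obj U ≅ D) := by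
  have comm : ∀ ⦃Z : Scheme.{u}⦄ (x₀ x₁ : Z ⟶ T) (h : x₀ ≫ g = x₁ ≫ g)
      (v : Desc.Lifts ((Desc.toDD g).obj U).obj x₀) (w : Desc.Lifts D.obj x₀), w.1 = v.1 ≫ σ →
      (D.φ x₀ x₁ h w).1 = (((Desc.toDD g).obj U).φ x₀ x₁ h v).1 ≫ σ := fun Z x₀ x₁ h v w hv =>
    hc v.1 ((((Desc.toDD g).obj U).φ x₀ x₁ h v).1) x₀ x₁ v.2 ((((Desc.toDD g).obj U).φ x₀ x₁ h v).2)
      (pullback.lift_snd _ _ _).symm h w hv
  let i : ((Desc.toDD g).obj U).obj ≅ D.obj := Over.isoMk (asIso σ) hw
  refine ⟨⟨⟨i.hom, comm⟩, ⟨i.inv, fun Z x₀ x₁ h v w hv => ?_⟩, ?_, ?_⟩⟩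
  · have hv' : v.1 = w.1 ≫ σ := by rw [hv]; simp [i]
    have := comm x₀ x₁ h w v hv'
    show (((Desc.toDD g).obj U).φ x₀ x₁ h w).1 = (D.φ x₀ x₁ h v).1 ≫ inv σ
    rw [this, Category.assoc, IsIso.hom_inv_id, Category.comp_id]
  · exact Desc.SchDD.hom_ext i.hom_inv_id
  · exact Desc.SchDD.hom_ext i.inv_hom_id

section Rel

variable {D : Desc.SchDD g} (s : Sec D)

/-- Two points of a local section with the same descended value. -/
def Rel {Z : Scheme.{u}} (a b : Z ⟶ s.P) : Prop :=
  ∃ _ : a ≫ s.q = b ≫ s.q, ∀ ⦃W : Scheme.{u}⦄ (r : W ⟶ Z) (t : W ⟶ T) (ha : t ≫ g = (r ≫ a) ≫ s.q)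
    (hb : t ≫ g = (r ≫ b) ≫ s.q),
    pullback.lift t (r ≫ a) ha ≫ s.k = pullback.lift t (r ≫ b) hb ≫ s.k

theorem rel_refl {Z : Scheme.{u}} (a : Z ⟶ s.P) : Rel s a a := ⟨rfl, fun _ _ _ _ _ => rfl⟩

theorem rel_symm {Z : Scheme.{u}} {a b : Z ⟶ s.P} : Rel s a b → Rel s b a :=
  fun ⟨h, h'⟩ => ⟨h.symm, fun _ r t ha hb => (h' r t hb ha).symm⟩

theorem rel_trans {Z : Scheme.{u}} {a b c : Z ⟶ s.P} : Rel s a b → Rel s b c → Rel s a c :=
  fun ⟨h, h'⟩ ⟨k, k'⟩ => ⟨h.trans k, fun _ r t ha hc =>
    (h' r t ha (ha.trans (by rw [Category.assoc, h, Category.assoc]))).trans (k' r t _ hc)⟩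

/-- The value at one base point determines the values at all others. -/
theorem eq_of_compat {W : Scheme.{u}} {t t' : W ⟶ T} {a b : W ⟶ s.P} (ha : t ≫ g = a ≫ s.q)
    (hb : t ≫ g = b ≫ s.q) (ha' : t' ≫ g = a ≫ s.q) (hb' : t' ≫ g = b ≫ s.q)
    (h : pullback.lift t a ha ≫ s.k = pullback.lift t b hb ≫ s.k) :
    pullback.lift t' a ha' ≫ s.k = pullback.lift t' b hb' ≫ s.k := by
  let v : Desc.Lifts D.obj t := ⟨pullback.lift t a ha ≫ s.k, by rw [Category.assoc, s.w, pullback.lift_fst]⟩
  have e1 := s.compat (pullback.lift t a ha) (pullback.lift t' a ha') t t' (pullback.lift_fst _ _ _)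
    (pullback.lift_fst _ _ _) (by simp) (ha.trans ha'.symm) v rfl
  have e2 := s.compat (pullback.lift t b hb) (pullback.lift t' b hb') t t' (pullback.lift_fst _ _ _)
    (pullback.lift_fst _ _ _) (by simp) (ha.trans ha'.symm) v h
  exact e1.symm.trans e2

variable [Etale D.obj.hom] [Surjective g]

/-- The relation is represented by an open part of the fibre square, closed for separated data. -/
theorem exists_rel_open (hq : ∀ U : Over S, Etale U.hom → Topology.IsQuotientMap (pullback.snd g U.hom).base) :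
    ∃ R : (pullback s.q s.q).Opens, (IsSeparated D.obj.hom → IsClosed (R : Set ↥(pullback s.q s.q))) ∧
      ∀ {Z : Scheme.{u}} (l : Z ⟶ pullback s.q s.q),
        Rel s (l ≫ pullback.fst s.q s.q) (l ≫ pullback.snd s.q s.q) ↔ Set.range l ⊆ (R : Set ↥(pullback s.q s.q)) := by
  haveI := s.etale
  let qQ := pullback.fst s.q s.q ≫ s.q
  let c : ∀ p : pullback s.q s.q ⟶ s.P, p ≫ s.q = qQ → (pullback g qQ ⟶ pullback g s.q) := fun p hp =>
    pullback.map _ _ _ _ (𝟙 T) p (𝟙 S) (by simp) (by rw [Category.comp_id, hp])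
  let a₁ := c (pullback.fst s.q s.q) rfl ≫ s.k
  let a₂ := c (pullback.snd s.q s.q) pullback.condition.symm ≫ s.k
  have hw : a₁ ≫ D.obj.hom = a₂ ≫ D.obj.hom := by
    simp only [a₁, a₂, c, Category.assoc, s.w, pullback.lift_fst]
  let w := pullback.lift a₁ a₂ hw
  let i := pullback.snd (pullback.diagonal D.obj.hom) w
  haveI : IsOpenImmersion i := inferInstance
  have hi : i ≫ a₁ = i ≫ a₂ := by
    have h1 := pullback.condition (f := pullback.diagonal D.obj.hom) (g := w)
    have h3 := h1 =≫ pullback.fst D.obj.hom D.obj.hom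
    have h4 := h1 =≫ pullback.snd D.obj.hom D.obj.hom
    simp only [Category.assoc, pullback.diagonal_fst, pullback.diagonal_snd, w, pullback.lift_fst,
      pullback.lift_snd, Category.comp_id] at h3 h4
    exact h3.symm.trans h4
  have heq : ∀ {W : Scheme.{u}} (m : W ⟶ pullback g qQ), Set.range m ⊆ Set.range i → m ≫ a₁ = m ≫ a₂ := by
    intro W m hm
    rw [← IsOpenImmersion.lift_fac i m hm, Category.assoc, Category.assoc, hi]
  have hmem : ∀ {W : Scheme.{u}} (m : W ⟶ pullback g qQ), m ≫ a₁ = m ≫ a₂ → ∀ z, m z ∈ Set.range i := by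
    intro W m hm z
    let l : W ⟶ pullback (pullback.diagonal D.obj.hom) w := pullback.lift (m ≫ a₁) m (by
      apply pullback.hom_ext <;> simp [w, hm])
    exact ⟨l z, by rw [← Scheme.Hom.comp_apply, pullback.lift_snd]⟩
  have hval : ∀ {W : Scheme.{u}} (m : W ⟶ pullback g qQ) (p : pullback s.q s.q ⟶ s.P) (hp : p ≫ s.q = qQ),
      ∃ h, m ≫ c p hp ≫ s.k = pullback.lift (m ≫ pullback.fst g qQ) ((m ≫ pullback.snd g qQ) ≫ p) h ≫ s.k := by
    intro W m p hp
    refine ⟨by simp only [Category.assoc, pullback.condition, hp], ?_⟩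
    rw [← Category.assoc]
    refine congrArg (· ≫ s.k) (pullback.hom_ext ?_ ?_) <;> simp [c]
  let R0 : Set ↥(pullback s.q s.q) := pullback.snd g qQ '' Set.range i
  have hsat : pullback.snd g qQ ⁻¹' R0 = Set.range i := by
    refine Set.Subset.antisymm ?_ (Set.subset_preimage_image _ _)
    rintro t ⟨t₁, ht₁, ht⟩
    obtain ⟨z, hz₁, hz₂⟩ := Scheme.Pullback.exists_preimage_pullback
      (f := pullback.snd g qQ) (g := pullback.snd g qQ) t t₁ ht.symm
    let Z := pullback (pullback.snd g qQ) (pullback.snd g qQ)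
    let o := Z.fromSpecResidueField z
    let m := o ≫ pullback.fst (pullback.snd g qQ) (pullback.snd g qQ)
    let n := o ≫ pullback.snd (pullback.snd g qQ) (pullback.snd g qQ)
    have hn : n ≫ a₁ = n ≫ a₂ := heq n (by
      rintro _ ⟨x, rfl⟩
      rw [Scheme.Hom.comp_apply, Scheme.fromSpecResidueField_apply, hz₂]
      exact ht₁)
    have hmn : m ≫ pullback.snd g qQ = n ≫ pullback.snd g qQ := by
      simp only [m, n, Category.assoc, pullback.condition]
    have hm : m ≫ a₁ = m ≫ a₂ := by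
      obtain ⟨_, e₁⟩ := hval m (pullback.fst s.q s.q) rfl
      obtain ⟨_, e₂⟩ := hval m (pullback.snd s.q s.q) pullback.condition.symm
      obtain ⟨_, f₁⟩ := hval n (pullback.fst s.q s.q) rfl
      obtain ⟨_, f₂⟩ := hval n (pullback.snd s.q s.q) pullback.condition.symm
      change m ≫ c (pullback.fst s.q s.q) rfl ≫ s.k = m ≫ c (pullback.snd s.q s.q) pullback.condition.symm ≫ s.k
      change n ≫ c (pullback.fst s.q s.q) rfl ≫ s.k = n ≫ c (pullback.snd s.q s.q) pullback.condition.symm ≫ s.k at hn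
      rw [f₁, f₂] at hn
      rw [e₁, e₂]
      simp only [hmn]
      exact eq_of_compat s _ _ _ _ hn
    have := hmem m hm default
    rwa [Scheme.Hom.comp_apply, Scheme.fromSpecResidueField_apply, hz₁] at this
  have hqm := hq (Over.mk qQ) (inferInstanceAs (Etale (pullback.fst s.q s.q ≫ s.q)))
  have hR : IsOpen R0 := hqm.isOpen_preimage.1 (by
    show IsOpen (pullback.snd g qQ ⁻¹' R0)
    rw [hsat]; exact i.isOpenEmbedding.isOpen_range)
  have hRc : IsSeparated D.obj.hom → IsClosed R0 := fun hsep => hqm.isClosed_preimage.1 (by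
    haveI := hsep
    haveI : IsClosedImmersion i := inferInstance
    show IsClosed (pullback.snd g qQ ⁻¹' R0)
    rw [hsat]; exact i.isClosedEmbedding.isClosed_range)
  refine ⟨⟨R0, hR⟩, hRc, fun {Z} l => ⟨fun h => ?_, fun h => ⟨by rw [Category.assoc, Category.assoc, pullback.condition],
    fun W r t ha hb => ?_⟩⟩⟩
  · rintro _ ⟨z, rfl⟩
    obtain ⟨p, hp⟩ := (pullback.snd g (l ≫ qQ)).surjective z
    let r := pullback.snd g (l ≫ qQ)
    let t := pullback.fst g (l ≫ qQ)
    let m : pullback g (l ≫ qQ) ⟶ pullback g qQ := pullback.lift t (r ≫ l) (by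
      rw [Category.assoc]; exact pullback.condition)
    have hm : m ≫ a₁ = m ≫ a₂ := by
      obtain ⟨_, e₁⟩ := hval m (pullback.fst s.q s.q) rfl
      obtain ⟨_, e₂⟩ := hval m (pullback.snd s.q s.q) pullback.condition.symm
      change m ≫ c (pullback.fst s.q s.q) rfl ≫ s.k = m ≫ c (pullback.snd s.q s.q) pullback.condition.symm ≫ s.k
      rw [e₁, e₂]
      simpa [m] using h.2 r t (by simpa [t, r] using pullback.condition)
        (by simpa [t, r, qQ, pullback.condition] using pullback.condition (f := g) (g := l ≫ qQ))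
    refine ⟨m p, hmem m hm p, ?_⟩
    rw [← Scheme.Hom.comp_apply, pullback.lift_snd, Scheme.Hom.comp_apply, hp]
  · let m : W ⟶ pullback g qQ := pullback.lift t (r ≫ l) (by simpa [qQ] using ha)
    have hm : m ≫ a₁ = m ≫ a₂ := heq m (by
      rintro _ ⟨x, rfl⟩
      rw [← hsat, Set.mem_preimage, ← Scheme.Hom.comp_apply, pullback.lift_snd, Scheme.Hom.comp_apply]
      exact h ⟨r x, rfl⟩)
    obtain ⟨_, e₁⟩ := hval m (pullback.fst s.q s.q) rfl
    obtain ⟨_, e₂⟩ := hval m (pullback.snd s.q s.q) pullback.condition.symm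
    change m ≫ c (pullback.fst s.q s.q) rfl ≫ s.k = m ≫ c (pullback.snd s.q s.q) pullback.condition.symm ≫ s.k at hm
    rw [e₁, e₂] at hm
    simpa [m] using hm

end Rel

/-- Separated quotients of etale schemes by open and closed equivalence relations. -/
theorem exists_quot {P : Scheme.{u}} (q : P ⟶ S) [Etale q] (Rl : ∀ {Z : Scheme.{u}}, (Z ⟶ P) → (Z ⟶ P) → Prop)
    (hw : ∀ {Z : Scheme.{u}} (a b : Z ⟶ P), Rl a b → a ≫ q = b ≫ q)
    (hrefl : ∀ {Z : Scheme.{u}} (a : Z ⟶ P), Rl a a)
    (hsymm : ∀ {Z : Scheme.{u}} {a b : Z ⟶ P}, Rl a b → Rl b a)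
    (htrans : ∀ {Z : Scheme.{u}} {a b c : Z ⟶ P}, Rl a b → Rl b c → Rl a c)
    (R : (pullback q q).Opens) (hRc : IsClosed (R : Set ↥(pullback q q)))
    (hR : ∀ {Z : Scheme.{u}} (l : Z ⟶ pullback q q),
      Rl (l ≫ pullback.fst q q) (l ≫ pullback.snd q q) ↔ Set.range l ⊆ (R : Set ↥(pullback q q))) :
    ∃ (G : Over S) (p : P ⟶ G.left), p ≫ G.hom = q ∧ Etale G.hom ∧ IsSeparated G.hom ∧ Etale p ∧ Surjective p ∧
      ∀ {Z : Scheme.{u}} (a b : Z ⟶ P), a ≫ p = b ≫ p ↔ Rl a b := by
  let U : Over S := Over.mk q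
  let RO : Over S := Over.mk ((R.ι ≫ pullback.fst q q) ≫ q)
  let t : RO ⟶ U := Over.homMk (R.ι ≫ pullback.fst q q) rfl
  let sR : RO ⟶ U := Over.homMk (R.ι ≫ pullback.snd q q) (by
    simp only [U, RO, Over.mk_hom, Category.assoc, pullback.condition])
  have hrel : ∀ {Z : Over S} (a b : Z ⟶ U), (∃ r : Z ⟶ RO, r ≫ t = a ∧ r ≫ sR = b) ↔ Rl a.left b.left := by
    intro Z a b
    constructor
    · rintro ⟨r, rfl, rfl⟩
      have h := (hR (r.left ≫ R.ι)).2 (by
        rintro _ ⟨z, rfl⟩; rw [Scheme.Hom.comp_apply]; exact (r.left z).2)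
      rw [Category.assoc, Category.assoc] at h
      exact h
    · intro h
      let l : Z.left ⟶ pullback q q := pullback.lift a.left b.left (hw _ _ h)
      have hl : Set.range l ⊆ Set.range R.ι := by
        rw [Scheme.Opens.range_ι]
        exact (hR l).1 (by simpa [l] using h)
      refine ⟨Over.homMk (IsOpenImmersion.lift R.ι l hl) ?_, Over.OverMorphism.ext ?_, Over.OverMorphism.ext ?_⟩
      · show IsOpenImmersion.lift R.ι l hl ≫ (R.ι ≫ pullback.fst q q) ≫ q = Z.hom
        rw [Category.assoc, IsOpenImmersion.lift_fac_assoc, pullback.lift_fst_assoc]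
        exact Over.w a
      · show IsOpenImmersion.lift R.ι l hl ≫ R.ι ≫ pullback.fst q q = a.left
        rw [IsOpenImmersion.lift_fac_assoc, pullback.lift_fst]
      · show IsOpenImmersion.lift R.ι l hl ≫ R.ι ≫ pullback.snd q q = b.left
        rw [IsOpenImmersion.lift_fac_assoc, pullback.lift_snd]
  have het : IsEtaleEqvRel sR t := by
    refine ⟨⟨fun Z r r' e₁ e₂ => ?_, fun Z => ⟨fun a => (hrel a a).2 (hrefl _),
      fun h => (hrel _ _).2 (hsymm ((hrel _ _).1 h)),
      fun h h' => (hrel _ _).2 (htrans ((hrel _ _).1 h) ((hrel _ _).1 h'))⟩⟩,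
      inferInstanceAs (Etale (R.ι ≫ pullback.snd q q)), inferInstanceAs (Etale (R.ι ≫ pullback.fst q q))⟩
    refine Over.OverMorphism.ext ?_
    rw [← cancel_mono R.ι]
    apply pullback.hom_ext
    · simpa [t] using congrArg (fun k => k.left) e₁
    · simpa [sR] using congrArg (fun k => k.left) e₂
  haveI := het.etale_right
  have hX := isAlgSpace_quotSp het
  have hP := isPresentation_quotSp het
  let X := quotSp ((yon S).map sR) ((yon S).map t)
  let π := quotSpπ ((yon S).map sR) ((yon S).map t)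
  let one : Over S := Over.mk (𝟙 S)
  let u : U ⟶ one := Over.homMk q (Category.comp_id q)
  let f : X ⟶ (yon S).obj one := quotSpDesc ((yon S).map u) (by
    rw [← Functor.map_comp, ← Functor.map_comp]
    refine congrArg _ (Over.OverMorphism.ext ?_)
    simp [sR, t, u, pullback.condition])
  haveI : IsClosedImmersion R.ι := IsClosedImmersion.of_isPreimmersion _ (by rw [Scheme.Opens.range_ι]; exact hRc)
  have hlift : pullback.lift t.left sR.left ((Over.w t).trans (Over.w sR).symm) = R.ι := by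
    apply pullback.hom_ext <;> simp [t, sR] <;> rfl
  have hdiag : RepWith @IsClosedImmersion (Limits.diag X) := by
    haveI : Sheaf.IsLocallySurjective (prod.map π π) :=
      isLocallySurjective_of_etale (repWith_prod_map hP.etale hP.etale) (repWith_prod_map hP.surjective hP.surjective)
    refine repWith_of_isLocallySurjective hX.diag (prod.map π π) (isPullback_diag_prod_map hP.isPullback) _ ?_
    refine repWith_prod_lift t sR ?_
    rw [hlift]
    infer_instance
  have hsep : IsSeparatedMor f := repWith_diagonal f hdiag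
  have hqf : LocP (@LocallyQuasiFinite ⊓ @LocallyOfFiniteType) f := by
    haveI : Etale u.left := ‹Etale q›
    refine locP_of_chart_square etLocal_lqf hX π hP.etale hP.surjective (𝟙 _) (repWith_id _ _) u
      ⟨locallyQuasiFinite_of_etale u.left, inferInstance⟩ ?_
    rw [Category.comp_id]
    exact quotSpπ_desc _ _ _ _
  obtain ⟨G, ⟨e⟩⟩ := exists_iso_yon_of_lqf_separated hX f hsep hqf
  obtain ⟨p, hp⟩ := (yon S).map_surjective (π ≫ e.inv)
  have sqK : IsPullback ((yon S).map t) ((yon S).map sR) ((yon S).map p) ((yon S).map p) :=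
    hP.isPullback.of_iso (Iso.refl _) (Iso.refl _) (Iso.refl _) e.symm (by simp) (by simp) (by simp [hp, π])
      (by simp [hp, π])
  have sqO : IsPullback t sR p p := IsPullback.of_map (yon S) ((yon S).map_injective (by simpa using sqK.w)) sqK
  have hpe : Etale p.left := (repWith_yon_map_iff @Etale p).1 (by
    rw [hp]; exact (MorphismProperty.cancel_right_of_respectsIso (RepWith @Etale) π e.inv).2 hP.etale)
  have hps : Surjective p.left := (repWith_yon_map_iff @Surjective p).1 (by
    rw [hp]; exact (MorphismProperty.cancel_right_of_respectsIso (RepWith @Surjective) π e.inv).2 hP.surjective)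
  have sqL : IsPullback t.left sR.left p.left p.left := sqO.map (Over.forget S)
  have hker : ∀ {Z : Scheme.{u}} (a b : Z ⟶ P), a ≫ p.left = b ≫ p.left ↔ Rl a b := by
    intro Z a b
    constructor
    · intro h
      obtain ⟨r, hr₁, hr₂⟩ := sqL.exists_lift a b h
      let Z' : Over S := Over.mk (r ≫ RO.hom)
      let r' : Z' ⟶ RO := Over.homMk r
      have := (hrel (r' ≫ t) (r' ≫ sR)).1 ⟨r', rfl, rfl⟩
      simpa [r', hr₁, hr₂] using this
    · intro h
      let Z' : Over S := Over.mk (a ≫ q)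
      let a' : Z' ⟶ U := Over.homMk a
      let b' : Z' ⟶ U := Over.homMk b (hw a b h).symm
      obtain ⟨r, hr₁, hr₂⟩ := (hrel a' b').2 h
      have e₁ : r.left ≫ t.left = a := congrArg (fun k : Z' ⟶ U => k.left) hr₁
      have e₂ : r.left ≫ sR.left = b := congrArg (fun k : Z' ⟶ U => k.left) hr₂
      rw [← e₁, ← e₂, Category.assoc, Category.assoc, sqL.w]
  have hq' : p.left ≫ G.hom = q := Over.w p
  have hGe : Etale G.hom := by
    haveI : Etale u.left := ‹Etale q›
    let w : G ⟶ one := Over.homMk G.hom (Category.comp_id G.hom)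
    have := locP_of_chart_square etLocal_etale (IsAlgSpace.yon_obj G) ((yon S).map p)
      ((repWith_yon_map_iff _ p).2 hpe) ((repWith_yon_map_iff _ p).2 hps) (𝟙 _) (repWith_id _ _) u
      (show Etale u.left from inferInstance) (f := (yon S).map w) (by
        rw [Category.comp_id, ← Functor.map_comp]
        exact congrArg _ (Over.OverMorphism.ext hq'))
    exact locP_yon_map this
  refine ⟨G, p.left, hq', hGe, ?_, hpe, hps, hker⟩
  let f' : (yon S).obj G ⟶ (yon S).obj one := e.hom ≫ f
  have hf' : IsSeparatedMor f' := isSeparatedMor_comp (isSeparatedMor_of_mono e.hom) hsep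
  obtain ⟨v, hv⟩ := (yon S).map_surjective f'
  rw [← hv] at hf'
  have : IsSeparated v.left := (isSeparatedMor_yon_map_iff v).1 hf'
  have hv' : v.left = G.hom := by simpa [one] using Over.w v
  rwa [hv'] at this

/-- A quotient of a surjective local section descends the datum. -/
theorem nonempty_iso_of_quot (D : Desc.SchDD g) [Etale D.obj.hom] [Surjective g] (s : Sec D) (hs : Surjective s.k)
    (G : Over S) (p : s.P ⟶ G.left) (hp : p ≫ G.hom = s.q) (hGe : Etale G.hom) (hpe : Etale p) (hps : Surjective p)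
    (hker : ∀ {Z : Scheme.{u}} (a b : Z ⟶ s.P), a ≫ p = b ≫ p ↔ Rel s a b) :
    Nonempty ((Desc.toDD g).obj G ≅ D) := by
  haveI := s.etale
  let c : pullback g s.q ⟶ pullback g G.hom :=
    pullback.map _ _ _ _ (𝟙 T) p (𝟙 S) (by simp) (by rw [Category.comp_id, hp])
  have hc : IsPullback c (pullback.snd g s.q) (pullback.snd g G.hom) p := by
    refine IsPullback.of_right ?_ (by simp [c]) (IsPullback.of_hasPullback g G.hom)
    simpa [c, hp] using IsPullback.of_hasPullback g s.q
  haveI : Etale c := MorphismProperty.of_isPullback (P := @Etale) hc.flip hpe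
  haveI : Surjective c := MorphismProperty.of_isPullback (P := @Surjective) hc.flip hps
  let σ : pullback g G.hom ⟶ D.obj.left := EffectiveEpi.desc c s.k (fun {Z} g₁ g₂ e => by
    have e₁ : g₁ ≫ pullback.fst g s.q = g₂ ≫ pullback.fst g s.q := by
      simpa [c] using e =≫ pullback.fst g G.hom
    have e₂ : (g₁ ≫ pullback.snd g s.q) ≫ p = (g₂ ≫ pullback.snd g s.q) ≫ p := by
      simpa [c] using e =≫ pullback.snd g G.hom
    obtain ⟨hw, hv⟩ := (hker _ _).1 e₂
    have ha : (g₁ ≫ pullback.fst g s.q) ≫ g = (𝟙 Z ≫ g₁ ≫ pullback.snd g s.q) ≫ s.q := by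
      simp [pullback.condition]
    have hb : (g₁ ≫ pullback.fst g s.q) ≫ g = (𝟙 Z ≫ g₂ ≫ pullback.snd g s.q) ≫ s.q := by
      rw [Category.id_comp, ← hw, Category.assoc, Category.assoc, pullback.condition]
    have h1 : pullback.lift (g₁ ≫ pullback.fst g s.q) (𝟙 Z ≫ g₁ ≫ pullback.snd g s.q) ha = g₁ := by
      apply pullback.hom_ext <;> simp
    have h2 : pullback.lift (g₁ ≫ pullback.fst g s.q) (𝟙 Z ≫ g₂ ≫ pullback.snd g s.q) hb = g₂ := by
      apply pullback.hom_ext <;> simp [e₁]
    have := hv (𝟙 Z) _ ha hb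
    rwa [h1, h2] at this)
  have hσ : c ≫ σ = s.k := EffectiveEpi.fac _ _ _
  have hσw : σ ≫ D.obj.hom = pullback.fst g G.hom := by
    haveI := Flat.epi_of_flat_of_surjective c
    rw [← cancel_epi c, reassoc_of% hσ, s.w]
    simp [c]
  have hcomp : Compat D G.hom σ := by
    intro Z a b x₀ x₁ ha hb hab hx v hv
    let r := pullback.fst (a ≫ pullback.snd g G.hom) p
    haveI : Surjective r := MorphismProperty.pullback_fst (P := @Surjective) _ _ hps
    refine eq_of_surjective_etale D.obj.hom r _ _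
      (by rw [(D.φ x₀ x₁ hx v).2, Category.assoc, hσw, hb]) ?_
    let y := pullback.snd (a ≫ pullback.snd g G.hom) p
    have hy : r ≫ a ≫ pullback.snd g G.hom = y ≫ p := pullback.condition
    obtain ⟨a', ha₁, ha₂⟩ := hc.exists_lift (r ≫ a) y (by rw [Category.assoc]; exact hy)
    obtain ⟨b', hb₁, hb₂⟩ := hc.exists_lift (r ≫ b) y (by rw [Category.assoc, ← hab]; exact hy)
    have hrx : (r ≫ x₀) ≫ g = (r ≫ x₁) ≫ g := by rw [Category.assoc, hx, Category.assoc]
    rw [← φ_natural' D r hx rfl rfl hrx v ⟨r ≫ v.1, by rw [Category.assoc, v.2]⟩ rfl,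
      s.compat a' b' (r ≫ x₀) (r ≫ x₁) ?_ ?_ (ha₂.trans hb₂.symm) hrx _ (by
        show r ≫ v.1 = _
        rw [hv, ← hσ, reassoc_of% ha₁]), ← hσ, reassoc_of% hb₁]
    · rw [← ha, ← Category.assoc, ← ha₁]; simp [c]
    · rw [← hb, ← Category.assoc, ← hb₁]; simp [c]
  haveI : Mono σ := ⟨fun {Z} a b e => by
    have et : a ≫ pullback.fst g G.hom = b ≫ pullback.fst g G.hom := by rw [← hσw, reassoc_of% e]
    let r₁ := pullback.fst (a ≫ pullback.snd g G.hom) p
    let r₂ := pullback.fst (r₁ ≫ b ≫ pullback.snd g G.hom) p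
    haveI : Etale r₁ := MorphismProperty.pullback_fst (P := @Etale) _ _ hpe
    haveI : Etale r₂ := MorphismProperty.pullback_fst (P := @Etale) _ _ hpe
    haveI : Surjective r₁ := MorphismProperty.pullback_fst (P := @Surjective) _ _ hps
    haveI : Surjective r₂ := MorphismProperty.pullback_fst (P := @Surjective) _ _ hps
    haveI := Flat.epi_of_flat_of_surjective r₁
    haveI := Flat.epi_of_flat_of_surjective r₂
    rw [← cancel_epi r₁, ← cancel_epi r₂]
    let aP := r₂ ≫ pullback.snd (a ≫ pullback.snd g G.hom) p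
    let bP := pullback.snd (r₁ ≫ b ≫ pullback.snd g G.hom) p
    let t := r₂ ≫ r₁ ≫ a ≫ pullback.fst g G.hom
    have ha : aP ≫ p = r₂ ≫ r₁ ≫ a ≫ pullback.snd g G.hom := by
      simp only [aP, r₁, Category.assoc, ← pullback.condition]
    have hb : bP ≫ p = r₂ ≫ r₁ ≫ b ≫ pullback.snd g G.hom := by
      simp only [bP, r₂, ← pullback.condition, Category.assoc]
    have ha' : t ≫ g = aP ≫ s.q := by
      rw [← hp, reassoc_of% ha]; simp [t, pullback.condition]
    have hb' : t ≫ g = bP ≫ s.q := by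
      rw [← hp, reassoc_of% hb, show t = r₂ ≫ r₁ ≫ b ≫ pullback.fst g G.hom by simp only [t, et]]
      simp [pullback.condition]
    have hla : pullback.lift t aP ha' ≫ c = r₂ ≫ r₁ ≫ a := by
      apply pullback.hom_ext
      · simp [c, t]
      · simp [c, ha]
    have hlb : pullback.lift t bP hb' ≫ c = r₂ ≫ r₁ ≫ b := by
      apply pullback.hom_ext
      · simp [c, t, et]
      · simp [c, hb]
    have hk : pullback.lift t aP ha' ≫ s.k = pullback.lift t bP hb' ≫ s.k := by
      rw [← hσ, reassoc_of% hla, reassoc_of% hlb, e]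
    have hrel : Rel s aP bP := ⟨ha'.symm.trans hb', fun W r t' h1 h2 => by
      refine eq_of_compat s (t := r ≫ t) (by simp only [Category.assoc, ha'])
        (by simp only [Category.assoc, hb']) h1 h2 ?_
      have h1' : pullback.lift (r ≫ t) (r ≫ aP) (by simp only [Category.assoc, ha']) =
          r ≫ pullback.lift t aP ha' := by apply pullback.hom_ext <;> simp
      have h2' : pullback.lift (r ≫ t) (r ≫ bP) (by simp only [Category.assoc, hb']) =
          r ≫ pullback.lift t bP hb' := by apply pullback.hom_ext <;> simp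
      rw [h1', h2', Category.assoc, Category.assoc, hk]⟩
    have hpp : aP ≫ p = bP ≫ p := (hker aP bP).2 hrel
    apply pullback.hom_ext
    · simp only [Category.assoc, et]
    · simp only [Category.assoc, ← ha, ← hb, hpp]⟩
  haveI : Etale σ := by
    haveI : Etale (σ ≫ D.obj.hom) := by
      rw [hσw]; exact MorphismProperty.pullback_fst (P := @Etale) _ _ hGe
    exact Etale.of_comp σ D.obj.hom
  haveI : IsOpenImmersion σ := IsOpenImmersion.of_flat_of_mono σ
  haveI : Surjective σ := by
    haveI : Surjective (c ≫ σ) := by rw [hσ]; exact hs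
    exact Surjective.of_comp c σ
  haveI : IsIso σ := (isIso_iff_isOpenImmersion_and_epi_base σ).2
    ⟨inferInstance, (TopCat.epi_iff_surjective _).2 σ.surjective⟩
  exact nonempty_iso_of_isIso D G σ hσw hcomp

/-- Effectivity from local sections through all points. -/
theorem effective_of_hasSecs (D : Desc.SchDD g) [Etale D.obj.hom] [IsSeparated D.obj.hom] [Surjective g]
    (hq : ∀ U : Over S, Etale U.hom → Topology.IsQuotientMap (pullback.snd g U.hom).base) (h : HasSecs D) :
    ∃ U : Over S, IsSeparated U.hom ∧ Etale U.hom ∧ Nonempty ((Desc.toDD g).obj U ≅ D) := by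
  obtain ⟨s, hs⟩ := exists_surjective_sec D h
  haveI := s.etale
  obtain ⟨R, hRc, hR⟩ := exists_rel_open s hq
  obtain ⟨G, p, hp, hGe, hGs, hpe, hps, hker⟩ := exists_quot s.q (fun {Z} a b => Rel s a b)
    (fun a b h => h.1) (rel_refl s) (rel_symm s) (rel_trans s) R (hRc ‹_›) hR
  exact ⟨G, hGs, hGe, nonempty_iso_of_quot D s hs G p hp hGe hpe hps hker⟩

/-- The descended scheme is quasi-compact. -/
theorem quasiCompact_of_iso [Surjective g] [QuasiCompact g] (D : Desc.SchDD g) [QuasiCompact D.obj.hom]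
    {U : Over S} (e : Nonempty ((Desc.toDD g).obj U ≅ D)) : QuasiCompact U.hom := by
  obtain ⟨e⟩ := e
  have hw : e.hom.hom.left ≫ D.obj.hom = pullback.fst g U.hom := Over.w e.hom.hom
  let i : ((Desc.toDD g).obj U).obj ≅ D.obj := ⟨e.hom.hom, e.inv.hom,
    congrArg Desc.SchDD.Hom.hom e.hom_inv_id, congrArg Desc.SchDD.Hom.hom e.inv_hom_id⟩
  haveI : IsIso e.hom.hom.left := inferInstanceAs (IsIso ((Over.forget T).mapIso i).hom)
  haveI : QuasiCompact (pullback.fst g U.hom) := by rw [← hw]; infer_instance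
  refine ⟨fun W hW hWc => ?_⟩
  haveI : Surjective (pullback.snd g U.hom) := MorphismProperty.pullback_snd (P := @Surjective) _ _ inferInstance
  have h1 : IsCompact (pullback.fst g U.hom ⁻¹' (g ⁻¹' W)) :=
    QuasiCompact.isCompact_preimage _ (hW.preimage g.continuous) (QuasiCompact.isCompact_preimage _ hW hWc)
  have h2 : pullback.snd g U.hom '' (pullback.fst g U.hom ⁻¹' (g ⁻¹' W)) = U.hom ⁻¹' W := by
    rw [← Set.preimage_comp, show g ∘ pullback.fst g U.hom = U.hom ∘ pullback.snd g U.hom from funext fun x => by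
      simp only [Function.comp_apply, ← Scheme.Hom.comp_apply, pullback.condition], Set.preimage_comp,
      Set.image_preimage_eq _ (pullback.snd g U.hom).surjective]
  rw [← h2]
  exact h1.image (pullback.snd g U.hom).continuous

end Groth.Agent.FlatMor12.EtBridge
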