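import Groth.Agent.FlatMor12.EtBridge.Phi
import Groth.Agent.FlatMor12.EtBridge.Quot
import Groth.Agent.Et18.H0Lift.EffectiveProper

/-!
# Effective descent for separated etale schemes along proper and integral surjections
-/

set_option autoImplicit false
set_option backward.isDefEq.respectTransparency.types false
set_option backward.isDefEq.respectTransparency false

universe u

open CategoryTheory CategoryTheory.Limits AlgebraicGeometry
open Groth.Agent.Et18 Groth.Agent.Et18.H0Lift

namespace Groth.Agent.FlatMor12.EtBridge

variable {S T : Scheme.{u}} {g : T ⟶ S}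

theorem isQuotientMap_of_universallyClosed [UniversallyClosed g] [Surjective g] (U : Over S) :
    Topology.IsQuotientMap (pullback.snd g U.hom).base := by
  haveI : Surjective (pullback.snd g U.hom) := MorphismProperty.pullback_snd (P := @Surjective) _ _ inferInstance
  haveI : UniversallyClosed (pullback.snd g U.hom) :=
    MorphismProperty.pullback_snd (P := @UniversallyClosed) _ _ inferInstance
  exact (pullback.snd g U.hom).isClosedMap.isQuotientMap (pullback.snd g U.hom).continuous
    (pullback.snd g U.hom).surjective

/-- Local sections exist along proper or integral surjections. -/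
theorem hasSecs_of_isCoupleHom [Surjective g] [IsCoupleHom g] [IsCoupleHom (pullback.snd g g)] (D : Desc.SchDD g)
    [Etale D.obj.hom] : HasSecs D :=
  hasSecs_of_isEffective D (isEffective_of_isCoupleHom _ (isCocycle_glIso D))

/-- Effectivity along proper or integral surjections. -/
theorem effective_of_isCoupleHom [Surjective g] [IsCoupleHom g] [IsCoupleHom (pullback.snd g g)] (D : Desc.SchDD g)
    [Etale D.obj.hom] [IsSeparated D.obj.hom] :
    ∃ U : Over S, IsSeparated U.hom ∧ Etale U.hom ∧ Nonempty ((Desc.toDD g).obj U ≅ D) := by
  haveI : UniversallyClosed g := IsCoupleHom.toUniversallyClosed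
  exact effective_of_hasSecs D (fun U _ => isQuotientMap_of_universallyClosed U) (hasSecs_of_isCoupleHom D)

/-- The quasi-compact version. -/
theorem effective_qc_of_isCoupleHom [Surjective g] [IsCoupleHom g] [IsCoupleHom (pullback.snd g g)]
    (D : Desc.SchDD g) [QuasiCompact D.obj.hom] [Etale D.obj.hom] [IsSeparated D.obj.hom] :
    ∃ U : Over S, QuasiCompact U.hom ∧ IsSeparated U.hom ∧ Etale U.hom ∧ Nonempty ((Desc.toDD g).obj U ≅ D) := by
  haveI : QuasiCompact g := IsCoupleHom.quasiCompact
  obtain ⟨U, hs, he, hi⟩ := effective_of_isCoupleHom D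
  exact ⟨U, quasiCompact_of_iso D hi, hs, he, hi⟩

end Groth.Agent.FlatMor12.EtBridge
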