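import Groth.Agent.FlatMor12.EtBridge.Quot
import Groth.Agent.AlgSpLib.OpenCoverScheme
import Groth.Agent.AlgSpLib.PointsTop
import Mathlib.AlgebraicGeometry.Morphisms.FlatMono

/-!
# Effective descent of etale data from monomorphic local sections
-/

set_option autoImplicit false
set_option backward.isDefEq.respectTransparency false
set_option backward.isDefEq.respectTransparency.types false

universe u

open CategoryTheory CategoryTheory.Limits AlgebraicGeometry Opposite
open AlgSp Groth.Agent.AlgSpLib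

namespace Groth.Agent.FlatMor12.EtBridge

variable {S T : Scheme.{u}} {g : T ⟶ S}

/-- Quotients of etale schemes by open equivalence relations which are trivial locally on the source. -/
theorem exists_quot_open {P : Scheme.{u}} (q : P ⟶ S) [Etale q] (Rl : ∀ {Z : Scheme.{u}}, (Z ⟶ P) → (Z ⟶ P) → Prop)
    (hw : ∀ {Z : Scheme.{u}} (a b : Z ⟶ P), Rl a b → a ≫ q = b ≫ q)
    (hrefl : ∀ {Z : Scheme.{u}} (a : Z ⟶ P), Rl a a)
    (hsymm : ∀ {Z : Scheme.{u}} {a b : Z ⟶ P}, Rl a b → Rl b a)
    (htrans : ∀ {Z : Scheme.{u}} {a b c : Z ⟶ P}, Rl a b → Rl b c → Rl a c)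
    (R : (pullback q q).Opens)
    (hR : ∀ {Z : Scheme.{u}} (l : Z ⟶ pullback q q),
      Rl (l ≫ pullback.fst q q) (l ≫ pullback.snd q q) ↔ Set.range l ⊆ (R : Set ↥(pullback q q)))
    (O : P → P.Opens) (hmem : ∀ x, x ∈ O x)
    (hinj : ∀ (x : P) {Z : Scheme.{u}} (a b : Z ⟶ (O x : Scheme.{u})), Rl (a ≫ (O x).ι) (b ≫ (O x).ι) → a = b) :
    ∃ (G : Over S) (p : P ⟶ G.left), p ≫ G.hom = q ∧ Etale G.hom ∧ Etale p ∧ Surjective p ∧
      ∀ {Z : Scheme.{u}} (a b : Z ⟶ P), a ≫ p = b ≫ p ↔ Rl a b := by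
  let U : Over S := Over.mk q
  let RO : Over S := Over.mk ((R.ι ≫ pullback.fst q q) ≫ q)
  let t : RO ⟶ U := Over.homMk (R.ι ≫ pullback.fst q q) rfl
  let sR : RO ⟶ U := Over.homMk (R.ι ≫ pullback.snd q q) (by
    simp only [U, RO, Over.mk_hom, Category.assoc, pullback.condition])
  have hrel : ∀ {Z : Over S} (a b : Z ⟶ U), (∃ r : Z ⟶ RO, r ≫ t = a ∧ r ≫ sR = b) ↔ Rl a.left b.left := by
    intro Z a b
    constructor
    · rintro ⟨r, rfl, rfl⟩
      have h := (hR (r.left ≫ R.ι)).2 (by
        rintro _ ⟨z, rfl⟩; rw [Scheme.Hom.comp_apply]; exact (r.left z).2)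
      rw [Category.assoc, Category.assoc] at h
      exact h
    · intro h
      let l : Z.left ⟶ pullback q q := pullback.lift a.left b.left (hw _ _ h)
      have hl : Set.range l ⊆ Set.range R.ι := by
        rw [Scheme.Opens.range_ι]
        exact (hR l).1 (by simpa [l] using h)
      refine ⟨Over.homMk (IsOpenImmersion.lift R.ι l hl) ?_, Over.OverMorphism.ext ?_, Over.OverMorphism.ext ?_⟩
      · show IsOpenImmersion.lift R.ι l hl ≫ (R.ι ≫ pullback.fst q q) ≫ q = Z.hom
        rw [Category.assoc, IsOpenImmersion.lift_fac_assoc, pullback.lift_fst_assoc]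
        exact Over.w a
      · show IsOpenImmersion.lift R.ι l hl ≫ R.ι ≫ pullback.fst q q = a.left
        rw [IsOpenImmersion.lift_fac_assoc, pullback.lift_fst]
      · show IsOpenImmersion.lift R.ι l hl ≫ R.ι ≫ pullback.snd q q = b.left
        rw [IsOpenImmersion.lift_fac_assoc, pullback.lift_snd]
  have het : IsEtaleEqvRel sR t := by
    refine ⟨⟨fun Z r r' e₁ e₂ => ?_, fun Z => ⟨fun a => (hrel a a).2 (hrefl _),
      fun h => (hrel _ _).2 (hsymm ((hrel _ _).1 h)),
      fun h h' => (hrel _ _).2 (htrans ((hrel _ _).1 h) ((hrel _ _).1 h'))⟩⟩,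
      inferInstanceAs (Etale (R.ι ≫ pullback.snd q q)), inferInstanceAs (Etale (R.ι ≫ pullback.fst q q))⟩
    refine Over.OverMorphism.ext ?_
    rw [← cancel_mono R.ι]
    apply pullback.hom_ext
    · simpa [t] using congrArg (fun k => k.left) e₁
    · simpa [sR] using congrArg (fun k => k.left) e₂
  haveI := het.etale_right
  have hX := isAlgSpace_quotSp het
  have hP := isPresentation_quotSp het
  let X := quotSp ((yon S).map sR) ((yon S).map t)
  let π := quotSpπ ((yon S).map sR) ((yon S).map t)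
  let one : Over S := Over.mk (𝟙 S)
  let u : U ⟶ one := Over.homMk q (Category.comp_id q)
  let f : X ⟶ (yon S).obj one := quotSpDesc ((yon S).map u) (by
    rw [← Functor.map_comp, ← Functor.map_comp]
    refine congrArg _ (Over.OverMorphism.ext ?_)
    simp [sR, t, u, pullback.condition])
  let Xc : P → Over S := fun x => Over.mk ((O x).ι ≫ q)
  let jc : ∀ x, Xc x ⟶ U := fun x => Over.homMk (O x).ι rfl
  have hje : ∀ x, RepWith @Etale ((yon S).map (jc x) ≫ π) := fun x =>
    RepWith.comp ((repWith_yon_map_iff @Etale (jc x)).2 (inferInstanceAs (Etale (O x).ι))) hP.etale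
  have hjm : ∀ x, Mono ((yon S).map (jc x) ≫ π) := fun x => ⟨fun {W} a b h => hom_ext_of_yon fun Z z => by
    obtain ⟨a', ha'⟩ := (yon S).map_surjective (z ≫ a)
    obtain ⟨b', hb'⟩ := (yon S).map_surjective (z ≫ b)
    have e1 : (yon S).map (a' ≫ jc x) ≫ π = (yon S).map (b' ≫ jc x) ≫ π := by
      rw [Functor.map_comp, Functor.map_comp, ha', hb']
      simp only [Category.assoc, h]
    obtain ⟨r, hr₁, hr₂⟩ := hP.isPullback.exists_lift _ _ e1
    obtain ⟨r', rfl⟩ := (yon S).map_surjective r
    rw [← Functor.map_comp] at hr₁ hr₂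
    have := (hrel (a' ≫ jc x) (b' ≫ jc x)).1 ⟨r', (yon S).map_injective hr₁, (yon S).map_injective hr₂⟩
    have e2 : a'.left = b'.left := hinj x a'.left b'.left this
    rw [← ha', ← hb', Over.OverMorphism.ext e2]⟩
  have hjo : ∀ x, RepWith @IsOpenImmersion ((yon S).map (jc x) ≫ π) := fun x =>
    ⟨(hje x).1, fun a b g fst snd h => by
      haveI : Etale snd.left := (hje x).2 g fst snd h
      haveI hm : Mono ((yon S).map snd) := (MorphismProperty.monomorphisms (Sp S)).of_isPullback h (hjm x)
      haveI : Mono snd := (yon S).mono_of_mono_map hm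
      exact IsOpenImmersion.of_flat_of_mono snd.left⟩
  obtain ⟨G, ⟨e⟩⟩ := exists_iso_yon_of_openCover (fun x => (yon S).map (jc x) ≫ π) hjo (fun z => by
    obtain ⟨t₀, rfl⟩ := surjective_ofPt π hP.surjective z
    refine ⟨t₀, Points.ofScheme (Xc t₀) ⟨t₀, hmem t₀⟩, ?_⟩
    rw [Points.map_comp, map_yon_map_ofScheme, Points.ofPt_eq_map_ofScheme]
    rfl)
  obtain ⟨p, hp⟩ := (yon S).map_surjective (π ≫ e.inv)
  have sqK : IsPullback ((yon S).map t) ((yon S).map sR) ((yon S).map p) ((yon S).map p) :=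
    hP.isPullback.of_iso (Iso.refl _) (Iso.refl _) (Iso.refl _) e.symm (by simp) (by simp) (by simp [hp, π])
      (by simp [hp, π])
  have sqO : IsPullback t sR p p := IsPullback.of_map (yon S) ((yon S).map_injective (by simpa using sqK.w)) sqK
  have hpe : Etale p.left := (repWith_yon_map_iff @Etale p).1 (by
    rw [hp]; exact (MorphismProperty.cancel_right_of_respectsIso (RepWith @Etale) π e.inv).2 hP.etale)
  have hps : Surjective p.left := (repWith_yon_map_iff @Surjective p).1 (by
    rw [hp]; exact (MorphismProperty.cancel_right_of_respectsIso (RepWith @Surjective) π e.inv).2 hP.surjective)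
  have sqL : IsPullback t.left sR.left p.left p.left := sqO.map (Over.forget S)
  have hker : ∀ {Z : Scheme.{u}} (a b : Z ⟶ P), a ≫ p.left = b ≫ p.left ↔ Rl a b := by
    intro Z a b
    constructor
    · intro h
      obtain ⟨r, hr₁, hr₂⟩ := sqL.exists_lift a b h
      let Z' : Over S := Over.mk (r ≫ RO.hom)
      let r' : Z' ⟶ RO := Over.homMk r
      have := (hrel (r' ≫ t) (r' ≫ sR)).1 ⟨r', rfl, rfl⟩
      simpa [r', hr₁, hr₂] using this
    · intro h
      let Z' : Over S := Over.mk (a ≫ q)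
      let a' : Z' ⟶ U := Over.homMk a
      let b' : Z' ⟶ U := Over.homMk b (hw a b h).symm
      obtain ⟨r, hr₁, hr₂⟩ := (hrel a' b').2 h
      have e₁ : r.left ≫ t.left = a := congrArg (fun k : Z' ⟶ U => k.left) hr₁
      have e₂ : r.left ≫ sR.left = b := congrArg (fun k : Z' ⟶ U => k.left) hr₂
      rw [← e₁, ← e₂, Category.assoc, Category.assoc, sqL.w]
  have hq' : p.left ≫ G.hom = q := Over.w p
  have hGe : Etale G.hom := by
    haveI : Etale u.left := ‹Etale q›
    let w : G ⟶ one := Over.homMk G.hom (Category.comp_id G.hom)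
    have := locP_of_chart_square etLocal_etale (IsAlgSpace.yon_obj G) ((yon S).map p)
      ((repWith_yon_map_iff _ p).2 hpe) ((repWith_yon_map_iff _ p).2 hps) (𝟙 _) (repWith_id _ _) u
      (show Etale u.left from inferInstance) (f := (yon S).map w) (by
        rw [Category.comp_id, ← Functor.map_comp]
        exact congrArg _ (Over.OverMorphism.ext hq'))
    exact locP_yon_map this
  exact ⟨G, p.left, hq', hGe, hpe, hps, hker⟩

/-- Monomorphic local sections through all points. -/
def HasMonoSecs (D : Desc.SchDD g) : Prop :=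
  ∀ d : D.obj.left, ∃ s : Sec D, Mono s.k ∧ d ∈ Set.range s.k

/-- Effectivity from monomorphic local sections through all points. -/
theorem effective_of_hasMonoSecs (D : Desc.SchDD g) [Etale D.obj.hom] [Surjective g]
    (hq : ∀ U : Over S, Etale U.hom → Topology.IsQuotientMap (pullback.snd g U.hom).base) (h : HasMonoSecs D) :
    ∃ U : Over S, Etale U.hom ∧ Nonempty ((Desc.toDD g).obj U ≅ D) := by
  obtain ⟨s, hs, hpc⟩ := exists_surjective_sec' D (fun s => Mono s.k) h
  haveI := s.etale
  obtain ⟨R, -, hR⟩ := exists_rel_open s hq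
  choose s₁ j hjo hj hm hx hk using hpc
  let O : s.P → s.P.Opens := fun x =>
    haveI := hjo x
    (j x).opensRange
  obtain ⟨G, p, hp, hGe, hpe, hps, hker⟩ := exists_quot_open s.q (fun {Z} a b => Rel s a b)
    (fun a b h => h.1) (rel_refl s) (rel_symm s) (rel_trans s) R hR O (fun x => hx x) (fun x {Z} a b hab => by
      haveI := hjo x
      haveI := hm x
      haveI := (s₁ x).etale
      obtain ⟨a', rfl⟩ : ∃ a', a' ≫ (j x).isoOpensRange.hom = a := ⟨a ≫ (j x).isoOpensRange.inv, by simp⟩
      obtain ⟨b', rfl⟩ : ∃ b', b' ≫ (j x).isoOpensRange.hom = b := ⟨b ≫ (j x).isoOpensRange.inv, by simp⟩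
      simp only [O, Category.assoc, Scheme.Hom.isoOpensRange_hom_ι] at hab
      obtain ⟨hw, hv⟩ := hab
      have hw₁ : a' ≫ (s₁ x).q = b' ≫ (s₁ x).q := by simpa only [Category.assoc, hj x] using hw
      let r := pullback.snd g (a' ≫ (s₁ x).q)
      let t := pullback.fst g (a' ≫ (s₁ x).q)
      haveI : Surjective r := MorphismProperty.pullback_snd (P := @Surjective) _ _ inferInstance
      have ha : t ≫ g = (r ≫ a') ≫ (s₁ x).q := by rw [Category.assoc]; exact pullback.condition
      have hb : t ≫ g = (r ≫ b') ≫ (s₁ x).q := ha.trans ((Category.assoc _ _ _).trans ((congrArg (r ≫ ·) hw₁).trans (Category.assoc _ _ _).symm))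
      have ha' : t ≫ g = (r ≫ a' ≫ j x) ≫ s.q := by
        rw [ha]; simp only [Category.assoc, hj x]
      have hb' : t ≫ g = (r ≫ b' ≫ j x) ≫ s.q := by
        rw [hb]; simp only [Category.assoc, hj x]
      have e := hv r t ha' hb'
      have key : pullback.lift t (r ≫ a') ha ≫ (s₁ x).k = pullback.lift t (r ≫ b') hb ≫ (s₁ x).k := by
        rw [← hk x, ← Category.assoc, ← Category.assoc]
        refine Eq.trans ?_ (e.trans ?_) <;> congr 1 <;> apply pullback.hom_ext <;> simp
      have hrr : r ≫ a' = r ≫ b' := by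
        simpa using congrArg (· ≫ pullback.snd g (s₁ x).q) ((cancel_mono (s₁ x).k).1 key)
      rw [eq_of_surjective_etale (s₁ x).q r a' b' hw₁ hrr])
  exact ⟨G, hGe, nonempty_iso_of_quot D s hs G p hp hGe hpe hps hker⟩

end Groth.Agent.FlatMor12.EtBridge
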