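import Groth.Agent.FlatMor12.EtBridge.Approx
import Groth.Agent.FlatMor12.EtBridge.MonoSec

/-!
# Monomorphic sections of a datum spread out along limits of open subschemes of the base
-/

set_option autoImplicit false
set_option backward.isDefEq.respectTransparency false
set_option backward.isDefEq.respectTransparency.types false
set_option maxHeartbeats 1000000

universe u

open CategoryTheory CategoryTheory.Limits AlgebraicGeometry

namespace Groth.Agent.FlatMor12.EtBridge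

variable {S T : Scheme.{u}} {g : T ⟶ S} (D : Desc.SchDD g)

theorem gg_cond : pullback.fst g g ≫ g = pullback.snd g g ≫ g := pullback.condition

/-- The first base change of a map on pairs. -/
noncomputable def pair₀ {P : Scheme.{u}} (q : P ⟶ S) : pullback (pullback.fst g g ≫ g) q ⟶ pullback g q :=
  pullback.map _ _ _ _ (pullback.fst g g) (𝟙 P) (𝟙 S) (by simp) (by simp)

/-- The second base change of a map on pairs. -/
noncomputable def pair₁ {P : Scheme.{u}} (q : P ⟶ S) : pullback (pullback.fst g g ≫ g) q ⟶ pullback g q :=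
  pullback.map _ _ _ _ (pullback.snd g g) (𝟙 P) (𝟙 S) (by simp [pullback.condition]) (by simp)

theorem pair_cond {P : Scheme.{u}} (q : P ⟶ S) :
    (pair₀ (g := g) q ≫ pullback.fst g q) ≫ g = (pair₁ (g := g) q ≫ pullback.fst g q) ≫ g := by
  simp only [pair₀, pair₁, pullback.lift_fst, Category.assoc, pullback.condition (f := g) (g := g)]

/-- The transported value on pairs. -/
noncomputable def pairVal {P : Scheme.{u}} (q : P ⟶ S) (k : pullback g q ⟶ D.obj.left)
    (hw : k ≫ D.obj.hom = pullback.fst g q) : pullback (pullback.fst g g ≫ g) q ⟶ D.obj.left :=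
  (D.φ _ _ (pair_cond q) ⟨pair₀ q ≫ k, by rw [Category.assoc, hw]⟩).1

theorem compat_of_pairVal {P : Scheme.{u}} (q : P ⟶ S) (k : pullback g q ⟶ D.obj.left)
    (hw : k ≫ D.obj.hom = pullback.fst g q) (h : pairVal D q k hw = pair₁ q ≫ k) : Compat D q k := by
  intro Z a b x₀ x₁ ha hb hab hx v hv
  let l : Z ⟶ pullback (pullback.fst g g ≫ g) q := pullback.lift (pullback.lift x₀ x₁ hx) (a ≫ pullback.snd g q) (by
    rw [pullback.lift_fst_assoc, ← ha, Category.assoc, Category.assoc, pullback.condition])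
  have h₀ : l ≫ pair₀ q = a := by apply pullback.hom_ext <;> simp [l, pair₀, ha]
  have h₁ : l ≫ pair₁ q = b := by apply pullback.hom_ext <;> simp [l, pair₁, hb, hab]
  have e := φ_natural' D l (pair_cond q) (y₀ := x₀) (y₁ := x₁) (by rw [reassoc_of% h₀, ha])
    (by rw [reassoc_of% h₁, hb]) hx ⟨pair₀ q ≫ k, by rw [Category.assoc, hw]⟩ v (by
      show v.1 = l ≫ pair₀ q ≫ k
      rw [hv, reassoc_of% h₀])
  exact e.trans (((congrArg (l ≫ ·) h).trans (Category.assoc _ _ _).symm).trans (congrArg (· ≫ k) h₁))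

theorem pairVal_of_compat {P : Scheme.{u}} (q : P ⟶ S) (k : pullback g q ⟶ D.obj.left)
    (hw : k ≫ D.obj.hom = pullback.fst g q) (h : Compat D q k) : pairVal D q k hw = pair₁ q ≫ k :=
  h (pair₀ q) (pair₁ q) _ _ rfl rfl (by simp [pair₀, pair₁]) (pair_cond q) _ rfl

section Bc

variable {R P P' : Scheme.{u}} (h : R ⟶ S) {q : P ⟶ S} {q' : P' ⟶ S} (m : P' ⟶ P) (hm : m ≫ q = q')

/-- Base change of a map over the base. -/
noncomputable def bcMap : pullback h q' ⟶ pullback h q :=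
  pullback.map _ _ _ _ (𝟙 R) m (𝟙 S) (by simp) (by rw [Category.comp_id, hm])

theorem bcMap_fst : bcMap h m hm ≫ pullback.fst h q = pullback.fst h q' := by
  simp [bcMap]

theorem bcMap_snd : bcMap h m hm ≫ pullback.snd h q = pullback.snd h q' ≫ m := by
  simp [bcMap]

theorem mono_bcMap [Mono m] : Mono (bcMap h m hm) := ⟨fun {Z} x y e => by
  apply pullback.hom_ext
  · simpa [bcMap] using congrArg (· ≫ pullback.fst h q) e
  · rw [← cancel_mono m]
    simpa [bcMap] using congrArg (· ≫ pullback.snd h q) e⟩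

theorem pair₀_nat : bcMap (pullback.fst g g ≫ g) m hm ≫ pair₀ q = pair₀ q' ≫ bcMap g m hm := by
  apply pullback.hom_ext
  · simp [bcMap, pair₀]
  · simp only [bcMap, pair₀, Category.assoc, pullback.lift_snd, pullback.lift_snd_assoc, Category.comp_id]

theorem pair₁_nat : bcMap (pullback.fst g g ≫ g) m hm ≫ pair₁ q = pair₁ q' ≫ bcMap g m hm := by
  apply pullback.hom_ext
  · simp [bcMap, pair₁]
  · simp only [bcMap, pair₁, Category.assoc, pullback.lift_snd, pullback.lift_snd_assoc, Category.comp_id]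

theorem pairVal_nat (k : pullback g q ⟶ D.obj.left) (hw : k ≫ D.obj.hom = pullback.fst g q)
    (k' : pullback g q' ⟶ D.obj.left) (hw' : k' ≫ D.obj.hom = pullback.fst g q') (e : bcMap g m hm ≫ k = k') :
    bcMap (pullback.fst g g ≫ g) m hm ≫ pairVal D q k hw = pairVal D q' k' hw' :=
  (φ_natural' D _ (pair_cond q) (by rw [reassoc_of% pair₀_nat m hm, bcMap_fst])
    (by rw [reassoc_of% pair₁_nat m hm, bcMap_fst]) (pair_cond q') ⟨pair₀ q ≫ k, by rw [Category.assoc, hw]⟩
    ⟨pair₀ q' ≫ k', by rw [Category.assoc, hw']⟩ (show pair₀ q' ≫ k' = bcMap (pullback.fst g g ≫ g) m hm ≫ pair₀ q ≫ k by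
      rw [reassoc_of% pair₀_nat m hm, e])).symm

end Bc

variable {J : Type u} [SmallCategory J] [IsCofiltered J] {F : J ⥤ Scheme.{u}} [∀ j, IsAffine (F.obj j)]
  {c : Cone F} (hc : IsLimit c) [IsAffine c.pt] (t : F ⟶ (Functor.const J).obj S)
  [∀ j, IsOpenImmersion (t.app j)] {gc : c.pt ⟶ S} (hgc : ∀ j, c.π.app j ≫ t.app j = gc)

include hc hgc in
/-- A monomorphic section over the limit spreads out to a stage. -/
theorem exists_good_stage [QuasiCompact g] [QuasiSeparated g] [Etale D.obj.hom]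
    [CompactSpace D.obj.left] [QuasiSeparatedSpace D.obj.left]
    {A : Scheme.{u}} (q₁ : A ⟶ c.pt) [Etale q₁] [IsSeparated q₁] [QuasiCompact q₁]
    (k : pullback g (q₁ ≫ gc) ⟶ D.obj.left) (hk : Good D (q₁ ≫ gc) k) {d : D.obj.left} (hd : d ∈ Set.range k) :
    ∃ (P : Scheme.{u}) (q : P ⟶ S), Etale q ∧ IsSeparated q ∧
      ∃ k' : pullback g q ⟶ D.obj.left, Good D q k' ∧ d ∈ Set.range k' := by
  obtain ⟨i, A₀, π₀, q₀, hE, hSep, hQc, sq⟩ := exists_stage_etale hc q₁
  haveI := hE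
  haveI := hSep
  haveI := hQc
  let F' := Over.forget i ⋙ F
  let cF := c.whisker (Over.forget i)
  have hcF : IsLimit cF := (Functor.Initial.isLimitWhiskerEquiv (Over.forget i) c).symm hc
  let tA : F' ⟶ (Functor.const (Over i)).obj (F.obj i) :=
    { app := fun l => F.map l.hom
      naturality := fun l m f => by
        simp only [F', Functor.comp_map, Functor.const_obj_map, Category.comp_id, ← F.map_comp]
        exact congrArg F.map (Over.w f) }
  let K := prodDia (constMap (J := Over i) π₀) tA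
  let cK : Cone K := prodCone (cA := constCone _) (cB := cF) (fun _ => Category.id_comp _) (fun l => c.w l.hom) sq
  have hcK : IsLimit cK := isLimitProdCone _ _ (isLimitConstCone _) hcF sq
  let π_ : ∀ l : Over i, pullback π₀ (F.map l.hom) ⟶ F.obj l.left := fun l => pullback.snd π₀ (F.map l.hom)
  let m : ∀ {l m : Over i} (_ : l ⟶ m), pullback π₀ (F.map l.hom) ⟶ pullback π₀ (F.map m.hom) := fun f => K.map f
  let qc : ∀ l : Over i, A ⟶ pullback π₀ (F.map l.hom) := fun l => cK.π.app l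
  have hm_π : ∀ {l k : Over i} (f : l ⟶ k), m f ≫ π_ k = π_ l ≫ F.map f.left := fun f =>
    prodDia_map_snd (constMap (J := Over i) π₀) tA f
  have hm_fst : ∀ {l k : Over i} (f : l ⟶ k), m f ≫ pullback.fst π₀ (F.map k.hom) = pullback.fst π₀ (F.map l.hom) :=
    fun {l k} f => (prodDia_map_fst (constMap (J := Over i) π₀) tA f).trans (Category.comp_id _)
  have hqc : ∀ l, qc l ≫ π_ l = q₁ ≫ c.π.app l.left := fun l => prodCone_snd _ _ sq l
  haveI : ∀ l, Etale (π_ l) := fun l => MorphismProperty.pullback_snd (P := @Etale) _ _ hE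
  haveI : ∀ l, IsSeparated (π_ l) := fun l => MorphismProperty.pullback_snd (P := @IsSeparated) _ _ hSep
  have ht : ∀ {l k : Over i} (f : l ⟶ k), F.map f.left ≫ t.app k.left = t.app l.left := fun f => map_app t f.left
  let q_ : ∀ l : Over i, pullback π₀ (F.map l.hom) ⟶ S := fun l => π_ l ≫ t.app l.left
  have hm_q : ∀ {l k : Over i} (f : l ⟶ k), m f ≫ q_ k = q_ l := fun {l k} f => by
    show m f ≫ π_ k ≫ t.app k.left = π_ l ≫ t.app l.left
    rw [reassoc_of% hm_π, ht]
  have hmono : ∀ {l k : Over i} (f : l ⟶ k), Mono (m f) := fun {l k} f => ⟨fun {W} p p' hp => by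
    haveI : Mono (F.map f.left) := @mono_of_mono _ _ _ _ _ (F.map f.left) (t.app k.left) (by rw [ht]; infer_instance)
    apply pullback.hom_ext
    · have := congrArg (· ≫ pullback.fst _ _) hp
      simp only [Category.assoc, hm_fst] at this
      exact this
    · have := congrArg (· ≫ π_ k) hp
      simp only [Category.assoc, hm_π] at this
      exact (cancel_mono (F.map f.left)).1 (by simpa only [Category.assoc, π_] using this)⟩
  let e : K ⟶ (Functor.const (Over i)).obj S :=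
    { app := fun l => q_ l
      naturality := fun l k f => (hm_q f).trans (Category.comp_id _).symm }
  have hce : ∀ l, cK.π.app l ≫ e.app l = q₁ ≫ gc := fun l =>
    ((Category.assoc (qc l) (π_ l) (t.app l.left)).symm.trans (congrArg (· ≫ t.app l.left) (hqc l))).trans
      ((Category.assoc q₁ (c.π.app l.left) (t.app l.left)).trans (congrArg (q₁ ≫ ·) (hgc l.left)))
  let P := prodDia (constMap (J := Over i) g) e
  let cP : Cone P := prodCone (cA := constCone T) (cB := cK) (fun _ => Category.id_comp _) hce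
    (IsPullback.of_hasPullback g (q₁ ≫ gc))
  have hcP : IsLimit cP := isLimitProdCone _ _ (isLimitConstCone _) hcK _
  let qq := pullback.fst g g ≫ g
  let Q := prodDia (constMap (J := Over i) qq) e
  let cQ : Cone Q := prodCone (cA := constCone (pullback g g)) (cB := cK) (fun _ => Category.id_comp _) hce
    (IsPullback.of_hasPullback qq (q₁ ≫ gc))
  have hcQ : IsLimit cQ := isLimitProdCone _ _ (isLimitConstCone _) hcK _
  haveI : ∀ {l m : Over i} (f : l ⟶ m), IsAffineHom (F'.map f) := fun f => inferInstanceAs (IsAffineHom (F.map f.left))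
  haveI : ∀ (X : Scheme.{u}) {l m : Over i} (f : l ⟶ m), IsAffineHom (((Functor.const (Over i)).obj X).map f) :=
    fun X l m f => inferInstanceAs (IsAffineHom (𝟙 X))
  haveI : ∀ {l m : Over i} (f : l ⟶ m), IsAffineHom (K.map f) := fun f => isAffineHom_prodDia_map _ _ f
  haveI : ∀ {l m : Over i} (f : l ⟶ m), IsAffineHom (P.map f) := fun f => isAffineHom_prodDia_map _ _ f
  haveI : ∀ {l m : Over i} (f : l ⟶ m), IsAffineHom (Q.map f) := fun f => isAffineHom_prodDia_map _ _ f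
  haveI : ∀ l, CompactSpace (K.obj l) := fun l =>
    QuasiCompact.compactSpace_of_compactSpace (pullback.snd π₀ (F.map l.hom))
  haveI : ∀ l, QuasiSeparatedSpace (K.obj l) := fun l =>
    quasiSeparatedSpace_of_quasiSeparated (pullback.snd π₀ (F.map l.hom))
  haveI : ∀ l, CompactSpace (P.obj l) := fun l =>
    QuasiCompact.compactSpace_of_compactSpace (pullback.snd g (e.app l))
  haveI : ∀ l, QuasiSeparatedSpace (P.obj l) := fun l =>
    quasiSeparatedSpace_of_quasiSeparated (pullback.snd g (e.app l))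
  haveI : ∀ l, CompactSpace (Q.obj l) := fun l =>
    QuasiCompact.compactSpace_of_compactSpace (pullback.snd qq (e.app l))
  haveI : ∀ l, QuasiSeparatedSpace (Q.obj l) := fun l =>
    quasiSeparatedSpace_of_quasiSeparated (pullback.snd qq (e.app l))
  let n : ∀ {l k : Over i} (_ : l ⟶ k), pullback g (q_ l) ⟶ pullback g (q_ k) := fun f => bcMap g (m f) (hm_q f)
  have hnP : ∀ {l k : Over i} (f : l ⟶ k), P.map f = n f := fun f => rfl
  let n₂ : ∀ {l k : Over i} (_ : l ⟶ k), pullback qq (q_ l) ⟶ pullback qq (q_ k) := fun f => bcMap qq (m f) (hm_q f)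
  have hnQ : ∀ {l k : Over i} (f : l ⟶ k), Q.map f = n₂ f := fun f => rfl
  let cp : ∀ l, pullback g (q₁ ≫ gc) ⟶ pullback g (q_ l) := fun l => bcMap g (qc l) (hce l)
  have hcp : ∀ l, cP.π.app l = cp l := fun l => by
    apply pullback.hom_ext
    · exact (prodCone_fst _ _ _ l).trans ((Category.comp_id _).trans (bcMap_fst g (qc l) (hce l)).symm)
    · exact (prodCone_snd _ _ _ l).trans (bcMap_snd g (qc l) (hce l)).symm
  let cq : ∀ l, pullback qq (q₁ ≫ gc) ⟶ pullback qq (q_ l) := fun l => bcMap qq (qc l) (hce l)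
  have hcq : ∀ l, cQ.π.app l = cq l := fun l => by
    apply pullback.hom_ext
    · exact (prodCone_fst _ _ _ l).trans ((Category.comp_id _).trans (bcMap_fst qq (qc l) (hce l)).symm)
    · exact (prodCone_snd _ _ _ l).trans (bcMap_snd qq (qc l) (hce l)).symm
  -- the map descends
  let tP : P ⟶ (Functor.const (Over i)).obj T :=
    { app := fun l => pullback.fst _ _
      naturality := fun l m f => prodDia_map_fst _ _ f }
  obtain ⟨l₁, κ₀, hκ₀, hκπ⟩ := Scheme.exists_π_app_comp_eq_of_locallyOfFinitePresentation P tP D.obj.hom cP hcP k (by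
    ext l : 2
    show cP.π.app l ≫ pullback.fst _ _ = k ≫ D.obj.hom
    rw [prodCone_fst, hk.w]
    exact Category.comp_id _)
  let κ : pullback g (q_ l₁) ⟶ D.obj.left := κ₀
  have hw₁ : κ ≫ D.obj.hom = pullback.fst g (q_ l₁) := hκπ
  have hκ : cp l₁ ≫ κ = k := (congrArg (· ≫ κ) (hcp l₁).symm).trans hκ₀
  let κ_ : ∀ {l : Over i} (_ : l ⟶ l₁), pullback g (q_ l) ⟶ D.obj.left := fun ψ => n ψ ≫ κ
  have hw : ∀ {l : Over i} (ψ : l ⟶ l₁), κ_ ψ ≫ D.obj.hom = pullback.fst g (q_ l) := fun {l} ψ => by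
    show (n ψ ≫ κ) ≫ D.obj.hom = _
    rw [Category.assoc, hw₁]
    exact bcMap_fst g (m ψ) (hm_q ψ)
  let p₁ : ∀ l, Q.obj l ⟶ P.obj l := fun l => pair₁ (g := g) (q_ l)
  let tQ : Q ⟶ (Functor.const (Over i)).obj T :=
    { app := fun l => pair₁ (g := g) (q_ l) ≫ pullback.fst g (q_ l)
      naturality := fun l k f => by
        show n₂ f ≫ pair₁ (q_ k) ≫ pullback.fst g (q_ k) = (pair₁ (q_ l) ≫ pullback.fst g (q_ l)) ≫ 𝟙 T
        simp only [n₂, qq]
        rw [reassoc_of% pair₁_nat (m f) (hm_q f), bcMap_fst, Category.comp_id] }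
  obtain ⟨l₂, ψ₂, h₂⟩ := Scheme.exists_hom_comp_eq_comp_of_locallyOfFiniteType Q tQ D.obj.hom cQ hcQ (i := l₁)
    (pairVal D (q_ l₁) κ hw₁) (pair₁ (q_ l₁) ≫ κ)
    (D.φ _ _ (pair_cond (q_ l₁)) ⟨pair₀ (q_ l₁) ≫ κ, by rw [Category.assoc, hw₁]⟩).2.symm
    (show pair₁ (q_ l₁) ≫ pullback.fst g (q_ l₁) = (pair₁ (q_ l₁) ≫ κ) ≫ D.obj.hom by rw [Category.assoc, hw₁])
    (by
      rw [hcq]
      show cq l₁ ≫ pairVal D (q_ l₁) κ hw₁ = cq l₁ ≫ pair₁ (q_ l₁) ≫ κ
      simp only [cq, qq]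
      rw [pairVal_nat D (qc l₁) (hce l₁) κ hw₁ k hk.w hκ, reassoc_of% pair₁_nat (g := g) (qc l₁) (hce l₁),
        pairVal_of_compat D _ _ hk.w hk.compat]
      exact congrArg (pair₁ (q₁ ≫ gc) ≫ ·) hκ.symm)
  -- monomorphy
  let P' := Over.forget l₁ ⋙ P
  let cP' := cP.whisker (Over.forget l₁)
  have hcP' : IsLimit cP' := (Functor.Initial.isLimitWhiskerEquiv (Over.forget l₁) cP).symm hcP
  have hnn : ∀ {l k : Over l₁} (f : l ⟶ k), n f.left ≫ κ_ k.hom = κ_ l.hom := fun {l k} f => by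
    show n f.left ≫ n k.hom ≫ κ = n l.hom ≫ κ
    rw [← hnP, ← hnP k.hom, ← hnP l.hom]
    exact (Category.assoc _ _ _).symm.trans
      (congrArg (· ≫ κ) ((P.map_comp f.left k.hom).symm.trans (congrArg P.map (Over.w f))))
  let tD : P' ⟶ (Functor.const (Over l₁)).obj D.obj.left :=
    { app := fun l => κ_ l.hom
      naturality := fun l k f => (hnn f).trans (Category.comp_id _).symm }
  have hlim : ∀ {l : Over i} (ψ : l ⟶ l₁), cp l ≫ κ_ ψ = k := fun {l} ψ => by
    show cp l ≫ n ψ ≫ κ = k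
    rw [← hnP, ← hcp]
    exact ((Category.assoc _ _ _).symm.trans (congrArg (· ≫ κ) (cP.w ψ))).trans hκ₀
  have hcD : ∀ l, cP'.π.app l ≫ tD.app l = k := fun l => (congrArg (· ≫ κ_ l.hom) (hcp l.left)).trans (hlim l.hom)
  haveI : ∀ {l m : Over l₁} (f : l ⟶ m), IsAffineHom (P'.map f) := fun f => inferInstanceAs (IsAffineHom (P.map f.left))
  let R := prodDia tD tD
  let cR : Cone R := prodCone hcD hcD (IsPullback.of_hasPullback k k)
  have hcR : IsLimit cR := isLimitProdCone _ _ hcP' hcP' _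
  haveI : ∀ {l m : Over l₁} (f : l ⟶ m), IsAffineHom (R.map f) := fun f => isAffineHom_prodDia_map _ _ f
  haveI : ∀ l : Over i, CompactSpace (pullback g (q_ l) : Scheme.{u}) := fun l => inferInstanceAs (CompactSpace (P.obj l))
  haveI : ∀ l : Over i, QuasiSeparatedSpace (pullback g (q_ l) : Scheme.{u}) := fun l =>
    inferInstanceAs (QuasiSeparatedSpace (P.obj l))
  haveI : ∀ l : Over l₁, QuasiCompact (κ_ l.hom) := fun l => quasiCompact_of_compactSpace _
  haveI : ∀ l : Over l₁, QuasiSeparated (κ_ l.hom) := fun l => inferInstance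
  haveI : ∀ l, CompactSpace (R.obj l) := fun l =>
    QuasiCompact.compactSpace_of_compactSpace (pullback.fst (κ_ l.hom) (κ_ l.hom))
  haveI : ∀ l, QuasiSeparatedSpace (R.obj l) := fun l =>
    quasiSeparatedSpace_of_quasiSeparated (pullback.fst (κ_ l.hom) (κ_ l.hom))
  let a₁ : ∀ l : Over l₁, pullback (κ_ l.hom) (κ_ l.hom) ⟶ pullback π₀ (F.map l₁.hom) := fun l =>
    pullback.fst (κ_ l.hom) (κ_ l.hom) ≫ pullback.snd g (q_ l.left) ≫ m l.hom
  let b₁ : ∀ l : Over l₁, pullback (κ_ l.hom) (κ_ l.hom) ⟶ pullback π₀ (F.map l₁.hom) := fun l =>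
    pullback.snd (κ_ l.hom) (κ_ l.hom) ≫ pullback.snd g (q_ l.left) ≫ m l.hom
  have hTeq : ∀ l : Over l₁, pullback.fst (κ_ l.hom) (κ_ l.hom) ≫ pullback.fst g (q_ l.left) =
      pullback.snd (κ_ l.hom) (κ_ l.hom) ≫ pullback.fst g (q_ l.left) := fun l => by
    have h1 := congrArg (· ≫ D.obj.hom) (pullback.condition (f := κ_ l.hom) (g := κ_ l.hom))
    simp only [Category.assoc, hw] at h1
    exact h1
  let rr : ∀ {l k : Over l₁} (_ : l ⟶ k), pullback (κ_ l.hom) (κ_ l.hom) ⟶ pullback (κ_ k.hom) (κ_ k.hom) :=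
    fun f => R.map f
  have hr_fst : ∀ {l k : Over l₁} (f : l ⟶ k), rr f ≫ pullback.fst (κ_ k.hom) (κ_ k.hom) =
      pullback.fst (κ_ l.hom) (κ_ l.hom) ≫ n f.left := fun f => prodDia_map_fst tD tD f
  have hr_snd : ∀ {l k : Over l₁} (f : l ⟶ k), rr f ≫ pullback.snd (κ_ k.hom) (κ_ k.hom) =
      pullback.snd (κ_ l.hom) (κ_ l.hom) ≫ n f.left := fun f => prodDia_map_snd tD tD f
  have hnm : ∀ {l k : Over l₁} (f : l ⟶ k),
      n f.left ≫ pullback.snd g (q_ k.left) ≫ m k.hom = pullback.snd g (q_ l.left) ≫ m l.hom := fun {l k} f => by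
    simp only [n]
    rw [reassoc_of% bcMap_snd g (m f.left) (hm_q f.left)]
    refine congrArg (pullback.snd g (q_ l.left) ≫ ·) ?_
    exact (K.map_comp f.left k.hom).symm.trans (congrArg K.map (Over.w f))
  have hab : ∀ l, a₁ l ≫ π_ l₁ = b₁ l ≫ π_ l₁ := fun l => by
    rw [← cancel_mono (t.app l₁.left)]
    show (a₁ l ≫ π_ l₁) ≫ t.app l₁.left = (b₁ l ≫ π_ l₁) ≫ t.app l₁.left
    have e1 : ∀ (x : pullback (κ_ l.hom) (κ_ l.hom) ⟶ pullback g (q_ l.left)),
        ((x ≫ pullback.snd g (q_ l.left) ≫ m l.hom) ≫ π_ l₁) ≫ t.app l₁.left = (x ≫ pullback.fst g (q_ l.left)) ≫ g := fun x => by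
      simp only [Category.assoc]
      rw [show m l.hom ≫ π_ l₁ ≫ t.app l₁.left = q_ l.left from hm_q l.hom, pullback.condition]
    show ((_ ≫ _ ≫ _) ≫ _) ≫ _ = ((_ ≫ _ ≫ _) ≫ _) ≫ _
    rw [e1, e1, hTeq]
  let tR : R ⟶ (Functor.const (Over l₁)).obj (F.obj l₁.left) :=
    { app := fun l => a₁ l ≫ π_ l₁
      naturality := fun l k f => by
        show rr f ≫ (pullback.fst (κ_ k.hom) (κ_ k.hom) ≫ pullback.snd g (q_ k.left) ≫ m k.hom) ≫ π_ l₁ =
          (a₁ l ≫ π_ l₁) ≫ 𝟙 _
        rw [Category.comp_id, ← Category.assoc, reassoc_of% hr_fst, hnm] }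
  let top : Over l₁ := Over.mk (𝟙 l₁)
  have hkm := hk.mono
  obtain ⟨l₃, ψ₃, h₃⟩ := Scheme.exists_hom_comp_eq_comp_of_locallyOfFiniteType R tR (π_ l₁) cR hcR (i := top)
    (a₁ top) (b₁ top) rfl (hab top)
    (by
      have hfs : pullback.fst k k = pullback.snd k k := (cancel_mono k).1 pullback.condition
      have ef : cR.π.app top ≫ pullback.fst (κ_ top.hom) (κ_ top.hom) = pullback.fst k k ≫ cP.π.app top.left :=
        prodCone_fst _ _ _ top
      have es : cR.π.app top ≫ pullback.snd (κ_ top.hom) (κ_ top.hom) = pullback.snd k k ≫ cP.π.app top.left :=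
        prodCone_snd _ _ _ top
      exact ((Category.assoc _ _ _).symm.trans (congrArg (· ≫ _) (ef.trans (by rw [hfs])))).trans
        ((congrArg (· ≫ pullback.snd g (q_ top.left) ≫ m top.hom) es.symm).trans (Category.assoc _ _ _)))
  haveI hmono₃ : Mono (κ_ l₃.hom) := ⟨fun {Z} x y h => by
    haveI := hmono l₃.hom
    let r : Z ⟶ pullback (κ_ l₃.hom) (κ_ l₃.hom) := pullback.lift x y h
    apply pullback.hom_ext
    · simpa [r] using congrArg (r ≫ ·) (hTeq l₃)
    · rw [← cancel_mono (m l₃.hom), Category.assoc, Category.assoc]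
      have e₃ : rr ψ₃ ≫ a₁ top = rr ψ₃ ≫ b₁ top := h₃
      simp only [a₁, b₁] at e₃
      rw [reassoc_of% hr_fst, reassoc_of% hr_snd, hnm] at e₃
      simpa [r] using congrArg (r ≫ ·) e₃⟩
  obtain ⟨l, α, β, hαβ⟩ := IsCofiltered.cospan ψ₂ l₃.hom
  let ψ := α ≫ ψ₂
  have hψ : ψ = β ≫ l₃.hom := hαβ
  haveI : Etale (q_ l) := inferInstanceAs (Etale (π_ l ≫ t.app l.left))
  haveI : IsSeparated (q_ l) := inferInstanceAs (IsSeparated (π_ l ≫ t.app l.left))
  refine ⟨pullback π₀ (F.map l.hom), q_ l, inferInstance, inferInstance, κ_ ψ,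
    ⟨hw ψ, compat_of_pairVal D _ _ (hw ψ) ?_, ?_⟩, ?_⟩
  · rw [← pairVal_nat D (m ψ) (hm_q ψ) κ hw₁ (κ_ ψ) (hw ψ) rfl]
    show n₂ ψ ≫ pairVal D (q_ l₁) κ hw₁ = pair₁ (q_ l) ≫ n ψ ≫ κ
    simp only [n]
    rw [← reassoc_of% pair₁_nat (g := g) (m ψ) (hm_q ψ)]
    show n₂ ψ ≫ pairVal D (q_ l₁) κ hw₁ = n₂ ψ ≫ pair₁ (q_ l₁) ≫ κ
    rw [← hnQ, show ψ = α ≫ ψ₂ from rfl, Q.map_comp]
    exact (Category.assoc _ _ _).trans ((congrArg (Q.map α ≫ ·) h₂).trans (Category.assoc _ _ _).symm)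
  · haveI := hmono β
    haveI : Mono (n β) := mono_bcMap g (m β) (hm_q β)
    have : κ_ ψ = n β ≫ κ_ l₃.hom := by
      show n ψ ≫ κ = n β ≫ n l₃.hom ≫ κ
      rw [← hnP, ← hnP β, ← hnP l₃.hom]
      exact (congrArg (fun f => P.map f ≫ κ) hψ).trans
        ((congrArg (· ≫ κ) (P.map_comp β l₃.hom)).trans (Category.assoc _ _ _))
    rw [this]
    exact mono_comp _ _
  · obtain ⟨z, hz⟩ := hd
    refine ⟨cp l z, ?_⟩
    rw [← Scheme.Hom.comp_apply, hlim ψ]
    exact hz

end Groth.Agent.FlatMor12.EtBridge
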