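import Groth.Agent.FlatMor12.EtBridge.Spread
import Groth.Agent.FlatMor12.EtBridge.MonoSecEff
import Groth.Agent.H8Lim.StalkLimit
import Groth.Agent.SubtrLib.Noetherian

/-!
# Effectivity of etale data near a point and at local schemes
-/

set_option autoImplicit false
set_option backward.isDefEq.respectTransparency false
set_option backward.isDefEq.respectTransparency.types false

universe u

open CategoryTheory CategoryTheory.Limits AlgebraicGeometry Desc

namespace Groth.Agent.FlatMor12.EtBridge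

variable {S T : Scheme.{u}} {g : T ⟶ S} {D : Desc.SchDD g}

theorem Good.congr {P : Scheme.{u}} {q q' : P ⟶ S} (e : q = q') {k : pullback g q ⟶ D.obj.left} (h : Good D q k) :
    ∃ k' : pullback g q' ⟶ D.obj.left, Good D q' k' ∧ Set.range k' = Set.range k := by
  subst e; exact ⟨k, h, rfl⟩

theorem Good.precomp {P P' : Scheme.{u}} {q : P ⟶ S} {k : pullback g q ⟶ D.obj.left} (h : Good D q k)
    (m : P' ⟶ P) [Mono m] {q' : P' ⟶ S} (e : m ≫ q = q') : Good D q' (bcMap g m e ≫ k) := by
  haveI := h.mono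
  haveI := mono_bcMap g m e
  refine ⟨by rw [Category.assoc, h.w, bcMap_fst], ?_, mono_comp _ _⟩
  intro Z a b x₀ x₁ ha hb hab hx v hv
  rw [h.compat (a ≫ bcMap g m e) (b ≫ bcMap g m e) x₀ x₁ (by rw [Category.assoc, bcMap_fst, ha])
    (by rw [Category.assoc, bcMap_fst, hb]) (by simp only [Category.assoc, bcMap_snd, reassoc_of% hab]) hx v
    (by rw [hv, Category.assoc]), Category.assoc]

/-- Monomorphic sections restrict along preimmersions of the base. -/
theorem exists_monoSec_pull {S₁ : Scheme.{u}} (p : S₁ ⟶ S) [IsPreimmersion p] {P : Scheme.{u}} {q : P ⟶ S}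
    [Etale q] [IsSeparated q] {k : pullback g q ⟶ D.obj.left} (h : Good D q k)
    (d : (pullDD D (pullback.fst g p) p pullback.condition).obj.left)
    (hd : pullback.fst D.obj.hom (pullback.fst g p) d ∈ Set.range k) :
    ∃ s : Sec (pullDD D (pullback.fst g p) p pullback.condition), Mono s.k ∧ d ∈ Set.range s.k := by
  obtain ⟨z, hz⟩ := hd
  let m : pullback q p ⟶ P := pullback.fst q p
  haveI : Mono m := inferInstance
  have hm : m ≫ q = pullback.snd q p ≫ p := pullback.condition
  haveI : Etale (pullback.snd q p) := MorphismProperty.pullback_snd (P := @Etale) _ _ inferInstance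
  haveI : IsSeparated (pullback.snd q p) := MorphismProperty.pullback_snd (P := @IsSeparated) _ _ inferInstance
  have hg := h.precomp m hm
  obtain ⟨k', hk', hkk⟩ := good_in p hg
  have hsq : IsPullback (bcMap g m hm) (pullback.snd g (pullback.snd q p ≫ p)) (pullback.snd g q) m := by
    refine IsPullback.of_right ?_ (bcMap_snd g m hm) (IsPullback.of_hasPullback g q)
    rw [bcMap_fst, hm]
    exact IsPullback.of_hasPullback g (pullback.snd q p ≫ p)
  have hzp : pullback.snd g q z ∈ Set.range m := by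
    have h1 : g (pullback.fst g q z) = q (pullback.snd g q z) := by
      rw [← Scheme.Hom.comp_apply, ← Scheme.Hom.comp_apply, pullback.condition]
    let d₁ : ↥(pullback g p) := pullback.snd D.obj.hom (pullback.fst g p) d
    have h2 : pullback.fst g p d₁ = pullback.fst g q z := by
      show pullback.fst g p (pullback.snd D.obj.hom (pullback.fst g p) d) = _
      rw [← Scheme.Hom.comp_apply, ← pullback.condition, Scheme.Hom.comp_apply, ← hz, ← Scheme.Hom.comp_apply, h.w]
    obtain ⟨w, hw, -⟩ := Scheme.Pullback.exists_preimage_pullback (f := q) (g := p) (pullback.snd g q z)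
      (pullback.snd g p d₁) (h1.symm.trans ((congrArg g h2.symm).trans ((Scheme.Hom.comp_apply _ _ d₁).symm.trans
        ((congrArg (fun f : pullback g p ⟶ S => f d₁) pullback.condition).trans (Scheme.Hom.comp_apply _ _ d₁)))))
    exact ⟨w, hw⟩
  obtain ⟨w, hw⟩ := hzp
  obtain ⟨z', hz', -⟩ := Scheme.exists_preimage_of_isPullback hsq z w hw.symm
  haveI : IsPreimmersion (pullback.fst g p) := MorphismProperty.pullback_fst (P := @IsPreimmersion) _ _ inferInstance
  haveI : IsPreimmersion (pullback.fst D.obj.hom (pullback.fst g p)) :=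
    MorphismProperty.pullback_fst (P := @IsPreimmersion) _ _ inferInstance
  refine ⟨hk'.sec, hk'.mono, outMap p z', ?_⟩
  apply (pullback.fst D.obj.hom (pullback.fst g p)).isEmbedding.injective
  have e : outMap p ≫ k' ≫ pullback.fst D.obj.hom (pullback.fst g p) = bcMap g m hm ≫ k := by
    rw [hkk, ← Category.assoc, outMap_inMap, Category.id_comp]
  show (outMap p ≫ k' ≫ pullback.fst D.obj.hom (pullback.fst g p)) z' = _
  refine (congrArg (fun f => f z') e).trans ?_
  show (bcMap g m hm ≫ k) z' = _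
  rw [Scheme.Hom.comp_apply, hz', hz]

/-- A monomorphic section over a local scheme spreads out. -/
theorem exists_monoSec_of_stalk [QuasiCompact g] [QuasiSeparated g] [Etale D.obj.hom] [QuasiCompact D.obj.hom]
    [QuasiSeparated D.obj.hom] {a : S} {A : Scheme.{u}} [IsAffine A] (q : A ⟶ Spec (S.presheaf.stalk a)) [Etale q]
    [IsSeparated q] {k : pullback g (q ≫ S.fromSpecStalk a) ⟶ D.obj.left} (h : Good D (q ≫ S.fromSpecStalk a) k)
    {d : D.obj.left} (hd : d ∈ Set.range k) :
    ∃ (P : Scheme.{u}) (q' : P ⟶ S), Etale q' ∧ IsSeparated q' ∧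
      ∃ k' : pullback g q' ⟶ D.obj.left, Good D q' k' ∧ d ∈ Set.range k' := by
  obtain ⟨W, hW, haW, -⟩ := exists_isAffineOpen_mem_and_subset (U := ⊤) (x := a) trivial
  haveI : IsAffine (W : Scheme.{u}) := hW
  let a' : (W : Scheme.{u}) := ⟨a, haW⟩
  let e : Spec ((W : Scheme.{u}).presheaf.stalk a') ⟶ Spec (S.presheaf.stalk a) := Spec.map (W.ι.stalkMap a')
  haveI : IsIso e := inferInstanceAs (IsIso (Spec.map (W.ι.stalkMap a')))
  have he : e ≫ S.fromSpecStalk a = (W : Scheme.{u}).fromSpecStalk a' ≫ W.ι :=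
    Scheme.SpecMap_stalkMap_fromSpecStalk W.ι
  let q₁ : A ⟶ Spec ((W : Scheme.{u}).presheaf.stalk a') := q ≫ inv e
  have hq₁ : q ≫ S.fromSpecStalk a = (q₁ ≫ (W : Scheme.{u}).fromSpecStalk a') ≫ W.ι := by
    rw [Category.assoc, ← he]
    simp [q₁]
  obtain ⟨k₁, hk₁, hrange⟩ := h.congr hq₁
  obtain ⟨z, hz⟩ := hrange.ge hd
  obtain ⟨k₂, hk₂, hkk⟩ := good_in W.ι hk₁
  let gW := pullback.snd g W.ι
  let DW := pullDD D (pullback.fst g W.ι) W.ι pullback.condition
  haveI : Etale DW.obj.hom := inferInstanceAs (Etale (pullDD D (pullback.fst g W.ι) W.ι pullback.condition).obj.hom)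
  haveI : QuasiCompact DW.obj.hom := MorphismProperty.pullback_snd (P := @QuasiCompact) _ _ inferInstance
  haveI : QuasiSeparated DW.obj.hom := MorphismProperty.pullback_snd (P := @QuasiSeparated) _ _ inferInstance
  haveI : CompactSpace (pullback g W.ι : Scheme.{u}) := QuasiCompact.compactSpace_of_compactSpace gW
  haveI : QuasiSeparatedSpace (pullback g W.ι : Scheme.{u}) := quasiSeparatedSpace_of_quasiSeparated gW
  haveI : CompactSpace DW.obj.left := QuasiCompact.compactSpace_of_compactSpace DW.obj.hom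
  haveI : QuasiSeparatedSpace DW.obj.left := quasiSeparatedSpace_of_quasiSeparated DW.obj.hom
  let F := H8Lim.StalkLimit.diagram a'
  let t : F ⟶ (Functor.const _).obj (W : Scheme.{u}) :=
    { app := fun V => H8Lim.StalkLimit.incMap a' V
      naturality := fun V V' f => (H8Lim.StalkLimit.map_incMap a' f).trans (Category.comp_id _).symm }
  haveI : ∀ V, IsOpenImmersion (t.app V) := fun V => inferInstanceAs (IsOpenImmersion (H8Lim.StalkLimit.incMap a' V))
  haveI : ∀ V, IsAffine (F.obj V) := fun V => inferInstance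
  haveI : IsAffine (H8Lim.StalkLimit.cone a').pt := inferInstanceAs (IsAffine (Spec _))
  haveI : Etale q₁ := inferInstanceAs (Etale (q ≫ inv e))
  haveI : IsSeparated q₁ := inferInstanceAs (IsSeparated (q ≫ inv e))
  haveI : QuasiCompact q₁ := inferInstance
  obtain ⟨P, q', hq', hqs', k₃, hk₃, w, hw⟩ := exists_good_stage DW (H8Lim.StalkLimit.isLimitCone a') t
    (H8Lim.StalkLimit.cone_incMap a') q₁ k₂ hk₂ ⟨outMap W.ι z, rfl⟩
  refine ⟨P, q' ≫ W.ι, inferInstance, inferInstance, _, good_out W.ι hk₃, inMap W.ι w, ?_⟩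
  rw [← Scheme.Hom.comp_apply, ← Category.assoc, inMap_outMap, Category.id_comp, Scheme.Hom.comp_apply, hw]
  have e : outMap W.ι ≫ k₂ ≫ pullback.fst D.obj.hom (pullback.fst g W.ι) = k₁ := by
    rw [hkk, ← Category.assoc, outMap_inMap, Category.id_comp]
  show (outMap W.ι ≫ k₂ ≫ pullback.fst D.obj.hom (pullback.fst g W.ι)) z = d
  exact (congrArg (fun f => f z) e).trans hz

variable {D' : SchDDFam (fun _ : PUnit.{1} => g)} [Etale (D'.obj PUnit.unit).hom]

/-- The datum over a base change, in one-member form. -/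
noncomputable abbrev pullFam (D' : SchDDFam (fun _ : PUnit.{1} => g)) {S₁ : Scheme.{u}} (p : S₁ ⟶ S) :
    SchDDFam (fun _ : PUnit.{1} => pullback.snd g p) :=
  (pullDDFam (f := fun _ : PUnit.{1} => g) (f' := fun _ : PUnit.{1} => pullback.snd g p)
    (α := id) (p := p) (p' := fun _ => pullback.fst g p) (fun _ => pullback.condition)).obj D'

/-- Effectivity over a preimmersion from sections covering the points over it. -/
theorem effective_pull_of_secs (hg : SGA1.UnivSubmersive g) {S₁ : Scheme.{u}} (p : S₁ ⟶ S) [IsPreimmersion p]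
    (h : ∀ d : (D'.obj PUnit.unit).left, g ((D'.obj PUnit.unit).hom d) ∈ Set.range p →
      ∃ (P : Scheme.{u}) (q : P ⟶ S), Etale q ∧ IsSeparated q ∧
        ∃ k : pullback g q ⟶ ((SchDDFam.toSchDD g).obj D').obj.left,
          Good ((SchDDFam.toSchDD g).obj D') q k ∧ d ∈ Set.range k) :
    ∃ U : Over S₁, Etale U.hom ∧
      Nonempty ((toDDFam (fun _ : PUnit.{1} => pullback.snd g p)).obj U ≅ pullFam D' p) := by
  haveI : Etale ((pullFam D' p).obj PUnit.unit).hom :=
    MorphismProperty.pullback_snd (P := @Etale) (D'.obj PUnit.unit).hom (pullback.fst g p) inferInstance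
  refine effective_fam_of_hasMonoSecs (MorphismProperty.pullback_snd (P := SGA1.UnivSubmersive.{u}) g p hg)
    (pullFam D' p) fun d => ?_
  let D := (SchDDFam.toSchDD g).obj D'
  let d' : (pullDD D (pullback.fst g p) p pullback.condition).obj.left := d
  obtain ⟨P, q, hq, hqs, k, hk, hd⟩ := h (pullback.fst D.obj.hom (pullback.fst g p) d') (by
    refine ⟨pullback.snd g p (pullback.snd D.obj.hom (pullback.fst g p) d'), ?_⟩
    show p (pullback.snd g p _) = g (D.obj.hom _)
    rw [← Scheme.Hom.comp_apply, ← pullback.condition, Scheme.Hom.comp_apply,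
      ← Scheme.Hom.comp_apply (pullback.snd D.obj.hom (pullback.fst g p)), ← pullback.condition]
    rfl)
  exact exists_monoSec_pull p hk d' hd

/-- Sections from effectivity over a monomorphism. -/
theorem secs_of_effective_open (W : S.Opens)
    (h : ∃ U : Over (W : Scheme.{u}), Etale U.hom ∧
      Nonempty ((toDDFam (fun _ : PUnit.{1} => pullback.snd g W.ι)).obj U ≅ pullFam D' W.ι))
    (d : (D'.obj PUnit.unit).left) (hd : g ((D'.obj PUnit.unit).hom d) ∈ W) :
    ∃ (P : Scheme.{u}) (q : P ⟶ S), Etale q ∧ IsSeparated q ∧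
      ∃ k : pullback g q ⟶ ((SchDDFam.toSchDD g).obj D').obj.left,
        Good ((SchDDFam.toSchDD g).obj D') q k ∧ d ∈ Set.range k := by
  obtain ⟨U, hU, hi⟩ := h
  obtain ⟨e⟩ := nonempty_iso_schDD W.ι D' hi
  obtain ⟨A, q, hA, hq, hqs, k, hk, hd'⟩ := exists_good_of_iso_pull W.ι ((SchDDFam.toSchDD g).obj D') e d
    (by rw [Scheme.Opens.range_ι]; exact hd)
  exact ⟨A, q ≫ W.ι, inferInstance, inferInstance, k, hk, hd'⟩

variable [QuasiCompact g] [QuasiSeparated g] [QuasiCompact (D'.obj PUnit.unit).hom]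
  [QuasiSeparated (D'.obj PUnit.unit).hom]

/-- Sections from effectivity at a local scheme. -/
theorem secs_of_effective_stalk (a : S)
    (h : ∃ U : Over (Spec (S.presheaf.stalk a)), Etale U.hom ∧
      Nonempty ((toDDFam (fun _ : PUnit.{1} => pullback.snd g (S.fromSpecStalk a))).obj U ≅
        pullFam D' (S.fromSpecStalk a)))
    (d : (D'.obj PUnit.unit).left) (hd : g ((D'.obj PUnit.unit).hom d) ⤳ a) :
    ∃ (P : Scheme.{u}) (q : P ⟶ S), Etale q ∧ IsSeparated q ∧
      ∃ k : pullback g q ⟶ ((SchDDFam.toSchDD g).obj D').obj.left,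
        Good ((SchDDFam.toSchDD g).obj D') q k ∧ d ∈ Set.range k := by
  obtain ⟨U, hU, hi⟩ := h
  obtain ⟨e⟩ := nonempty_iso_schDD (S.fromSpecStalk a) D' hi
  let D := (SchDDFam.toSchDD g).obj D'
  haveI : Etale D.obj.hom := ‹Etale (D'.obj PUnit.unit).hom›
  haveI : QuasiCompact D.obj.hom := ‹QuasiCompact (D'.obj PUnit.unit).hom›
  haveI : QuasiSeparated D.obj.hom := ‹QuasiSeparated (D'.obj PUnit.unit).hom›
  obtain ⟨A, q, hA, hq, hqs, k, hk, hd'⟩ := exists_good_of_iso_pull (S.fromSpecStalk a) D e d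
    (by rw [Scheme.range_fromSpecStalk]; exact hd)
  exact exists_monoSec_of_stalk q hk hd'

/-- Effectivity near a point from effectivity at the local scheme. -/
theorem effective_nhd_of_stalk (hg : SGA1.UnivSubmersive g) (a : S)
    (h : ∃ U : Over (Spec (S.presheaf.stalk a)), Etale U.hom ∧
      Nonempty ((toDDFam (fun _ : PUnit.{1} => pullback.snd g (S.fromSpecStalk a))).obj U ≅
        pullFam D' (S.fromSpecStalk a))) :
    ∃ W : S.Opens, a ∈ W ∧ ∃ U : Over (W : Scheme.{u}), Etale U.hom ∧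
      Nonempty ((toDDFam (fun _ : PUnit.{1} => pullback.snd g W.ι)).obj U ≅ pullFam D' W.ι) := by
  let D := (SchDDFam.toSchDD g).obj D'
  haveI : Etale D.obj.hom := ‹Etale (D'.obj PUnit.unit).hom›
  haveI : QuasiCompact D.obj.hom := ‹QuasiCompact (D'.obj PUnit.unit).hom›
  let C : Set D.obj.left := {d | ∃ (P : Scheme.{u}) (q : P ⟶ S), Etale q ∧ IsSeparated q ∧
    ∃ k : pullback g q ⟶ D.obj.left, Good D q k ∧ d ∈ Set.range k}
  have hC : IsOpen C := by
    refine isOpen_iff_forall_mem_open.2 fun d ⟨P, q, hq, hqs, k, hk, hd⟩ => ?_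
    refine ⟨Set.range k, fun d' hd' => ⟨P, q, hq, hqs, k, hk, hd'⟩, ?_, hd⟩
    haveI : Etale (k ≫ D.obj.hom) := by
      rw [hk.w]; exact MorphismProperty.pullback_fst (P := @Etale) _ _ hq
    haveI : Etale k := Etale.of_comp k D.obj.hom
    exact k.isOpenMap.isOpen_range
  obtain ⟨W, hW, haW, -⟩ := exists_isAffineOpen_mem_and_subset (U := ⊤) (x := a) trivial
  haveI : IsAffine (W : Scheme.{u}) := hW
  let f : pullback D.obj.hom (pullback.fst g W.ι) ⟶ (W : Scheme.{u}) :=
    pullback.snd D.obj.hom (pullback.fst g W.ι) ≫ pullback.snd g W.ι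
  haveI : QuasiCompact f := inferInstance
  let Z : Set ↥(W : Scheme.{u}) := f '' (pullback.fst D.obj.hom (pullback.fst g W.ι) ⁻¹' Cᶜ)
  have hZ : ProCons.IsProConstructible Z :=
    H8ProCons.isProConstructible_image f (H8ProCons.isProConstructible_iff_compl.2
      (H8ProCons.isIndConstructible_of_isOpen
        ((hC.isClosed_compl.preimage (pullback.fst D.obj.hom (pullback.fst g W.ι)).continuous).isOpen_compl)))
  let a' : ↥(W : Scheme.{u}) := ⟨a, haW⟩
  have ha' : a' ∉ closure Z := fun hcl => by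
    obtain ⟨b, ⟨z, hz, rfl⟩, hb⟩ := SubtrLib.exists_specializes_of_mem_closure_proCons hZ hcl
    refine hz (secs_of_effective_stalk a h _ ?_)
    have : g (D.obj.hom (pullback.fst D.obj.hom (pullback.fst g W.ι) z)) = W.ι (f z) := by
      simp only [← Scheme.Hom.comp_apply, f, Category.assoc, ← pullback.condition (f := g) (g := W.ι),
        pullback.condition_assoc]
    show g (D.obj.hom _) ⤳ a
    rw [this]
    exact hb.map W.ι.continuous
  let V : S.Opens := W.ι ''ᵁ ⟨(closure Z)ᶜ, isClosed_closure.isOpen_compl⟩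
  refine ⟨V, ⟨a', ha', rfl⟩, effective_pull_of_secs hg V.ι fun d hd => ?_⟩
  rw [Scheme.Opens.range_ι] at hd
  obtain ⟨b, hb, hbd⟩ := hd
  by_contra hd'
  obtain ⟨t, ht₁, ht₂⟩ := Scheme.Pullback.exists_preimage_pullback (f := g) (g := W.ι) (D.obj.hom d) b hbd.symm
  obtain ⟨z, hz₁, hz₂⟩ := Scheme.Pullback.exists_preimage_pullback (f := D.obj.hom) (g := pullback.fst g W.ι) d t ht₁.symm
  exact hb (subset_closure ⟨z, by rw [Set.mem_preimage, hz₁]; exact hd', by
    show f z = b
    rw [Scheme.Hom.comp_apply, hz₂, ht₂]⟩)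

end Groth.Agent.FlatMor12.EtBridge
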